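import Cfsg.Prelude.Def_LieTypeDatum

/-!
# Splitting of classes: `splitClassCount` as an index
-/

set_option autoImplicit false

namespace CfsgLib.AutPSL

open Cfsg

variable {X A M : Type*} [Group X] [Group A] [CommGroup M]

theorem isConjUnder_refl (H : Subgroup X) (x : X) : Cfsg.IsConjUnder H x x :=
  ⟨1, H.one_mem, by simp⟩

theorem isConjUnder_symm {H : Subgroup X} {x y : X} (h : Cfsg.IsConjUnder H x y) :
    Cfsg.IsConjUnder H y x := by
  obtain ⟨a, ha, rfl⟩ := h
  exact ⟨a⁻¹, H.inv_mem ha, by group⟩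

theorem isConjUnder_trans {H : Subgroup X} {x y z : X} (h : Cfsg.IsConjUnder H x y)
    (h' : Cfsg.IsConjUnder H y z) : Cfsg.IsConjUnder H x z := by
  obtain ⟨a, ha, rfl⟩ := h
  obtain ⟨b, hb, rfl⟩ := h'
  exact ⟨b * a, H.mul_mem hb ha, by group⟩

/-- If `H = φ(A)`, `K = φ(S)` with `S` normal, then the `H`-class of `x` splits into
`[A : S · φ⁻¹(C(x))]` classes under `K`. -/
theorem splitClassCount_eq_index (φ : A →* X) (S : Subgroup A) [S.Normal] (x : X) :
    Cfsg.splitClassCount φ.range (S.map φ) x =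
      (S ⊔ (Subgroup.centralizer ({x} : Set X)).comap φ).index := by
  set T := (Subgroup.centralizer ({x} : Set X)).comap φ with hT
  have hTmem : ∀ a, a ∈ T ↔ φ a * x = x * φ a := by
    intro a
    rw [hT, Subgroup.mem_comap, Subgroup.mem_centralizer_singleton_iff]
  rw [Cfsg.splitClassCount, Subgroup.index]
  have key : ∀ a b : A, Cfsg.IsConjUnder (S.map φ) (φ a * x * (φ a)⁻¹) (φ b * x * (φ b)⁻¹) ↔
      a⁻¹ * b ∈ S ⊔ T := by
    intro a b
    constructor
    · rintro ⟨_, ⟨s, hs, rfl⟩, e⟩
      have h1 : (a⁻¹ * s⁻¹ * b) ∈ T := by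
        rw [hTmem, map_mul, map_mul, map_inv, map_inv]
        have e' : φ b * x = φ s * (φ a * x * (φ a)⁻¹) * (φ s)⁻¹ * φ b := by
          rw [← e, inv_mul_cancel_right]
        rw [mul_assoc, e']
        group
      have : a⁻¹ * b = (a⁻¹ * s * a) * (a⁻¹ * s⁻¹ * b) := by group
      rw [this]
      refine Subgroup.mul_mem _ (Subgroup.mem_sup_left ?_) (Subgroup.mem_sup_right h1)
      simpa using (inferInstance : S.Normal).conj_mem s hs a⁻¹
    · intro h
      rw [← SetLike.mem_coe, Subgroup.normal_mul, Set.mem_mul] at h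
      obtain ⟨s, hs, t, ht, hst⟩ := h
      refine ⟨φ (a * s * a⁻¹), Subgroup.mem_map_of_mem _ ((inferInstance : S.Normal).conj_mem s hs a), ?_⟩
      have hb : b = a * s * t := by rw [mul_assoc, hst, mul_inv_cancel_left]
      have hxt : φ t * x * (φ t)⁻¹ = x := by
        rw [mul_inv_eq_iff_eq_mul]
        exact (hTmem t).1 ht
      rw [hb, map_mul, map_mul, map_mul, map_mul, map_inv]
      calc φ a * φ s * φ t * x * (φ a * φ s * φ t)⁻¹
          = φ a * φ s * (φ t * x * (φ t)⁻¹) * (φ a * φ s)⁻¹ := by group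
        _ = φ a * φ s * x * (φ a * φ s)⁻¹ := by rw [hxt]
        _ = _ := by group
  symm
  refine Nat.card_eq_of_bijective (Quotient.lift (fun a : A =>
      Quot.mk (fun y z : {y : X // Cfsg.IsConjUnder φ.range x y} => Cfsg.IsConjUnder (S.map φ) y.1 z.1)
        ⟨φ a * x * (φ a)⁻¹, φ a, ⟨a, rfl⟩, rfl⟩) ?_) ⟨?_, ?_⟩
  · intro a b hab
    exact Quot.sound ((key a b).2 (QuotientGroup.leftRel_apply.1 hab))
  · intro qa qb
    induction qa using Quotient.inductionOn with
    | h a =>
    induction qb using Quotient.inductionOn with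
    | h b =>
    intro h
    simp only [Quotient.lift_mk] at h
    have hequiv : Equivalence (fun y z : {y : X // Cfsg.IsConjUnder φ.range x y} =>
        Cfsg.IsConjUnder (S.map φ) y.1 z.1) :=
      ⟨fun y => isConjUnder_refl _ _, fun h => isConjUnder_symm h, fun h h' => isConjUnder_trans h h'⟩
    exact Quotient.sound (QuotientGroup.leftRel_apply.2 ((key a b).1 (hequiv.eqvGen_iff.1 (Quot.eqvGen_exact h))))
  · intro q
    induction q using Quot.inductionOn with
    | h y =>
    obtain ⟨y, h, ⟨a, rfl⟩, rfl⟩ := y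
    exact ⟨Quotient.mk'' a, rfl⟩

/-- A subgroup containing the kernel of a surjection has the index of its image. -/
theorem index_eq_map_index (f : A →* M) (hf : Function.Surjective f) (S : Subgroup A) (hS : f.ker ≤ S) :
    S.index = (S.map f).index :=
  (Subgroup.index_map_eq S hf hS).symm

/-- In a finite cyclic group the index of a join is the gcd of the indices. -/
theorem index_sup_of_isCyclic [Finite M] [IsCyclic M] (U V : Subgroup M) :
    (U ⊔ V).index = Nat.gcd U.index V.index := by
  classical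
  have : Fintype M := Fintype.ofFinite M
  refine Nat.dvd_antisymm (Nat.dvd_gcd (Subgroup.index_dvd_of_le le_sup_left)
    (Subgroup.index_dvd_of_le le_sup_right)) ?_
  -- the kernel of the `k`-th power map contains both
  set g := Nat.gcd U.index V.index with hg
  have hN : g ∣ Nat.card M := (Nat.gcd_dvd_left _ _).trans U.index_dvd_card
  have hle : ∀ W : Subgroup M, g ∣ W.index → W ≤ (powMonoidHom (Nat.card M / g) : M →* M).ker := by
    intro W hW w hw
    rw [MonoidHom.mem_ker, powMonoidHom_apply]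
    have hdvd : Nat.card W ∣ Nat.card M / g := by
      obtain ⟨k, hk⟩ := hW
      refine ⟨k, ?_⟩
      rw [← W.card_mul_index, hk, ← mul_assoc, mul_comm _ g, mul_assoc, Nat.mul_div_cancel_left]
      exact Nat.pos_of_ne_zero fun h0 => by simp [h0] at hk; exact W.index_ne_zero_of_finite hk
    obtain ⟨k, hk⟩ := hdvd
    have hw1 : w ^ Nat.card W = 1 := congrArg Subtype.val (pow_card_eq_one' (x := (⟨w, hw⟩ : W)))
    rw [hk, pow_mul, hw1, one_pow]
  have hidx : (powMonoidHom (Nat.card M / g) : M →* M).ker.index = g := by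
    rw [IsCyclic.index_powMonoidHom_ker]
    rw [Nat.gcd_eq_right (Nat.div_dvd_of_dvd hN),
      Nat.div_div_self hN Nat.card_pos.ne']
  rw [← hidx]
  exact Subgroup.index_dvd_of_le (sup_le (hle U (Nat.gcd_dvd_left _ _)) (hle V (Nat.gcd_dvd_right _ _)))

end CfsgLib.AutPSL
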