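import Cfsg.Agent.AutPSL.Realise

/-!
# Twisted norms and Galois descent for `GL_n` over a finite field
-/

set_option autoImplicit false

namespace CfsgLib.AutPSL

open Matrix

variable {ι : Type*} [Fintype ι] [DecidableEq ι] {F : Type*} [Field F]

/-- The twisted norm `g * σ(g) * ... * σ^(k-1)(g)`. -/
def twNorm (σ : F ≃+* F) (g : GL ι F) : ℕ → GL ι F
  | 0 => 1
  | k + 1 => g * mapGL σ (twNorm σ g k)

@[simp] theorem twNorm_zero (σ : F ≃+* F) (g : GL ι F) : twNorm σ g 0 = 1 := rfl

theorem twNorm_succ (σ : F ≃+* F) (g : GL ι F) (k : ℕ) :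
    twNorm σ g (k + 1) = g * mapGL σ (twNorm σ g k) := rfl

theorem mapGL_one_apply (g : GL ι F) : mapGL (1 : F ≃+* F) g = g := by
  apply Units.ext; ext i j; rfl

theorem mapGL_mul_apply (σ τ : F ≃+* F) (g : GL ι F) : mapGL (σ * τ) g = mapGL σ (mapGL τ g) := by
  apply Units.ext; ext i j; rfl

theorem twNorm_add (σ : F ≃+* F) (g : GL ι F) (a b : ℕ) :
    twNorm σ g (a + b) = twNorm σ g a * mapGL (σ ^ a) (twNorm σ g b) := by
  induction a with
  | zero => rw [Nat.zero_add, pow_zero, mapGL_one_apply, twNorm_zero, one_mul]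
  | succ a ih =>
    rw [Nat.succ_add, twNorm_succ, ih, map_mul, twNorm_succ, pow_succ', mapGL_mul_apply, mul_assoc]

theorem twNorm_one (σ : F ≃+* F) (g : GL ι F) : twNorm σ g 1 = g := by
  rw [twNorm_succ, twNorm_zero, map_one, mul_one]

theorem twNorm_succ' (σ : F ≃+* F) (g : GL ι F) (k : ℕ) :
    twNorm σ g (k + 1) = twNorm σ g k * mapGL (σ ^ k) g := by
  rw [twNorm_add, twNorm_one]

theorem conjSL_fieldSL_pow (σ : F ≃+* F) (g : GL ι F) (k : ℕ) :
    (conjSL g * fieldSL σ) ^ k = conjSL (twNorm σ g k) * fieldSL (σ ^ k) := by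
  induction k with
  | zero => simp
  | succ k ih =>
    rw [pow_succ', ih, mul_assoc, ← mul_assoc (fieldSL σ), fieldSL_mul_conjSL, twNorm_succ, map_mul,
      pow_succ', map_mul]
    simp only [mul_assoc]

/-- A scalar twisted norm is fixed by `σ`. -/
theorem twNorm_scalar_fixed [Nonempty ι] {σ : F ≃+* F} {g : GL ι F} {r : ℕ} (hσ : σ ^ r = 1) {c : Fˣ}
    (hc : twNorm σ g r = Matrix.GeneralLinearGroup.scalar ι c) : σ c = c := by
  have h1 := twNorm_succ σ g r
  rw [twNorm_succ', hσ, mapGL_one_apply, hc] at h1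
  have hcen : Matrix.GeneralLinearGroup.scalar ι c ∈ Subgroup.center (GL ι F) := by
    rw [Matrix.GeneralLinearGroup.center_eq_range_scalar]; exact ⟨c, rfl⟩
  rw [← Subgroup.mem_center_iff.1 hcen g, mul_right_inj] at h1
  obtain ⟨i⟩ := ‹Nonempty ι›
  have := congrArg (fun M : GL ι F => (M : Matrix ι ι F) i i) h1
  simpa using this.symm

/-- `v ↦ g σ(v)`. -/
def semiVec (σ : F ≃+* F) (g : GL ι F) (v : ι → F) : ι → F :=
  (g : Matrix ι ι F) *ᵥ (σ ∘ v)

theorem semiVec_iterate (σ : F ≃+* F) (g : GL ι F) (k : ℕ) (v : ι → F) :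
    (semiVec σ g)^[k] v = (twNorm σ g k : Matrix ι ι F) *ᵥ ((σ ^ k : F ≃+* F) ∘ v) := by
  induction k with
  | zero =>
    simp only [Function.iterate_zero, id_eq, twNorm_zero, Units.val_one, Matrix.one_mulVec, pow_zero]
    rfl
  | succ k ih =>
    rw [Function.iterate_succ_apply', ih, twNorm_succ, Units.val_mul, ← Matrix.mulVec_mulVec]
    unfold semiVec
    congr 1
    funext i
    rw [Function.comp_apply]
    have h2 := RingHom.map_mulVec σ.toRingHom (twNorm σ g k : Matrix ι ι F) ((σ ^ k : F ≃+* F) ∘ v) i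
    refine Eq.trans h2 ?_
    rw [pow_succ']
    rfl

theorem pow_injOn_of_orderOf {σ : F ≃+* F} {r : ℕ} (hr : orderOf σ = r) :
    Function.Injective (fun i : Fin r => (((σ ^ (i : ℕ) : F ≃+* F) : F →+* F) : F →* F)) := by
  intro i j h
  have h' : (σ ^ (i : ℕ) : F ≃+* F) = σ ^ (j : ℕ) := RingEquiv.ext fun x => DFunLike.congr_fun h x
  exact Fin.ext (pow_injOn_Iio_orderOf (by rw [Set.mem_Iio, hr]; exact i.2)
    (by rw [Set.mem_Iio, hr]; exact j.2) h')

/-- **Galois descent** (Lang's theorem for `GL_n` and a finite-order field automorphism): a matrix of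
twisted norm one is a twisted coboundary. -/
theorem exists_eq_mul_map_inv {σ : F ≃+* F} {r : ℕ} (hr : orderOf σ = r) (hr0 : 0 < r) {g : GL ι F}
    (hg : twNorm σ g r = 1) : ∃ h : GL ι F, g = h * (mapGL σ h)⁻¹ := by
  classical
  let L : Set (ι → F) := {v | semiVec σ g v = v}
  have hfix : ∀ v : ι → F, (semiVec σ g)^[r] v = v := by
    intro v
    rw [semiVec_iterate, hg, ← hr, pow_orderOf_eq_one]
    simp only [Units.val_one, Matrix.one_mulVec]
    rfl
  have hTadd : ∀ a b : ι → F, semiVec σ g (a + b) = semiVec σ g a + semiVec σ g b := by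
    intro a b
    unfold semiVec
    rw [← Matrix.mulVec_add]
    congr 1
    funext i
    simp
  let T : (ι → F) →+ (ι → F) := AddMonoidHom.mk' (semiVec σ g) hTadd
  have hspan : Submodule.span F L = ⊤ := by
    by_contra hne
    obtain ⟨φ, hφ0, hφ⟩ := Submodule.exists_dual_map_eq_bot_of_lt_top (lt_top_iff_ne_top.2 hne) inferInstance
    apply hφ0
    refine LinearMap.ext fun v => ?_
    have hlin : ∀ a : F, ∑ i : Fin r, φ ((semiVec σ g)^[(i : ℕ)] v) * (σ ^ (i : ℕ) : F ≃+* F) a = 0 := by
      intro a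
      have hmem : ∑ i : Fin r, (semiVec σ g)^[(i : ℕ)] (a • v) ∈ L := by
        change T (∑ i : Fin r, (semiVec σ g)^[(i : ℕ)] (a • v)) = _
        rw [map_sum, Fin.sum_univ_eq_sum_range (fun i => T ((semiVec σ g)^[i] (a • v))),
          Fin.sum_univ_eq_sum_range (fun i => (semiVec σ g)^[i] (a • v))]
        have : ∀ i, T ((semiVec σ g)^[i] (a • v)) = (semiVec σ g)^[i + 1] (a • v) :=
          fun i => (Function.iterate_succ_apply' _ _ _).symm
        simp only [this]
        have h1 := Finset.sum_range_succ' (fun i => (semiVec σ g)^[i] (a • v)) r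
        rw [Finset.sum_range_succ, hfix] at h1
        exact add_right_cancel (b := a • v) h1.symm
      have h0 : φ (∑ i : Fin r, (semiVec σ g)^[(i : ℕ)] (a • v)) = 0 := by
        have : φ (∑ i : Fin r, (semiVec σ g)^[(i : ℕ)] (a • v)) ∈ (Submodule.span F L).map φ :=
          Submodule.mem_map_of_mem (Submodule.subset_span hmem)
        rwa [hφ, Submodule.mem_bot] at this
      rw [map_sum] at h0
      rw [← h0]
      refine Finset.sum_congr rfl fun i _ => ?_
      rw [semiVec_iterate, semiVec_iterate,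
        show ((σ ^ (i : ℕ) : F ≃+* F) ∘ (a • v)) = (σ ^ (i : ℕ) : F ≃+* F) a • ((σ ^ (i : ℕ) : F ≃+* F) ∘ v) by
          funext x; simp,
        Matrix.mulVec_smul, map_smul, smul_eq_mul, mul_comm]
    have hind := (linearIndependent_monoidHom F F).comp _ (pow_injOn_of_orderOf hr)
    rw [Fintype.linearIndependent_iff] at hind
    have := hind (fun i : Fin r => φ ((semiVec σ g)^[(i : ℕ)] v)) (by
      funext a
      rw [Finset.sum_apply]
      simpa using hlin a) ⟨0, hr0⟩
    simpa using this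
  let B := Module.Basis.ofSpan hspan.ge
  let e := Fintype.equivOfCardEq (α := _) (β := ι)
    (show Fintype.card _ = Fintype.card ι by
      rw [← Module.finrank_eq_card_basis B, Module.finrank_fintype_fun_eq_card])
  let B' : Module.Basis ι F (ι → F) := B.reindex e
  let Q : Matrix ι ι F := (Pi.basisFun F ι).toMatrix B'
  have hQ : ∀ i j, Q i j = B' j i := fun i j => by simp [Q, Module.Basis.toMatrix_apply]
  have hQd : Q.det ≠ 0 := by
    let := (Pi.basisFun F ι).invertibleToMatrix B'
    exact (Matrix.isUnit_det_of_invertible Q).ne_zero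
  let h : GL ι F := Matrix.GeneralLinearGroup.mkOfDetNeZero Q hQd
  refine ⟨h, eq_mul_inv_iff_mul_eq.2 (Units.ext ?_)⟩
  ext i j
  change ((g : Matrix ι ι F) * Q.map σ) i j = Q i j
  have hmem : B' j ∈ L := by
    have := Module.Basis.ofSpan_subset hspan.ge (Set.mem_range_self (e.symm j))
    simpa [B', B] using this
  have := congrFun hmem i
  rw [hQ]
  conv_rhs => rw [← this]
  simp [semiVec, Matrix.mul_apply, Matrix.mulVec, dotProduct, hQ]

/-- The norm of units for a field automorphism of order `r`. -/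
def unitsNorm (σ : F ≃+* F) (r : ℕ) : Fˣ →* Fˣ where
  toFun a := ∏ i ∈ Finset.range r, (Units.map ((σ ^ i : F ≃+* F) : F →* F)) a
  map_one' := by simp
  map_mul' a b := by simp [Finset.prod_mul_distrib]

theorem twNorm_scalar (σ : F ≃+* F) (u : Fˣ) (k : ℕ) :
    twNorm σ (Matrix.GeneralLinearGroup.scalar ι u) k =
      Matrix.GeneralLinearGroup.scalar ι (unitsNorm σ k u) := by
  induction k with
  | zero => simp [unitsNorm]
  | succ k ih =>
    have : unitsNorm σ (k + 1) u = unitsNorm σ k u * Units.map ((σ ^ k : F ≃+* F) : F →* F) u := by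
      simp [unitsNorm, Finset.prod_range_succ]
    rw [twNorm_succ', ih, this, map_mul]
    congr 1
    apply Units.ext
    ext i j
    by_cases hij : i = j <;> simp [hij]

/-- Hilbert 90. -/
theorem exists_div_of_unitsNorm_eq_one {σ : F ≃+* F} {r : ℕ} (hr : orderOf σ = r) (hr0 : 0 < r) {a : Fˣ}
    (ha : unitsNorm σ r a = 1) : ∃ b : Fˣ, (a : F) = b / σ b := by
  obtain ⟨h, hh⟩ := exists_eq_mul_map_inv (ι := Unit) hr hr0
    (g := Matrix.GeneralLinearGroup.scalar Unit a) (by rw [twNorm_scalar, ha, map_one])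
  rw [eq_mul_inv_iff_mul_eq] at hh
  have e := congrArg (fun M : GL Unit F => (M : Matrix Unit Unit F) () ()) hh
  have hb : (h : Matrix Unit Unit F) () () ≠ 0 := by
    have := h.det.ne_zero
    simpa [Matrix.det_unique] using this
  refine ⟨Units.mk0 _ hb, ?_⟩
  rw [eq_div_iff (by simpa using hb)]
  simpa [Matrix.mul_apply] using e

/-- The units fixed by `σ`. -/
def fixedUnits (σ : F ≃+* F) : Subgroup Fˣ where
  carrier := {a | σ a = a}
  mul_mem' {a b} ha hb := by simp_all
  one_mem' := by simp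
  inv_mem' {a} ha := by simp_all

theorem mem_fixedUnits {σ : F ≃+* F} {a : Fˣ} : a ∈ fixedUnits σ ↔ σ a = a := Iff.rfl

theorem unitsNorm_mem_fixedUnits {σ : F ≃+* F} {r : ℕ} (hr : orderOf σ = r) (a : Fˣ) :
    unitsNorm σ r a ∈ fixedUnits σ :=
  twNorm_scalar_fixed (ι := Unit) (by rw [← hr]; exact pow_orderOf_eq_one σ) (twNorm_scalar σ a r)

/-- On a finite field every fixed unit is a norm. -/
theorem exists_unitsNorm_eq [Finite F] {σ : F ≃+* F} {r : ℕ} (hr : orderOf σ = r) (hr0 : 0 < r) {c : Fˣ}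
    (hc : σ c = c) : ∃ a : Fˣ, unitsNorm σ r a = c := by
  let D : Fˣ →* Fˣ :=
    { toFun := fun b => b / Units.map (σ : F →* F) b
      map_one' := by simp
      map_mul' := fun a b => by rw [map_mul, mul_div_mul_comm] }
  have hker : (unitsNorm σ r).ker ≤ D.range := by
    intro a ha
    obtain ⟨b, hb⟩ := exists_div_of_unitsNorm_eq_one hr hr0 ha
    exact ⟨b, Units.ext (by simp [D, hb])⟩
  have hDker : D.ker = fixedUnits σ := by
    ext b
    simp only [MonoidHom.mem_ker, mem_fixedUnits, D, MonoidHom.coe_mk, OneHom.coe_mk, div_eq_one,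
      Units.ext_iff]
    exact eq_comm
  have h1 : (unitsNorm σ r).range = fixedUnits σ := by
    refine Subgroup.eq_of_le_of_card_ge ?_ ?_
    · rintro _ ⟨a, rfl⟩
      exact unitsNorm_mem_fixedUnits hr a
    · have e1 := (unitsNorm σ r).ker.card_mul_index
      rw [Subgroup.index_ker] at e1
      have e2 := D.ker.card_mul_index
      rw [Subgroup.index_ker, hDker] at e2
      have h3 := Subgroup.card_le_of_le hker
      have hpos : 0 < Nat.card D.range := Nat.card_pos
      refine Nat.le_of_mul_le_mul_left ?_ hpos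
      calc Nat.card D.range * Nat.card (fixedUnits σ) = Nat.card Fˣ := by rw [mul_comm, e2]
        _ = Nat.card (unitsNorm σ r).ker * Nat.card (unitsNorm σ r).range := e1.symm
        _ ≤ _ := Nat.mul_le_mul_right _ h3
  have : c ∈ (unitsNorm σ r).range := h1 ▸ hc
  exact this

theorem unitsNorm_scalar_mul (σ : F ≃+* F) (u : Fˣ) (g : GL ι F) (k : ℕ) :
    twNorm σ (Matrix.GeneralLinearGroup.scalar ι u * g) k =
      Matrix.GeneralLinearGroup.scalar ι (unitsNorm σ k u) * twNorm σ g k := by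
  induction k with
  | zero => simp [unitsNorm]
  | succ k ih =>
    rw [twNorm_succ, ih, map_mul, twNorm_succ, ← twNorm_scalar, ← twNorm_scalar, twNorm_succ]
    have hcen : mapGL σ (twNorm σ (Matrix.GeneralLinearGroup.scalar ι u) k) ∈ Subgroup.center (GL ι F) := by
      rw [twNorm_scalar, Matrix.GeneralLinearGroup.center_eq_range_scalar]
      refine ⟨Units.map (σ : F →* F) (unitsNorm σ k u), Units.ext ?_⟩
      ext i j
      by_cases hij : i = j <;> simp [hij]
    simp only [mul_assoc]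
    rw [← mul_assoc g, Subgroup.mem_center_iff.1 hcen g, mul_assoc]

/-- A matrix whose twisted norm is scalar is a scalar times a twisted coboundary. -/
theorem exists_eq_scalar_mul_map_inv [Nonempty ι] [Finite F] {σ : F ≃+* F} {r : ℕ} (hr : orderOf σ = r)
    (hr0 : 0 < r) {g : GL ι F} {c : Fˣ} (hc : twNorm σ g r = Matrix.GeneralLinearGroup.scalar ι c) :
    ∃ (u : Fˣ) (h : GL ι F), g = Matrix.GeneralLinearGroup.scalar ι u * (h * (mapGL σ h)⁻¹) := by
  obtain ⟨a, ha⟩ := exists_unitsNorm_eq hr hr0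
    (twNorm_scalar_fixed (by rw [← hr]; exact pow_orderOf_eq_one σ) hc)
  obtain ⟨h, hh⟩ := exists_eq_mul_map_inv hr hr0
    (g := Matrix.GeneralLinearGroup.scalar ι a⁻¹ * g)
    (by rw [unitsNorm_scalar_mul, hc, ← map_mul, map_inv, ha, inv_mul_cancel, map_one])
  exact ⟨a, h, by rw [← hh, ← mul_assoc, ← map_mul, mul_inv_cancel, map_one, one_mul]⟩

end CfsgLib.AutPSL
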