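import Cfsg.Agent.AutPSL.Predicates
import Cfsg.Agent.AutPSL.Descent
import Cfsg.Agent.AutPSL.ClassSplit
import Cfsg.Agent.FixedField.Basic

/-!
# Field and graph-field automorphisms of prime order of `PSL_n(F)`
-/

set_option autoImplicit false

namespace CfsgLib.AutPSL

open Matrix Cfsg

variable {F : Type*} [Field F]

theorem mul_field_pow_eq_one_iff [Fintype F] (p : ℕ) [Fact p.Prime] [CharP F p]
    {ι : Type*} [Fintype ι] [DecidableEq ι] [Nontrivial ι] (σ : F ≃+* F) (g : GL ι F) (k : ℕ) :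
    (toPSLAut (conjSL g * fieldSL σ)) ^ k = 1 ↔
      σ ^ k = 1 ∧ ∃ c : Fˣ, twNorm σ g k = Matrix.GeneralLinearGroup.scalar ι c := by
  rw [← map_pow, ← map_one (toPSLAut (ι := ι) (F := F)), (toPSLAut_injective p).eq_iff, conjSL_fieldSL_pow]
  constructor
  · intro h
    exact eq_one_of_conjSL_mul_fieldSL h
  · rintro ⟨h1, c, hc⟩
    rw [h1, hc, conjSL_scalar, map_one, one_mul]

theorem orderOf_toPSLAut_fieldSL [Fintype F] {ι : Type*} [Fintype ι] [DecidableEq ι] [Nontrivial ι]
    (σ : F ≃+* F) : orderOf (toPSLAut (fieldSL σ : MulAut (Matrix.SpecialLinearGroup ι F))) = orderOf σ := by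
  obtain ⟨p, hp⟩ := CharP.exists F
  have : Fact p.Prime := ⟨CharP.char_is_prime F p⟩
  exact orderOf_injective (toPSLAut.comp fieldSL)
    ((toPSLAut_injective p).comp fieldSL_injective) σ

theorem card_ringEquiv [Fintype F] {p f : ℕ} [Fact p.Prime] (hF : Fintype.card F = p ^ f) (hf : 1 ≤ f) :
    Nat.card (F ≃+* F) = f := by
  have : CharP F p := by
    obtain ⟨p', hp'⟩ := CharP.exists F
    obtain ⟨a, hp'', hc⟩ := FiniteField.card F p'
    rw [hF] at hc
    have h1 : p ∣ p' ^ (a : ℕ) := hc ▸ dvd_pow_self p (by omega)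
    rwa [← (Nat.prime_dvd_prime_iff_eq (Fact.out : p.Prime) hp'').1 ((Fact.out : p.Prime).dvd_of_dvd_pow h1)] at hp'
  letI := ZMod.algebra F p
  let e : (F ≃+* F) ≃ (F ≃ₐ[ZMod p] F) :=
    { toFun := fun σ => AlgEquiv.ofRingEquiv (f := σ) (fun a => RingHom.congr_fun
        (Subsingleton.elim ((σ : F →+* F).comp (algebraMap (ZMod p) F)) (algebraMap (ZMod p) F)) a)
      invFun := fun σ => σ.toRingEquiv
      left_inv := fun σ => by ext x; rfl
      right_inv := fun σ => by ext x; rfl }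
  rw [Nat.card_congr e, IsGalois.card_aut_eq_finrank]
  refine Nat.pow_right_injective (Fact.out : p.Prime).two_le ?_
  simp only
  rw [← hF, Module.card_eq_pow_finrank (K := ZMod p), ZMod.card]

theorem orderOf_dvd_degree [Fintype F] {p f : ℕ} [Fact p.Prime] (hF : Fintype.card F = p ^ f) (hf : 1 ≤ f)
    (σ : F ≃+* F) : orderOf σ ∣ f := by
  rw [← card_ringEquiv hF hf]
  exact orderOf_dvd_natCard σ

/-- The fixed field, as a field with `p ^ (f / r)` elements, embeds with image the fixed points. -/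
theorem exists_embedding_fixed [Fintype F] {p f r : ℕ} [Fact p.Prime] (hF : Fintype.card F = p ^ f)
    (σ : F ≃+* F) (hr : orderOf σ = r) (hr0 : 0 < r) (hrf : r ∣ f) (F₀ : Type*) [Field F₀] [Fintype F₀]
    (hF₀ : Fintype.card F₀ = p ^ (f / r)) :
    ∃ e : F₀ →+* F, ∀ x : F, σ x = x ↔ x ∈ Set.range e := by
  classical
  have hK : Nat.card (CfsgLib.FixedField.fixedSub σ) = p ^ (f / r) :=
    CfsgLib.FixedField.card_fixed σ hr0.ne' hr (by rw [hF, ← pow_mul, Nat.div_mul_cancel hrf])
  have : Fintype (CfsgLib.FixedField.fixedSub σ) := Fintype.ofFinite _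
  let E := FiniteField.ringEquivOfCardEq (K := F₀) (K' := CfsgLib.FixedField.fixedSub σ)
    (by rw [hF₀, ← hK, Nat.card_eq_fintype_card])
  refine ⟨(CfsgLib.FixedField.fixedSub σ).subtype.comp E.toRingHom, fun x => ⟨fun hx => ?_, ?_⟩⟩
  · exact ⟨E.symm ⟨x, hx⟩, by simp⟩
  · rintro ⟨y, rfl⟩
    exact (E y).2

variable {n : ℕ}

theorem conj_sigma_conj (σ : F ≃+* F) (h : GL (Fin n) F) :
    conjSL (h * (mapGL σ h)⁻¹) * fieldSL σ = conjSL h * fieldSL σ * (conjSL h)⁻¹ := by
  rw [map_mul, mul_assoc, mul_assoc, ← map_inv (mapGL σ), ← map_inv (conjSL (F := F)), fieldSL_mul_conjSL]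

theorem isConj_field_of_pow_eq_one [Fintype F] (hn : 2 ≤ n) {σ : F ≃+* F} {r : ℕ} (hr : orderOf σ = r)
    (hr0 : 0 < r) (g : GL (Fin n) F)
    (hpow : (toPSLAut (conjSL g * fieldSL σ)) ^ r = 1) :
    ∃ h : GL (Fin n) F, toPSLAut (conjSL g * fieldSL σ) =
      toPSLAut (conjSL h) * toPSLAut (fieldSL σ) * (toPSLAut (conjSL h))⁻¹ := by
  obtain ⟨p, hp⟩ := CharP.exists F
  have : Fact p.Prime := ⟨CharP.char_is_prime F p⟩
  have : Nontrivial (Fin n) := Fin.nontrivial_iff_two_le.2 hn
  obtain ⟨-, c, hc⟩ := (mul_field_pow_eq_one_iff p σ g r).1 hpow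
  obtain ⟨u, h, rfl⟩ := exists_eq_scalar_mul_map_inv hr hr0 hc
  exact ⟨h, by rw [map_mul conjSL, conjSL_scalar, one_mul, conj_sigma_conj, map_mul, map_mul, map_inv]⟩

/-- Matrices commuting with a field automorphism up to scalars are scalar multiples of fixed ones. -/
theorem exists_fixed_of_commute [Fintype F] (hn : 2 ≤ n) {σ : F ≃+* F} {r : ℕ} (hr : orderOf σ = r)
    (hr0 : 0 < r) {g : GL (Fin n) F}
    (h : toPSLAut (conjSL g) * toPSLAut (fieldSL σ) = toPSLAut (fieldSL σ) * toPSLAut (conjSL g)) :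
    ∃ (u : Fˣ) (g₀ : GL (Fin n) F), mapGL σ g₀ = g₀ ∧
      g = Matrix.GeneralLinearGroup.scalar (Fin n) u * g₀ := by
  obtain ⟨p, hp⟩ := CharP.exists F
  have : Fact p.Prime := ⟨CharP.char_is_prime F p⟩
  have : Nontrivial (Fin n) := Fin.nontrivial_iff_two_le.2 hn
  rw [← map_mul, ← map_mul, (toPSLAut_injective p).eq_iff, fieldSL_mul_conjSL, mul_left_inj] at h
  have h' : conjSL ((mapGL σ g) * g⁻¹) = 1 := by rw [map_mul, ← h, map_inv, mul_inv_cancel]
  obtain ⟨a, ha⟩ := conjSL_eq_one_iff.1 h'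
  rw [mul_inv_eq_iff_eq_mul] at ha
  have hmap : ∀ u : Fˣ, mapGL σ (Matrix.GeneralLinearGroup.scalar (Fin n) u) =
      Matrix.GeneralLinearGroup.scalar (Fin n) (Units.map (σ : F →* F) u) := by
    intro u
    apply Units.ext
    ext i j
    by_cases hij : i = j <;> simp [hij]
  -- the norm of the scalar is one
  have hiter : ∀ k : ℕ, mapGL (σ ^ k) g = Matrix.GeneralLinearGroup.scalar (Fin n) (unitsNorm σ k a) * g := by
    intro k
    induction k with
    | zero => simp [unitsNorm, mapGL_one_apply]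
    | succ k ih =>
      rw [pow_succ, mapGL_mul_apply, ha, map_mul, ih, ← mul_assoc]
      congr 1
      have : unitsNorm σ (k + 1) a = unitsNorm σ k a * Units.map ((σ ^ k : F ≃+* F) : F →* F) a := by
        simp [unitsNorm, Finset.prod_range_succ]
      rw [this, show mapGL (σ ^ k) (Matrix.GeneralLinearGroup.scalar (Fin n) a) =
        Matrix.GeneralLinearGroup.scalar (Fin n) (Units.map ((σ ^ k : F ≃+* F) : F →* F) a) by
          apply Units.ext; ext i j; by_cases hij : i = j <;> simp [hij],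
        ← map_mul, mul_comm]
  have hN : unitsNorm σ r a = 1 := by
    have h1 := hiter r
    rw [← hr, pow_orderOf_eq_one, mapGL_one_apply, hr, right_eq_mul] at h1
    have := congrArg (fun M : GL (Fin n) F => (M : Matrix (Fin n) (Fin n) F) ⟨0, by omega⟩ ⟨0, by omega⟩) h1
    exact Units.ext (by simpa using this)
  obtain ⟨b, hb⟩ := exists_div_of_unitsNorm_eq_one hr hr0 hN
  refine ⟨b⁻¹, Matrix.GeneralLinearGroup.scalar (Fin n) b * g, ?_, by rw [← mul_assoc, ← map_mul, inv_mul_cancel, map_one, one_mul]⟩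
  rw [map_mul, hmap, ha, ← mul_assoc, ← map_mul]
  congr 2
  apply Units.ext
  simp [hb]
  field_simp

/-- Determinant modulo nothing: the preimage `S` of a group between `SL·Z` and `GL` has index that of
its determinants. -/
theorem index_eq_index_det (S : Subgroup (GL (Fin n) F))
    (hS : ∀ s : Matrix.SpecialLinearGroup (Fin n) F, Matrix.SpecialLinearGroup.toGL s ∈ S) (hn : 1 ≤ n) :
    S.index = (S.map Matrix.GeneralLinearGroup.det).index := by
  refine index_eq_map_index _ ?_ S ?_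
  · have : Nonempty (Fin n) := ⟨⟨0, hn⟩⟩
    exact Matrix.GeneralLinearGroup.det_surjective
  · intro g hg
    rw [MonoidHom.mem_ker, Units.ext_iff] at hg
    have := hS ⟨(g : Matrix (Fin n) (Fin n) F), by simpa using hg⟩
    convert this
    exact Units.ext rfl

theorem range_toGL_normal : ((Matrix.SpecialLinearGroup.toGL :
    Matrix.SpecialLinearGroup (Fin n) F →* GL (Fin n) F).range).Normal := by
  constructor
  rintro _ ⟨s, rfl⟩ g
  exact ⟨conjSL g s, Units.ext rfl⟩

/-- The number of classes under `Inn` in a class under `Inndiag`. -/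
theorem splitClassCount_eq (hn : 1 ≤ n) (x : MulAut (Matrix.ProjectiveSpecialLinearGroup (Fin n) F)) :
    Cfsg.splitClassCount (Cfsg.inndiagPSL n F) (Cfsg.Inn (Matrix.ProjectiveSpecialLinearGroup (Fin n) F)) x =
      (((Subgroup.centralizer ({x} : Set (MulAut (Matrix.ProjectiveSpecialLinearGroup (Fin n) F)))).comap
        innDiagHom).map Matrix.GeneralLinearGroup.det).index := by
  haveI := range_toGL_normal (F := F) (n := n)
  rw [inndiagPSL_eq, inn_eq_range, MonoidHom.range_comp, splitClassCount_eq_index,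
    index_eq_index_det _ (fun s => Subgroup.mem_sup_left (MonoidHom.mem_range.2 ⟨s, rfl⟩)) hn, Subgroup.map_sup]
  congr 1
  refine sup_eq_right.2 ?_
  rintro _ ⟨_, ⟨s, rfl⟩, rfl⟩
  refine ⟨1, Subgroup.one_mem _, ?_⟩
  rw [map_one]
  exact Units.ext s.2.symm

/-- The determinants of scalar matrices: `n`-th powers. -/
theorem det_scalar_range :
    (Matrix.GeneralLinearGroup.scalar (Fin n) : Fˣ →* GL (Fin n) F).range.map Matrix.GeneralLinearGroup.det =
      (powMonoidHom n : Fˣ →* Fˣ).range := by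
  rw [MonoidHom.map_range]
  congr 1
  ext u
  simp

end CfsgLib.AutPSL
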