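import Cfsg.Agent.AutPSL.LocalBalance
import Cfsg.Agent.ThompsonFpf.Nilpotency

/-!
# Local balance for an almost simple group
-/

set_option autoImplicit false

namespace CfsgLib.AutPSL

open CfsgLib.LocalEven50

variable {G : Type*} [Group G] [Finite G]

omit [Finite G] in
theorem center_eq_bot_of_not_solvable [IsSimpleGroup G] (hns : ¬ Group.IsSolvable G) :
    Subgroup.center G = ⊥ := by
  rcases (inferInstance : (Subgroup.center G).Normal).eq_bot_or_eq_top with h | h
  · exact h
  · exact absurd (Group.isSolvable_of_comm fun a b =>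
      (Subgroup.mem_center_iff.1 (h ▸ Subgroup.mem_top a) b).symm) hns

omit [Finite G] in
theorem conj_injective_of_not_solvable [IsSimpleGroup G] (hns : ¬ Group.IsSolvable G) :
    Function.Injective (MulAut.conj : G →* MulAut G) := by
  rw [injective_iff_map_eq_one]
  intro x hx
  rw [← Subgroup.mem_bot, ← center_eq_bot_of_not_solvable hns, Subgroup.mem_center_iff]
  intro y
  have := DFunLike.congr_fun hx y
  rw [MulAut.conj_apply, MulAut.one_apply, mul_inv_eq_iff_eq_mul] at this
  exact this.symm

omit [Finite G] in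
/-- Commuting with `β` means preserving its fixed points. -/
theorem fixed_of_commute {β y : MulAut G} (h : Commute y β) {k : G} (hk : β k = k) : β (y k) = y k := by
  have := DFunLike.congr_fun h.eq k
  rw [MulAut.mul_apply, MulAut.mul_apply, hk] at this
  exact this.symm

/-- A `p`-power order is forced when the elements of order prime to `p` are trivial. -/
theorem pow_eq_one_of_coprime {M : Type*} [Group M] [Finite M] {p : ℕ} [Fact p.Prime] (S : Subgroup M)
    (h : ∀ y ∈ S, (orderOf y).Coprime p → y = 1) {g : M} (hg : g ∈ S) : ∃ k, g ^ p ^ k = 1 := by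
  obtain ⟨k, m, hm, hkm⟩ := Nat.exists_eq_pow_mul_and_not_dvd (orderOf_pos g).ne' p (Fact.out : p.Prime).ne_one
  refine ⟨k, h _ (S.pow_mem hg _) ?_⟩
  rw [orderOf_pow' g (pow_ne_zero _ (Fact.out : p.Prime).ne_zero), hkm,
    Nat.gcd_eq_right (Dvd.intro m rfl), Nat.mul_div_cancel_left _ (pow_pos (Fact.out : p.Prime).pos _)]
  exact ((Fact.out : p.Prime).coprime_iff_not_dvd.2 hm).symm

/-- **Local balance criterion.**  `β` is an automorphism of prime order `p` of a simple group.  If,
when `p` divides the number of fixed points, some group `H` of fixed points invariant under all fixed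
points has no normal `p'`-subgroup and a `p`-centraliser, then the `p'`-core of the centraliser is
non-trivial exactly when `p` does not divide the number of fixed points. -/
theorem core_iff_of_fixed [IsSimpleGroup G] (hns : ¬ Group.IsSolvable G) (A : Subgroup (MulAut G))
    (hinn : ∀ k : G, MulAut.conj k ∈ A) {p : ℕ} [Fact p.Prime] {β : MulAut G} (hβ : orderOf β = p)
    (main : p ∣ Nat.card ↥(MonoidHom.eqLocus β.toMonoidHom (MonoidHom.id G)) →
      ∃ H : Subgroup G, (∀ x ∈ H, β x = x) ∧ (∀ e, β e = e → ∀ x ∈ H, e * x * e⁻¹ ∈ H) ∧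
        (∀ N : Subgroup G, N ≤ H → (∀ x ∈ H, ∀ y ∈ N, x * y * x⁻¹ ∈ N) → (Nat.card N).Coprime p → N = ⊥) ∧
        (∀ y : MulAut G, Commute y β → (∀ x ∈ H, y x = x) → ∃ k : ℕ, y ^ p ^ k = 1)) :
    Cfsg.pPrimeCore p ↥(A ⊓ Subgroup.centralizer {β}) ≠ ⊥ ↔
      Nat.Coprime p (Nat.card ↥(MonoidHom.eqLocus β.toMonoidHom (MonoidHom.id G))) := by
  classical
  have : Finite (MulAut G) := Finite.of_injective (fun a : MulAut G => (a : G → G)) DFunLike.coe_injective
  have hinj := conj_injective_of_not_solvable hns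
  set E := MonoidHom.eqLocus β.toMonoidHom (MonoidHom.id G)
  have hcc : ∀ k, β k = k ↔ MulAut.conj k ∈ Subgroup.centralizer {β} := by
    intro k
    rw [Subgroup.mem_centralizer_singleton_iff]
    constructor
    · intro h; ext1 x; simp [h]
    · intro h
      apply hinj
      have h2 : MulAut.conj (β k) = β * MulAut.conj k * β⁻¹ := by
        ext1 x; simp [MulAut.mul_apply, MulAut.inv_def]
      rw [h2, ← h, mul_inv_cancel_right]
  let ι : ↥E →* ↥(A ⊓ Subgroup.centralizer {β}) :=
    ((MulAut.conj).comp E.subtype).codRestrict _ fun k => ⟨hinn _, (hcc _).1 k.2⟩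
  have hι : Function.Injective ι := fun a b h => Subtype.ext (hinj (congrArg Subtype.val h))
  have hconj : ∀ (g : MulAut G) (k : G), MulAut.conj (g k) = g * MulAut.conj k * g⁻¹ := fun g k => by
    ext1 x; simp [MulAut.mul_apply, MulAut.inv_def]
  have hcom : ∀ g : ↥(A ⊓ Subgroup.centralizer {β}), Commute g.1 β :=
    fun g => Subgroup.mem_centralizer_singleton_iff.1 g.2.2
  have hLn : ι.range.Normal := by
    constructor
    rintro _ ⟨k, rfl⟩ g
    refine ⟨⟨g.1 k.1, ?_⟩, Subtype.ext (hconj g.1 k.1)⟩
    exact fixed_of_commute (hcom g) k.2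
  have := hLn
  constructor
  · intro hcore
    by_contra hcop
    apply hcore
    obtain ⟨H, hHfix, hHnorm, hO, hcent⟩ := main (not_not.1 fun h => hcop
      ((Fact.out : p.Prime).coprime_iff_not_dvd.2 h))
    let H' : Subgroup ↥E := H.subgroupOf E
    have hmemH : ∀ x (hx : x ∈ H), ι ⟨x, hHfix x hx⟩ ∈ H'.map ι := fun x hx =>
      Subgroup.mem_map_of_mem ι hx
    refine core_eq_bot ι.range (H'.map ι) (Subgroup.map_le_range _ _) ?_ ?_ ?_
    · rintro _ ⟨l, rfl⟩ _ ⟨x, hx, rfl⟩
      rw [← map_inv, ← map_mul, ← map_mul]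
      exact Subgroup.mem_map_of_mem ι (hHnorm l.1 l.2 x.1 hx)
    · intro N hN hNn hNc
      let f : ↥E →* G := E.subtype
      have hle : (N.comap ι).map f ≤ H := by
        rintro _ ⟨e, he, rfl⟩
        obtain ⟨x, hx, hxe⟩ := hN he
        rw [← hι hxe]
        exact hx
      have h0 : (N.comap ι).map f = ⊥ := by
        refine hO _ hle ?_ ?_
        · rintro x hx _ ⟨e, he, rfl⟩
          refine ⟨⟨x, hHfix x hx⟩ * e * ⟨x, hHfix x hx⟩⁻¹, ?_, rfl⟩
          change ι _ ∈ N
          rw [map_mul, map_mul, map_inv]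
          exact hNn _ (hmemH x hx) _ he
        · rw [Subgroup.card_map_of_injective E.subtype_injective]
          refine hNc.coprime_dvd_left (dvd_of_eq ?_)
          rw [← Subgroup.card_map_of_injective hι,
            Subgroup.map_comap_eq_self (hN.trans (Subgroup.map_le_range _ _))]
      rw [Subgroup.map_eq_bot_iff_of_injective _ E.subtype_injective] at h0
      rw [← Subgroup.map_comap_eq_self (hN.trans (Subgroup.map_le_range _ _)), h0, Subgroup.map_bot]
    · intro g hg
      obtain ⟨k, hk⟩ := hcent g.1 (hcom g) fun x hx => by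
        have h := congrArg Subtype.val (hg _ (hmemH x hx))
        change g.1 * MulAut.conj x = MulAut.conj x * g.1 at h
        apply hinj
        rw [hconj, h, mul_inv_cancel_right]
      exact ⟨k, Subtype.ext hk⟩
  · intro hcop
    refine core_ne_bot hLn ?_ ?_
    · intro h
      apply hns
      refine CfsgLib.ThompsonFpf.isSolvable_of_fpf (p := p) β (fun k hk => ?_) (hβ ▸ pow_orderOf_eq_one β)
      have h1 : ι ⟨k, hk⟩ ∈ ι.range := ⟨_, rfl⟩
      rw [h, Subgroup.mem_bot, ← map_one ι] at h1
      exact congrArg Subtype.val (hι h1)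
    · rw [← Nat.card_congr (MonoidHom.ofInjective hι).toEquiv]
      exact hcop.symm

end CfsgLib.AutPSL
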