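import Cfsg.Agent.AutPSL.FieldAut

/-!
# The involutory automorphism of a finite field
-/

set_option autoImplicit false

namespace CfsgLib.AutPSL

variable {F : Type*} [Field F] [Fintype F]

theorem isCyclic_ringEquiv : IsCyclic (F ≃+* F) := by
  obtain ⟨p, hp⟩ := CharP.exists F
  have : Fact p.Prime := ⟨CharP.char_is_prime F p⟩
  letI := ZMod.algebra F p
  refine isCyclic_of_surjective
    (MonoidHom.mk' (fun s : F ≃ₐ[ZMod p] F => s.toRingEquiv) (fun a b => rfl)) (fun σ => ?_)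
  exact ⟨AlgEquiv.ofRingEquiv (f := σ) (fun a => RingHom.congr_fun
    (Subsingleton.elim ((σ : F →+* F).comp (algebraMap (ZMod p) F)) (algebraMap (ZMod p) F)) a),
    RingEquiv.ext fun x => rfl⟩

theorem eq_of_sq_eq_one {σ τ : F ≃+* F} (hσ : σ ≠ 1) (hτ : τ ≠ 1) (hσ2 : σ ^ 2 = 1) (hτ2 : τ ^ 2 = 1) :
    σ = τ := by
  classical
  haveI := isCyclic_ringEquiv (F := F)
  haveI : Finite (F ≃+* F) := Finite.of_injective (fun σ : F ≃+* F => (σ : F → F)) DFunLike.coe_injective
  letI := Fintype.ofFinite (F ≃+* F)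
  by_contra h
  have h1 := IsCyclic.card_pow_eq_one_le (α := F ≃+* F) (n := 2) two_pos
  have h3 : ({1, σ, τ} : Finset (F ≃+* F)) ⊆ Finset.univ.filter (fun a => a ^ 2 = 1) := by
    intro a ha
    simp only [Finset.mem_insert, Finset.mem_singleton] at ha
    rcases ha with rfl | rfl | rfl <;> simp [hσ2, hτ2]
  have hc : ({1, σ, τ} : Finset (F ≃+* F)).card = 3 := by
    rw [Finset.card_insert_of_notMem (by simp [Ne.symm hσ, Ne.symm hτ]), Finset.card_pair h]
  have := (hc ▸ Finset.card_le_card h3).trans h1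
  omega

/-- The involutory automorphism of a field with `q₀ * q₀` elements is `x ↦ x ^ q₀`. -/
theorem involution_eq_pow {p f : ℕ} [Fact p.Prime] (hF : Fintype.card F = p ^ f) (hf : 1 ≤ f)
    {σ : F ≃+* F} (hσ : orderOf σ = 2) :
    Even f ∧ Fintype.card F = p ^ (f / 2) * p ^ (f / 2) ∧ ∀ x : F, σ x = x ^ p ^ (f / 2) := by
  haveI : CharP F p := charP_of_card_eq_prime_pow hF
  have hev : 2 ∣ f := hσ ▸ orderOf_dvd_degree hF hf σ
  have hcard : Fintype.card F = p ^ (f / 2) * p ^ (f / 2) := by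
    rw [hF, ← pow_add]
    congr 1
    omega
  refine ⟨even_iff_two_dvd.2 hev, hcard, ?_⟩
  set Φ : F ≃+* F := iterateFrobeniusEquiv F p (f / 2) with hΦ
  have happ : ∀ x : F, Φ x = x ^ p ^ (f / 2) := fun x => by
    rw [hΦ, iterateFrobeniusEquiv_def]
  have hΦ2 : Φ ^ 2 = 1 := by
    ext x
    rw [pow_two]
    change Φ (Φ x) = x
    rw [happ, happ, ← pow_mul, ← hcard, FiniteField.pow_card]
  have hΦ1 : Φ ≠ 1 := by
    intro h
    have hroot : ∀ x : F, x ^ p ^ (f / 2) = x := fun x => by rw [← happ, h]; rfl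
    have hlt : 1 < p ^ (f / 2) := Nat.one_lt_pow (by omega) (Fact.out : p.Prime).one_lt
    have hP : ((Polynomial.X : Polynomial F) ^ p ^ (f / 2) - Polynomial.X) ≠ 0 :=
      FiniteField.X_pow_card_sub_X_ne_zero F hlt
    have hle := Polynomial.card_le_degree_of_subset_roots (p := ((Polynomial.X : Polynomial F) ^ p ^ (f / 2) - Polynomial.X))
      (Z := Finset.univ) (fun x _ => (Polynomial.mem_roots hP).2 (by simp [Polynomial.IsRoot, hroot x]))
    rw [FiniteField.X_pow_card_sub_X_natDegree_eq F hlt, Finset.card_univ, hcard] at hle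
    nlinarith
  intro x
  have hσ1 : σ ≠ 1 := fun h => by simp [h] at hσ
  rw [eq_of_sq_eq_one hσ1 hΦ1 (hσ ▸ pow_orderOf_eq_one σ) hΦ2, happ]

end CfsgLib.AutPSL
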