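import Cfsg.Agent.AutPSL.FieldAut
import Cfsg.Agent.Forms.Diagonal

/-!
# Reduction of (graph-)field automorphisms to standard ones; hermitian congruence
-/

set_option autoImplicit false

namespace CfsgLib.AutPSL

open Matrix Cfsg

variable {F : Type*} [Field F]

theorem ringEquiv_comm [Finite F] (σ τ : F ≃+* F) : σ * τ = τ * σ := by
  obtain ⟨p, hp⟩ := CharP.exists F
  have : Fact p.Prime := ⟨CharP.char_is_prime F p⟩
  letI := ZMod.algebra F p
  have h : ∀ e : F ≃+* F, ∀ a, e (algebraMap (ZMod p) F a) = algebraMap (ZMod p) F a := fun e a =>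
    RingHom.congr_fun (Subsingleton.elim ((e : F →+* F).comp (algebraMap (ZMod p) F))
      (algebraMap (ZMod p) F)) a
  let S : F ≃ₐ[ZMod p] F := AlgEquiv.ofRingEquiv (f := σ) (h σ)
  let T : F ≃ₐ[ZMod p] F := AlgEquiv.ofRingEquiv (f := τ) (h τ)
  have hc : S * T = T * S := by
    letI : CommGroup (F ≃ₐ[ZMod p] F) := IsCyclic.commGroup
    exact mul_comm S T
  ext x
  exact AlgEquiv.congr_fun hc x

theorem commute_fieldSL [Finite F] {ι : Type*} [Fintype ι] [DecidableEq ι] (σ τ : F ≃+* F) :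
    Commute (fieldSL (ι := ι) σ) (fieldSL τ) := (Commute.map (ringEquiv_comm σ τ) fieldSL)

variable [Fintype F] {n : ℕ}

/-- If a standard element commutes with field automorphisms and inverse-transpose, all its conjugates
are conjugates by inner-diagonal automorphisms. -/
theorem exists_inndiag_conj (hn : 2 ≤ n) (S : MulAut (Matrix.SpecialLinearGroup (Fin n) F))
    (h1 : ∀ τ : F ≃+* F, Commute S (fieldSL τ)) (h2 : Commute S invTransSL)
    (α : MulAut (Matrix.ProjectiveSpecialLinearGroup (Fin n) F)) :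
    ∃ g : GL (Fin n) F, α * toPSLAut S * α⁻¹ =
      toPSLAut (conjSL g) * toPSLAut S * (toPSLAut (conjSL g))⁻¹ := by
  obtain ⟨g, τ, γ, hγ, rfl⟩ := exists_form hn α
  refine ⟨g, ?_⟩
  have hc : Commute S (fieldSL τ * γ) := by
    rcases hγ with rfl | rfl
    · rw [mul_one]; exact h1 τ
    · exact (h1 τ).mul_right h2
  have hc' : Commute (toPSLAut S) (toPSLAut (fieldSL τ * γ)) := hc.map toPSLAut
  rw [mul_assoc (conjSL g), map_mul toPSLAut (conjSL g), _root_.mul_inv_rev, mul_assoc, mul_assoc, mul_assoc]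
  congr 1
  rw [← mul_assoc, ← mul_assoc, ← hc'.eq, mul_inv_cancel_right]

theorem fieldAutClass_cases (hn : 2 ≤ n) {x : MulAut (Matrix.ProjectiveSpecialLinearGroup (Fin n) F)}
    (hx : Cfsg.IsFieldAutClassPSL x) :
    ∃ (σ : F ≃+* F) (g : GL (Fin n) F), σ ≠ 1 ∧
      x = toPSLAut (conjSL g) * toPSLAut (fieldSL σ) * (toPSLAut (conjSL g))⁻¹ := by
  obtain ⟨α, σ, hσ, hst⟩ := hx
  rw [isStdFieldAutPSL_iff] at hst
  obtain ⟨g, hg⟩ := exists_inndiag_conj hn (fieldSL σ) (fun τ => commute_fieldSL σ τ)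
    (Commute.symm (invTransSL_mul_fieldSL σ)) α⁻¹
  exact ⟨σ, g, hσ, by rw [← hg, ← hst]; group⟩

theorem graphFieldAutClass_cases {x : MulAut (Matrix.ProjectiveSpecialLinearGroup (Fin n) F)}
    (hx : Cfsg.IsGraphFieldAutClassPSL x) :
    3 ≤ n ∧ ∃ (σ : F ≃+* F) (g : GL (Fin n) F), σ ≠ 1 ∧
      x = toPSLAut (conjSL g) * toPSLAut (fieldSL σ * invTransSL) * (toPSLAut (conjSL g))⁻¹ := by
  obtain ⟨hn, α, φ, γ, σ, hσ, hφ, hγ, hst⟩ := hx
  rw [isStdFieldAutPSL_iff] at hφ
  rw [isInverseTransposeAutPSL_iff] at hγ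
  subst hφ hγ
  rw [← map_mul] at hst
  obtain ⟨g, hg⟩ := exists_inndiag_conj (by omega) (fieldSL σ * invTransSL)
    (fun τ => (commute_fieldSL σ τ).mul_left (invTransSL_mul_fieldSL τ : Commute _ _))
    ((Commute.symm (invTransSL_mul_fieldSL σ)).mul_left (Commute.refl _)) α⁻¹
  exact ⟨hn, σ, g, hσ, by rw [← hg, ← hst]; group⟩

theorem conjSL_graphField_sq (σ : F ≃+* F) (g : GL (Fin n) F) :
    (conjSL g * (fieldSL σ * invTransSL)) ^ 2 =
      conjSL (g * mapGL σ (invTransGL g)) * fieldSL (σ ^ 2) := by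
  rw [pow_two, mul_assoc, mul_assoc (fieldSL σ), ← mul_assoc invTransSL, invTransSL_mul_conjSL,
    mul_assoc (conjSL (invTransGL g)), ← mul_assoc invTransSL (fieldSL σ), invTransSL_mul_fieldSL,
    mul_assoc (fieldSL σ) invTransSL, invTransSL_mul_self, mul_one, ← mul_assoc (fieldSL σ),
    fieldSL_mul_conjSL, mul_assoc (conjSL (mapGL σ (invTransGL g))), ← mul_assoc (conjSL g), ← map_mul,
    ← map_mul, ← pow_two]

/-- The order of a graph-field automorphism of prime order is two and the field part is an involution. -/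
theorem graphField_order (hn : 3 ≤ n) {σ : F ≃+* F} {r : ℕ} (hr : r.Prime) (hσ : σ ≠ 1)
    (h : orderOf (toPSLAut (fieldSL σ * invTransSL : MulAut (Matrix.SpecialLinearGroup (Fin n) F))) = r) :
    r = 2 ∧ orderOf σ = 2 := by
  obtain ⟨p, hp⟩ := CharP.exists F
  have : Fact p.Prime := ⟨CharP.char_is_prime F p⟩
  have : Nontrivial (Fin n) := Fin.nontrivial_iff_two_le.2 (by omega)
  rw [show orderOf (toPSLAut (fieldSL σ * invTransSL : MulAut (Matrix.SpecialLinearGroup (Fin n) F))) =
    orderOf (fieldSL σ * invTransSL : MulAut (Matrix.SpecialLinearGroup (Fin n) F)) from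
    orderOf_injective toPSLAut (toPSLAut_injective p) _] at h
  have hc : Commute (fieldSL σ) (invTransSL (ι := Fin n) (F := F)) :=
    Commute.symm (invTransSL_mul_fieldSL σ)
  have h2 : r = 2 := by
    by_contra h2
    obtain ⟨k, hk⟩ := hr.odd_of_ne_two h2
    have e := pow_orderOf_eq_one (fieldSL σ * invTransSL : MulAut (Matrix.SpecialLinearGroup (Fin n) F))
    rw [h, hc.mul_pow, hk, pow_succ (invTransSL (ι := Fin n) (F := F)), pow_mul, pow_two,
      invTransSL_mul_self, one_pow, one_mul, ← map_pow, mul_eq_one_iff_eq_inv] at e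
    refine invTransSL_ne_semilinear (g := (1 : GL (Fin n) F)) (σ := σ ^ (2 * k + 1)) (by simpa using hn) ?_
    rw [map_one, one_mul, e]
    exact inv_eq_of_mul_eq_one_right invTransSL_mul_self
  subst h2
  refine ⟨rfl, orderOf_eq_prime ?_ hσ⟩
  have e := pow_orderOf_eq_one (fieldSL σ * invTransSL : MulAut (Matrix.SpecialLinearGroup (Fin n) F))
  rw [h, hc.mul_pow, pow_two (invTransSL (ι := Fin n) (F := F)), invTransSL_mul_self, mul_one, ← map_pow] at e
  exact fieldSL_injective (ι := Fin n) (by rw [e, map_one])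

/-- The sesquilinear form of a matrix. -/
noncomputable def sesq (σ : F →+* F) (G : Matrix (Fin n) (Fin n) F) :
    (Fin n → F) →ₛₗ[σ] (Fin n → F) →ₗ[F] F :=
  LinearMap.mk₂'ₛₗ σ (RingHom.id F) (fun u v => (fun i => σ (u i)) ⬝ᵥ (G *ᵥ v))
    (fun u u' v => by simp [dotProduct, add_mul, Finset.sum_add_distrib])
    (fun c u v => by simp [dotProduct, Finset.mul_sum, mul_assoc])
    (fun u v v' => by simp [Matrix.mulVec_add])
    (fun c u v => by simp [Matrix.mulVec_smul])

/-- Hermitian invertible matrices over a finite field are congruent to the identity. -/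
theorem exists_eq_mul_map_transpose {σ : F ≃+* F} (hσ : σ ≠ 1) (hσ2 : ∀ a, σ (σ a) = a) {G : GL (Fin n) F}
    (hG : ∀ i j, σ ((G : Matrix (Fin n) (Fin n) F) i j) = (G : Matrix (Fin n) (Fin n) F) j i) :
    ∃ h : GL (Fin n) F,
      (G : Matrix (Fin n) (Fin n) F) = h * ((h : Matrix (Fin n) (Fin n) F).map σ).transpose := by
  set M : Matrix (Fin n) (Fin n) F := ↑G with hM
  set s : F →+* F := σ.toRingHom
  let B := sesq s M
  have hB : ∀ u v, B u v = (fun i => σ (u i)) ⬝ᵥ (M *ᵥ v) := fun u v => rfl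
  have hs : s ≠ RingHom.id F := fun h => hσ (RingEquiv.ext fun x => RingHom.congr_fun h x)
  have hsym : B.IsSymm := by
    refine ⟨fun u v => ?_⟩
    change σ (B u v) = B v u
    rw [hB, hB]
    simp only [dotProduct, Matrix.mulVec, Finset.mul_sum, map_sum, map_mul, hσ2, hG]
    rw [Finset.sum_comm]
    exact Finset.sum_congr rfl fun i _ => Finset.sum_congr rfl fun j _ => by ring
  have hnd : ∀ x, (∀ y, B x y = 0) → x = 0 := by
    intro x hx
    have hMd : IsUnit M := G.isUnit
    funext i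
    obtain ⟨y, hy⟩ := Matrix.mulVec_surjective_iff_isUnit.2 hMd (Pi.single i 1)
    have := hx y
    rw [hB, hy, dotProduct_single_one] at this
    simpa using this
  obtain ⟨b, hb⟩ := CfsgLib.Forms.exists_orthonormal_basis_hermitian hs hσ2 B hsym hnd
    (by simp : Module.finrank F (Fin n → F) = n)
  let Q : Matrix (Fin n) (Fin n) F := Matrix.of fun i j => b j i
  have hQ : (Q.map σ).transpose * M * Q = 1 := by
    ext i j
    rw [Matrix.mul_assoc, Matrix.one_apply]
    exact Eq.trans (by simp [hB, Q, Matrix.mul_apply, Matrix.mulVec, dotProduct, Finset.mul_sum]) (hb i j)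
  have hQd : Q.det ≠ 0 := by
    intro h0
    have := congrArg Matrix.det hQ
    simp [h0] at this
  have hQu : IsUnit Q.det := isUnit_iff_ne_zero.2 hQd
  have hQs : IsUnit (Q.map σ).transpose.det := by
    rw [Matrix.det_transpose]
    have := (σ.toRingHom.map_det Q).symm
    exact isUnit_iff_ne_zero.2 (fun h => hQd (σ.injective (by rw [map_zero, ← h]; exact this.symm)))
  refine ⟨(Matrix.GeneralLinearGroup.mkOfDetNeZero (Q.map σ).transpose hQs.ne_zero)⁻¹, ?_⟩
  rw [Matrix.coe_units_inv]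
  change M = ((Q.map σ).transpose)⁻¹ * ((((Q.map σ).transpose)⁻¹).map σ).transpose
  have h1 : ((((Q.map σ).transpose)⁻¹).map σ).transpose = Q⁻¹ := by
    symm
    apply Matrix.inv_eq_left_inv
    apply Matrix.transpose_injective
    rw [Matrix.transpose_mul, Matrix.transpose_transpose, Matrix.transpose_one]
    have h2 := congrArg (fun A : Matrix (Fin n) (Fin n) F => A.map σ) (Matrix.mul_nonsing_inv _ hQs)
    simp only [Matrix.map_mul, Matrix.map_one _ (map_zero σ) (map_one σ)] at h2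
    rw [← h2]
    congr 1
    ext i j
    simp [hσ2]
  rw [h1]
  calc M = ((Q.map σ).transpose)⁻¹ * ((Q.map σ).transpose * M * Q) * Q⁻¹ := by
        rw [Matrix.mul_assoc (Q.map σ).transpose, ← Matrix.mul_assoc ((Q.map σ).transpose)⁻¹,
          Matrix.nonsing_inv_mul _ hQs, Matrix.one_mul, Matrix.mul_assoc, Matrix.mul_nonsing_inv _ hQu,
          Matrix.mul_one]
    _ = _ := by rw [hQ, Matrix.mul_one]

theorem invTransGL_scalar (u : Fˣ) :
    invTransGL (Matrix.GeneralLinearGroup.scalar (Fin n) u) = Matrix.GeneralLinearGroup.scalar (Fin n) u⁻¹ := by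
  apply Units.ext
  ext i j
  by_cases hij : i = j <;> simp [invTransGL, hij, ← map_inv, eq_comm]

/-- For a graph-field automorphism: inner-diagonal translates of order two are conjugates. -/
theorem isConj_graphField_of_sq_eq_one (hn : 3 ≤ n) {σ : F ≃+* F} (hσ : orderOf σ = 2) (g : GL (Fin n) F)
    (hpow : (toPSLAut (conjSL g * (fieldSL σ * invTransSL))) ^ 2 = 1) :
    ∃ h : GL (Fin n) F, toPSLAut (conjSL g * (fieldSL σ * invTransSL)) =
      toPSLAut (conjSL h) * toPSLAut (fieldSL σ * invTransSL) * (toPSLAut (conjSL h))⁻¹ := by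
  obtain ⟨p, hp⟩ := CharP.exists F
  have : Fact p.Prime := ⟨CharP.char_is_prime F p⟩
  have : Nontrivial (Fin n) := Fin.nontrivial_iff_two_le.2 (by omega)
  have hσ1 : σ ≠ 1 := fun h => by simp [h] at hσ
  have hσ2 : ∀ a, σ (σ a) = a := fun a => by
    have h2 : σ ^ 2 = 1 := by rw [← hσ, pow_orderOf_eq_one]
    exact RingEquiv.congr_fun (pow_two σ ▸ h2) a
  rw [← map_pow, ← map_one (toPSLAut (ι := Fin n) (F := F)), (toPSLAut_injective p).eq_iff,
    conjSL_graphField_sq] at hpow
  obtain ⟨-, c, hc⟩ := eq_one_of_conjSL_mul_fieldSL hpow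
  set M : Matrix (Fin n) (Fin n) F := ↑g with hM
  -- `g = c σ(g)ᵀ`
  have hgc : M = (c : F) • (M.map σ).transpose := by
    have e : (mapGL σ (invTransGL g))⁻¹ = mapGL σ (invTransGL g)⁻¹ := (map_inv _ _).symm
    rw [← eq_mul_inv_iff_mul_eq, e] at hc
    have := congrArg (fun A : GL (Fin n) F => (A : Matrix (Fin n) (Fin n) F)) hc
    rw [hM]
    refine this.trans ?_
    ext i j
    simp [invTransGL, Matrix.diagonal_mul]
  have hentry : ∀ i j, M i j = (c : F) * σ (M j i) := fun i j => by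
    conv_lhs => rw [hgc]
    simp
  obtain ⟨i, j, hij⟩ : ∃ i j, M i j ≠ 0 := by
    by_contra h
    push Not at h
    have h0 : M = 0 := Matrix.ext h
    have : Nonempty (Fin n) := ⟨⟨0, by omega⟩⟩
    exact g.det.ne_zero (by simp [← hM, h0])
  have hcc : (c : F) * σ c = 1 := by
    have h := hentry i j
    rw [hentry j i, map_mul, hσ2, ← mul_assoc] at h
    exact mul_right_cancel₀ hij (by rw [← h, one_mul])
  obtain ⟨b, hb⟩ := exists_div_of_unitsNorm_eq_one hσ two_pos (a := c) (Units.ext (by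
    simp [unitsNorm, Finset.prod_range_succ, hcc]))
  let G := Matrix.GeneralLinearGroup.scalar (Fin n) b⁻¹ * g
  have hGe : ∀ i j, (G : Matrix (Fin n) (Fin n) F) i j = (b : F)⁻¹ * M i j := fun i j => by
    change (Matrix.scalar (Fin n) ((b⁻¹ : Fˣ) : F) * M) i j = _
    simp [Matrix.diagonal_mul]
  obtain ⟨h, hh⟩ := exists_eq_mul_map_transpose hσ1 hσ2 (G := G) (fun i j => by
    rw [hGe, hGe, hentry j i, hb, map_mul, map_inv₀]
    field_simp)
  refine ⟨h, ?_⟩
  have key : conjSL g * (fieldSL σ * invTransSL) =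
      conjSL h * (fieldSL σ * invTransSL) * conjSL h⁻¹ := by
    have hg : g = Matrix.GeneralLinearGroup.scalar (Fin n) b * G := by
      rw [← mul_assoc, ← map_mul, mul_inv_cancel, map_one, one_mul]
    rw [hg, map_mul, conjSL_scalar, one_mul]
    rw [mul_assoc (conjSL h), mul_assoc (fieldSL σ) invTransSL, invTransSL_mul_conjSL,
      ← mul_assoc (fieldSL σ), fieldSL_mul_conjSL, mul_assoc (conjSL (mapGL σ (invTransGL h⁻¹))),
      ← mul_assoc (conjSL h), ← map_mul]
    congr 2
    apply Units.ext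
    rw [hh]
    ext i j
    simp [invTransGL, Matrix.mul_apply]
  rw [key, map_mul, map_mul, map_inv, map_inv]

end CfsgLib.AutPSL
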