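import Cfsg.Agent.AutPSL.AutOrder
import Cfsg.Agent.AutPSL.FieldAut
import Cfsg.Agent.AutPSL.LocalBalanceInner
import Cfsg.Agent.AutPSU.FieldCentralizer
import Cfsg.Agent.Linear.Perfect

/-!
# Local balance at field automorphisms of `PSL_n(q)`
-/

set_option autoImplicit false
set_option linter.unusedSectionVars false

namespace CfsgLib.AutPSL

open Matrix

variable {F : Type*} [Field F] [Fintype F] {n : ℕ}

/-- An automorphism is semilinear, or semilinear after the inverse transpose when `n ≥ 3`. -/
theorem form_cases (hn : 2 ≤ n) (y : MulAut (Matrix.ProjectiveSpecialLinearGroup (Fin n) F)) :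
    (∃ g σ, y = toPSLAut (conjSL g * fieldSL σ)) ∨
      (3 ≤ n ∧ ∃ g σ, y = toPSLAut (conjSL g * fieldSL σ * invTransSL)) := by
  obtain ⟨g, σ, γ, hγ, rfl⟩ := exists_form hn y
  rcases hγ with rfl | rfl
  · exact Or.inl ⟨g, σ, by rw [mul_one]⟩
  rcases eq_or_lt_of_le hn with rfl | h3
  · obtain ⟨w, hw⟩ := invTransSL_fin_two (F := F)
    refine Or.inl ⟨g * mapGL σ w, σ, ?_⟩
    rw [hw, mul_assoc, fieldSL_mul_conjSL, ← mul_assoc, ← map_mul]
  · exact Or.inr ⟨h3, g, σ, rfl⟩

/-- An automorphism fixing the images of all `1 + E_ij` is a field automorphism. -/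
theorem eq_field_of_fix_xe (hn : 2 ≤ n) (y : MulAut (Matrix.ProjectiveSpecialLinearGroup (Fin n) F))
    (h : ∀ i j : Fin n, i ≠ j → y (QuotientGroup.mk (xe i j 1)) = QuotientGroup.mk (xe i j 1)) :
    ∃ τ, y = toPSLAut (fieldSL τ) := by
  obtain ⟨p, hp⟩ := CharP.exists F
  have : Fact p.Prime := ⟨CharP.char_is_prime F p⟩
  have exact_eq : ∀ α : MulAut (Matrix.SpecialLinearGroup (Fin n) F),
      (∀ i j : Fin n, i ≠ j → toPSLAut α (QuotientGroup.mk (xe i j 1)) = QuotientGroup.mk (xe i j 1)) →
      ∀ i j : Fin n, i ≠ j → α (xe i j 1) = xe i j 1 := fun α hα i j hij =>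
    eq_of_mk_eq p (k := 1) (by rw [← map_pow, xe_pow_char, map_one]) (xe_pow_char p i j 1) (hα i j hij)
  rcases form_cases hn y with ⟨g, σ, rfl⟩ | ⟨h3, g, σ, rfl⟩
  · have h' := exact_eq _ h
    obtain ⟨c, hc⟩ := exists_scalar_of_commute (g : Matrix (Fin n) (Fin n) F) fun i j hij => by
      have e := congrArg (fun s : Matrix.SpecialLinearGroup (Fin n) F => s.1 * g.1) (h' i j hij)
      simp only [MulAut.mul_apply, fieldSL_xe, map_one, conjSL_coe] at e
      rw [Matrix.mul_assoc, g.inv_mul, Matrix.mul_one] at e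
      exact e
    refine ⟨σ, ?_⟩
    have hc0 : c ≠ 0 := fun h0 => g.det.ne_zero (by
      have : Nonempty (Fin n) := ⟨⟨0, by omega⟩⟩
      rw [Matrix.GeneralLinearGroup.val_det_apply, hc, h0, map_zero, Matrix.det_zero])
    rw [show g = Matrix.GeneralLinearGroup.scalar (Fin n) (Units.mk0 c hc0) from Units.ext hc, conjSL_scalar,
      one_mul]
  · exfalso
    have h' := exact_eq _ h
    have key : ∀ i j : Fin n, i ≠ j →
        g.1 * Matrix.single j i (-1 : F) = Matrix.single i j (1 : F) * g.1 := by
      intro i j hij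
      have e := congrArg (fun s : Matrix.SpecialLinearGroup (Fin n) F => s.1 * g.1) (h' i j hij)
      simp only [MulAut.mul_apply, invTransSL_xe hij, fieldSL_xe, map_neg, map_one, conjSL_coe,
        xe_coe hij, xe_coe hij.symm] at e
      rw [Matrix.mul_assoc, g.inv_mul, Matrix.mul_one, Matrix.mul_add, Matrix.add_mul, Matrix.mul_one,
        Matrix.one_mul] at e
      exact add_left_cancel e
    have hzero : ∀ r c : Fin n, g.1 r c = 0 := by
      intro r c
      obtain ⟨d, hdr, hdc⟩ : ∃ d : Fin n, d ≠ r ∧ d ≠ c := by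
        have h2 : ({r, c} : Finset (Fin n)).card < (Finset.univ : Finset (Fin n)).card := by
          rw [Finset.card_univ, Fintype.card_fin]
          exact lt_of_le_of_lt Finset.card_le_two (by omega)
        obtain ⟨d, -, hd⟩ := Finset.exists_mem_notMem_of_card_lt_card h2
        simp only [Finset.mem_insert, Finset.mem_singleton, not_or] at hd
        exact ⟨d, hd.1, hd.2⟩
      have := congrArg (fun M : Matrix (Fin n) (Fin n) F => M r d) (key d c hdc)
      simpa [Ne.symm hdr] using this
    have : Nonempty (Fin n) := ⟨⟨0, by omega⟩⟩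
    exact g.det.ne_zero (by
      rw [Matrix.GeneralLinearGroup.val_det_apply, show g.1 = 0 from Matrix.ext hzero, Matrix.det_zero])

/-- `SL_n` has no nontrivial normal subgroup of `p`-power order in characteristic `p`. -/
theorem normal_pgroup_eq_bot_SL (hn : 2 ≤ n) {p : ℕ} [Fact p.Prime] [CharP F p]
    (N : Subgroup (Matrix.SpecialLinearGroup (Fin n) F)) [N.Normal] (hN : IsPGroup p N) : N = ⊥ := by
  classical
  let act : MulAction N (Fin n → F) :=
    { smul := fun A x => A.1.1 *ᵥ x
      one_smul := fun x => Matrix.one_mulVec x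
      mul_smul := fun A B x => (Matrix.mulVec_mulVec x A.1.1 B.1.1).symm }
  let o : Fin n := ⟨0, by omega⟩
  have hcard : p ∣ Nat.card (Fin n → F) := by
    have h : addOrderOf (Pi.single o 1 : Fin n → F) = p :=
      addOrderOf_eq_prime (by rw [← Nat.cast_smul_eq_nsmul F, CharP.cast_eq_zero, zero_smul]) (by simp)
    rw [← h]
    exact addOrderOf_dvd_natCard _
  obtain ⟨v, hv, hv0⟩ := hN.exists_fixed_point_of_prime_dvd_card_of_fixed_point (α := Fin n → F) hcard
    (a := 0) (fun A => by show A.1.1 *ᵥ 0 = 0; simp)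
  let M : Submodule F (Fin n → F) :=
    { carrier := {x | ∀ A ∈ N, A.1 *ᵥ x = x}
      zero_mem' := fun A _ => by simp
      add_mem' := fun {a b} ha hb A hA => by rw [Matrix.mulVec_add, ha A hA, hb A hA]
      smul_mem' := fun r x hx A hA => by rw [Matrix.mulVec_smul, hx A hA] }
  have hinv : ∀ (g : Matrix.SpecialLinearGroup (Fin n) F), ∀ x ∈ M, g.1 *ᵥ x ∈ M := by
    intro g x hx A hA
    have h1 := congrArg (g.1 *ᵥ ·) (hx _ (‹N.Normal›.conj_mem A hA g⁻¹))
    simp only [Matrix.mulVec_mulVec, ← Matrix.SpecialLinearGroup.coe_mul,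
      show g * (g⁻¹ * A * g⁻¹⁻¹) = A * g by group] at h1
    rw [Matrix.mulVec_mulVec, ← Matrix.SpecialLinearGroup.coe_mul]
    exact h1
  have hv0' : ∃ j, v j ≠ 0 := Function.ne_iff.1 (Ne.symm hv0)
  obtain ⟨j, hj⟩ := hv0'
  have hvM : v ∈ M := fun A hA => hv ⟨A, hA⟩
  have hxe : ∀ (i k : Fin n), i ≠ k → ∀ x ∈ M, Pi.single i (x k) ∈ M := by
    intro i k hik x hx
    have h2 : (xe i k (1 : F)).1 *ᵥ x = x + Pi.single i (x k) := by
      rw [xe_coe hik, Matrix.add_mulVec, Matrix.one_mulVec, Matrix.single_mulVec_eq]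
      congr 1
      funext l
      by_cases hl : l = i <;> simp [hl]
    have h3 := M.sub_mem (hinv (xe i k 1) x hx) hx
    rwa [h2, add_sub_cancel_left] at h3
  have hsingle : ∀ i, (Pi.single i (1 : F) : Fin n → F) ∈ M := by
    have hne : ∀ i, i ≠ j → (Pi.single i (1 : F) : Fin n → F) ∈ M := fun i hi => by
      have := M.smul_mem (v j)⁻¹ (hxe i j hi v hvM)
      rwa [← Pi.single_smul, smul_eq_mul, inv_mul_cancel₀ hj] at this
    intro i
    by_cases hi : i = j
    · obtain ⟨k, hk⟩ : ∃ k : Fin n, k ≠ j := by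
        have : Nontrivial (Fin n) := Fin.nontrivial_iff_two_le.2 hn
        exact exists_ne j
      subst hi
      have := hxe i k (Ne.symm hk) _ (hne k hk)
      simpa using this
    · exact hne i hi
  rw [eq_bot_iff]
  intro A hA
  refine Subgroup.mem_bot.2 (Subtype.ext (Matrix.ext fun r c => ?_))
  have h1 := congrFun (hsingle c A hA) r
  rw [Matrix.mulVec_single_one] at h1
  by_cases hrc : r = c <;> simpa [hrc] using h1

/-- `SL` of a field automorphism's fixed field. -/
theorem fieldSL_map_subtype (σ : F ≃+* F) (B : Matrix.SpecialLinearGroup (Fin n) (CfsgLib.FixedField.fixedSub σ)) :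
    fieldSL σ (Matrix.SpecialLinearGroup.map (CfsgLib.FixedField.fixedSub σ).subtype B) =
      Matrix.SpecialLinearGroup.map (CfsgLib.FixedField.fixedSub σ).subtype B :=
  Subtype.ext (Matrix.ext fun i j => (B.1 i j).2)

/-- **Local balance at a standard field automorphism of `PSL`.** -/
theorem core_field_iff (hn : 2 ≤ n) [IsSimpleGroup (Matrix.ProjectiveSpecialLinearGroup (Fin n) F)]
    (hns : ¬ Group.IsSolvable (Matrix.ProjectiveSpecialLinearGroup (Fin n) F))
    (A : Subgroup (MulAut (Matrix.ProjectiveSpecialLinearGroup (Fin n) F)))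
    (hinn : ∀ k, MulAut.conj k ∈ A) {p : ℕ} [Fact p.Prime] (hpF : (p : F) ≠ 0)
    {σ : F ≃+* F} (hσ : orderOf σ = p) :
    Cfsg.pPrimeCore p ↥(A ⊓ Subgroup.centralizer
        {toPSLAut (fieldSL σ : MulAut (Matrix.SpecialLinearGroup (Fin n) F))}) ≠ ⊥ ↔
      Nat.Coprime p (Nat.card ↥(MonoidHom.eqLocus
        (toPSLAut (fieldSL σ : MulAut (Matrix.SpecialLinearGroup (Fin n) F))).toMonoidHom
        (MonoidHom.id (Matrix.ProjectiveSpecialLinearGroup (Fin n) F)))) := by
  classical
  have hpp : p.Prime := Fact.out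
  have : Nontrivial (Fin n) := Fin.nontrivial_iff_two_le.2 hn
  obtain ⟨r, hr⟩ := CharP.exists F
  have : Fact r.Prime := ⟨CharP.char_is_prime F r⟩
  let K := CfsgLib.FixedField.fixedSub σ
  let _instK : Fintype (CfsgLib.FixedField.fixedSub σ) := Fintype.ofFinite _
  set φ := toPSLAut (fieldSL σ : MulAut (Matrix.SpecialLinearGroup (Fin n) F)) with hφ
  have hφord : orderOf φ = p := by rw [hφ, orderOf_toPSLAut_fieldSL, hσ]
  refine core_iff_of_fixed hns A hinn hφord fun hpE => ?_
  let θ : Matrix.SpecialLinearGroup (Fin n) K →* Matrix.ProjectiveSpecialLinearGroup (Fin n) F :=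
    (QuotientGroup.mk' (Subgroup.center (Matrix.SpecialLinearGroup (Fin n) F))).comp
      (Matrix.SpecialLinearGroup.map K.subtype)
  have hθfix : ∀ B, φ (θ B) = θ B := fun B => congrArg QuotientGroup.mk (fieldSL_map_subtype σ B)
  have hker : θ.ker = Subgroup.center (Matrix.SpecialLinearGroup (Fin n) K) := by
    ext B
    rw [MonoidHom.mem_ker]
    constructor
    · intro hB
      have hB' := (QuotientGroup.eq_one_iff _).1 hB
      rw [Subgroup.mem_center_iff]
      intro B'
      refine Subtype.ext (Matrix.map_injective (f := K.subtype) K.subtype.injective ?_)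
      have h1 := congrArg Subtype.val (Subgroup.mem_center_iff.1 hB' (Matrix.SpecialLinearGroup.map K.subtype B'))
      show (B'.1 * B.1).map K.subtype = (B.1 * B'.1).map K.subtype
      rw [Matrix.map_mul, Matrix.map_mul]
      exact h1
    · intro hB
      refine (QuotientGroup.eq_one_iff _).2 (Matrix.SpecialLinearGroup.mem_center_iff.2 ?_)
      obtain ⟨s, hs1, hs⟩ := Matrix.SpecialLinearGroup.mem_center_iff.1 hB
      refine ⟨K.subtype s, by rw [← map_pow, hs1, map_one], ?_⟩
      show _ = B.1.map K.subtype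
      rw [← hs]
      ext i j
      by_cases hij : i = j <;> simp [hij]
  refine ⟨θ.range, ?_, ?_, ?_, ?_⟩
  · rintro _ ⟨B, rfl⟩
    exact hθfix B
  · rintro e he _ ⟨B, rfl⟩
    obtain ⟨D, rfl⟩ := QuotientGroup.mk_surjective e
    set iB := Matrix.SpecialLinearGroup.map K.subtype B
    obtain ⟨z, hz, hzD⟩ : ∃ z ∈ Subgroup.center (Matrix.SpecialLinearGroup (Fin n) F), fieldSL σ D = D * z :=
      ⟨D⁻¹ * fieldSL σ D, QuotientGroup.eq.1 (he : QuotientGroup.mk (fieldSL σ D) = _).symm, by group⟩
    have hfix : fieldSL σ (D * iB * D⁻¹) = D * iB * D⁻¹ := by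
      rw [map_mul, map_mul, map_inv, fieldSL_map_subtype, hzD, _root_.mul_inv_rev, mul_assoc D z,
        ← Subgroup.mem_center_iff.1 hz iB]
      group
    let M : Matrix (Fin n) (Fin n) K := Matrix.of fun i j =>
      ⟨(D * iB * D⁻¹).1 i j, congrFun (congrFun (congrArg Subtype.val hfix) i) j⟩
    refine ⟨⟨M, K.subtype.injective (by rw [RingHom.map_det, map_one]; exact (D * iB * D⁻¹).2)⟩, ?_⟩
    exact congrArg QuotientGroup.mk (Subtype.ext rfl : Matrix.SpecialLinearGroup.map K.subtype _ = D * iB * D⁻¹)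
  · have hlift : ∀ D : Matrix.SpecialLinearGroup (Fin n) F, fieldSL σ D = D →
        ∃ B, θ B = QuotientGroup.mk D := by
      intro D hD
      let M : Matrix (Fin n) (Fin n) K := Matrix.of fun i j =>
        ⟨D.1 i j, congrFun (congrFun (congrArg Subtype.val hD) i) j⟩
      refine ⟨⟨M, K.subtype.injective (by rw [RingHom.map_det, map_one]; exact D.2)⟩, ?_⟩
      exact congrArg QuotientGroup.mk (Subtype.ext rfl : Matrix.SpecialLinearGroup.map K.subtype _ = D)
    have hpH : p ∣ Nat.card θ.range := by
      obtain ⟨k, hk⟩ := exists_prime_orderOf_dvd_card' p hpE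
      obtain ⟨D, hD⟩ := QuotientGroup.mk_surjective k.1
      have hk' : φ k.1 = k.1 := k.2
      rw [← hD] at hk'
      obtain ⟨z, hz, hzD⟩ : ∃ z ∈ Subgroup.center (Matrix.SpecialLinearGroup (Fin n) F), fieldSL σ D = D * z :=
        ⟨D⁻¹ * fieldSL σ D, QuotientGroup.eq.1 (hk' : QuotientGroup.mk (fieldSL σ D) = _).symm, by group⟩
      obtain ⟨s, hs1, hs⟩ := Matrix.SpecialLinearGroup.mem_center_iff.1 hz
      rw [Fintype.card_fin] at hs1
      set m := Nat.gcd n (Fintype.card F - 1) with hm
      have hzm : z ^ m = 1 := by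
        have hs0 : s ≠ 0 := fun h0 => by simp [h0, zero_pow (by omega : n ≠ 0)] at hs1
        have hsm : s ^ m = 1 := pow_gcd_eq_one.2 ⟨hs1, FiniteField.pow_card_sub_one_eq_one s hs0⟩
        apply Subtype.ext
        rw [Matrix.SpecialLinearGroup.coe_pow, ← hs, ← map_pow, hsm, map_one]
        rfl
      by_cases hpm : p ∣ m
      · have hp0 : p ∣ Nat.card K - 1 := by
          have h1 : p ∣ Fintype.card F - 1 := hpm.trans (Nat.gcd_dvd_right _ _)
          have hK1 : 1 ≤ Nat.card K := Nat.card_pos
          rw [CfsgLib.FixedField.card_pow σ hσ] at h1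
          rw [← ZMod.natCast_eq_zero_iff, Nat.cast_sub (Nat.one_le_pow _ _ hK1), Nat.cast_pow, ZMod.pow_card] at h1
          rw [← ZMod.natCast_eq_zero_iff, Nat.cast_sub hK1]
          exact h1
        obtain ⟨c, hc⟩ := exists_prime_orderOf_dvd_card' (G := Kˣ) p (by rw [Nat.card_units]; exact hp0)
        have hcp : ((c : K)) ^ p = 1 := by
          rw [← Units.val_pow_eq_pow_val, ← hc, pow_orderOf_eq_one, Units.val_one]
        have hc1 : (c : K) ≠ 1 := fun h => by
          rw [show c = 1 from Units.ext h, orderOf_one] at hc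
          exact hpp.one_lt.ne hc
        obtain ⟨o₁, o₂, h12⟩ : ∃ a b : Fin n, a ≠ b := exists_pair_ne _
        by_cases hex : p = 2 ∧ n = 2
        · obtain ⟨rfl, rfl⟩ := hex
          let J : Matrix.SpecialLinearGroup (Fin 2) K := ⟨!![0, 1; -1, 0], by simp [Matrix.det_fin_two]⟩
          have hJ2 : θ J ^ 2 = 1 := by
            rw [← map_pow, ← MonoidHom.mem_ker, hker]
            refine Matrix.SpecialLinearGroup.mem_center_iff.2 ⟨-1, by simp, ?_⟩
            rw [Matrix.SpecialLinearGroup.coe_pow]
            ext i j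
            fin_cases i <;> fin_cases j <;> simp [J, pow_two, Matrix.mul_apply]
          have hJ1 : θ J ≠ 1 := fun h => by
            obtain ⟨s, -, hs⟩ := Matrix.SpecialLinearGroup.mem_center_iff.1 (hker ▸ MonoidHom.mem_ker.2 h : J ∈ _)
            have := congrFun (congrFun hs 0) 1
            simp [J] at this
          have ho : orderOf (θ J) = 2 := orderOf_eq_prime hJ2 hJ1
          exact ho.symm.dvd.trans (Subgroup.orderOf_dvd_natCard _ ⟨J, rfl⟩)
        set d : Matrix.SpecialLinearGroup (Fin n) K := Matrix.SpecialLinearGroup.diag2n h12 (c : K) c.ne_zero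
        have hdp : θ d ^ p = 1 := by
          rw [← map_pow]
          convert map_one θ
          apply Subtype.ext
          rw [Matrix.SpecialLinearGroup.coe_pow, Matrix.SpecialLinearGroup.diag2n_coe, Matrix.diagonal_pow,
            Matrix.SpecialLinearGroup.coe_one, ← Matrix.diagonal_one]
          congr 1
          funext i
          rw [Pi.pow_apply]
          split_ifs <;> simp [hcp, inv_pow]
        have hd1 : θ d ≠ 1 := by
          intro h
          obtain ⟨s, -, hs⟩ := Matrix.SpecialLinearGroup.mem_center_iff.1 (hker ▸ MonoidHom.mem_ker.2 h : d ∈ _)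
          have e1 := congrFun (congrFun hs o₁) o₁
          have e2 := congrFun (congrFun hs o₂) o₂
          simp [d, Matrix.SpecialLinearGroup.diag2n_coe, h12.symm] at e1 e2
          by_cases hn2 : n = 2
          · have hp2 : p ≠ 2 := fun h => hex ⟨h, hn2⟩
            have hcc : (c : K) ^ 2 = 1 := by
              rw [pow_two, ← e1]; nth_rewrite 2 [e2]; rw [e1, mul_inv_cancel₀ c.ne_zero]
            refine hc1 ?_
            obtain ⟨k, hk⟩ := hpp.odd_of_ne_two hp2
            rw [hk, pow_succ, pow_mul, hcc, one_pow, one_mul] at hcp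
            exact hcp
          · obtain ⟨o₃, h3⟩ : ∃ o : Fin n, o ∉ ({o₁, o₂} : Finset (Fin n)) := by
              have h2 : ({o₁, o₂} : Finset (Fin n)).card < (Finset.univ : Finset (Fin n)).card := by
                rw [Finset.card_univ, Fintype.card_fin]
                exact lt_of_le_of_lt Finset.card_le_two (by omega)
              obtain ⟨o, -, ho⟩ := Finset.exists_mem_notMem_of_card_lt_card h2
              exact ⟨o, ho⟩
            simp only [Finset.mem_insert, Finset.mem_singleton, not_or] at h3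
            have e3 := congrFun (congrFun hs o₃) o₃
            simp [d, Matrix.SpecialLinearGroup.diag2n_coe, h3.1, h3.2] at e3
            exact hc1 (e1.symm.trans e3)
        have ho : orderOf (θ d) = p := orderOf_eq_prime hdp hd1
        rw [← ho]
        exact Subgroup.orderOf_dvd_natCard _ ⟨d, rfl⟩
      · obtain ⟨B, hB⟩ := hlift (D ^ m) (by
          have hcm : Commute D z := Subgroup.mem_center_iff.1 hz D
          rw [map_pow, hzD, hcm.mul_pow, hzm, mul_one])
        have hkB : θ B = k.1 ^ m := by rw [hB, QuotientGroup.mk_pow, hD]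
        have hk2 : orderOf k.1 = p := by rw [Subgroup.orderOf_coe, hk]
        have ho : orderOf (k.1 ^ m) = p := by
          rw [Nat.Coprime.orderOf_pow (by rw [hk2]; exact hpp.coprime_iff_not_dvd.2 hpm), hk2]
        rw [← ho]
        exact Subgroup.orderOf_dvd_natCard _ ⟨B, hkB⟩
    intro N hN hNn hNc
    have hnot : ¬ p ∣ Nat.card N := hpp.coprime_iff_not_dvd.1 hNc.symm
    set M := N.comap θ with hM
    have hMn : M.Normal := ⟨fun b hb g => by
      show θ (g * b * g⁻¹) ∈ N
      rw [map_mul, map_mul, map_inv]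
      exact hNn _ ⟨g, rfl⟩ _ hb⟩
    have := hMn
    have hmap : M.map θ = N := Subgroup.map_comap_eq_self hN
    by_cases hs₀ : n = 2 ∧ Fintype.card K < 4
    · obtain ⟨rfl, hK⟩ := hs₀
      have hrK : CharP K r := inferInstance
      obtain ⟨a, hrp, ha⟩ := FiniteField.card K r
      have hK2 : Fintype.card K = 2 ∨ Fintype.card K = 3 := by
        have := Fintype.one_lt_card (α := K); omega
      have hrK' : Fintype.card K = r := by
        have h1 : r ∣ Fintype.card K := ha ▸ dvd_pow_self r a.ne_zero
        rcases hK2 with h | h <;> rw [h] at h1 ⊢ <;>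
          exact ((Nat.prime_dvd_prime_iff_eq hrp (by norm_num)).1 h1).symm
      have hcard := CfsgLib.Linear.card_SL_two (F := K)
      rw [hrK'] at hcard
      have hpr : p ≠ r := fun h => hpF (by rw [h, CharP.cast_eq_zero])
      have hNd : Nat.card N ∣ r * (r ^ 2 - 1) :=
        hcard ▸ (Subgroup.card_dvd_of_le hN).trans (Subgroup.card_range_dvd θ)
      have hpd : p ∣ r * (r ^ 2 - 1) := hcard ▸ hpH.trans (Subgroup.card_range_dvd θ)
      have hp2 : p ∣ r ^ 2 - 1 := ((Nat.Prime.dvd_mul hpp).1 hpd).resolve_left fun h =>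
        hpr ((Nat.prime_dvd_prime_iff_eq hpp hrp).1 h)
      have hNr : IsPGroup r N := by
        have hc : ∃ k, Nat.card N ∣ r ^ k := by
          rcases hK2 with h | h <;> rw [hrK'] at h <;> subst h
          · have : p = 3 := (Nat.prime_dvd_prime_iff_eq hpp Nat.prime_three).1 (by simpa using hp2)
            subst this
            exact ⟨1, (hNc.pow_right 1).dvd_of_dvd_mul_right (by simpa using hNd)⟩
          · have : p = 2 := (Nat.prime_dvd_prime_iff_eq hpp Nat.prime_two).1
              (hpp.dvd_of_dvd_pow (n := 3) (by simpa using hp2))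
            subst this
            exact ⟨1, (hNc.pow_right 3).dvd_of_dvd_mul_right (by simpa using hNd)⟩
        obtain ⟨k, hk⟩ := hc
        obtain ⟨i, -, hi⟩ := (Nat.dvd_prime_pow hrp).1 hk
        exact IsPGroup.of_card hi
      have : Group.IsNilpotent N := hNr.isNilpotent
      let f : M →* N := (θ.comp M.subtype).codRestrict N fun x => x.2
      have hfker : f.ker ≤ Subgroup.center M := by
        intro x hx
        have h1 : x.1 ∈ Subgroup.center _ := hker ▸ (congrArg Subtype.val (MonoidHom.mem_ker.1 hx) : θ x.1 = 1)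
        exact Subgroup.mem_center_iff.2 fun y => Subtype.ext (Subgroup.mem_center_iff.1 h1 y.1)
      have hMnil : Group.IsNilpotent M := Subgroup.isNilpotent_of_ker_le_center f hfker
      have P : Sylow r M := default
      have hPn : (P : Subgroup M).Normal :=
        P.normal_of_normalizerCondition Group.normalizerCondition_of_isNilpotent
      have := P.characteristic_of_normal hPn
      have hP1 : ((P : Subgroup M).map M.subtype) = ⊥ := normal_pgroup_eq_bot_SL le_rfl _ (P.2.map _)
      rw [Subgroup.map_eq_bot_iff_of_injective _ M.subtype_injective] at hP1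
      have hrM : ¬ r ∣ Nat.card M := fun h => P.ne_bot_of_dvd_card h hP1
      have hfs : Function.Surjective f := fun y => by
        obtain ⟨b, hb, hb'⟩ : y.1 ∈ M.map θ := by rw [hmap]; exact y.2
        exact ⟨⟨b, hb⟩, Subtype.ext hb'⟩
      obtain ⟨i, hi⟩ := hNr.exists_card_eq
      have hN2 := Subgroup.card_dvd_of_surjective f hfs
      rw [hi] at hN2
      rcases i with _ | i
      · exact Subgroup.eq_bot_of_card_eq N (by rw [hi]; rfl)
      · exact absurd ((dvd_pow_self r i.succ_ne_zero).trans hN2) hrM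
    · have := CfsgLib.Linear.isSimpleGroup_PSL_of (F := K) n hn (fun h => by
        by_contra hc
        exact hs₀ ⟨h, by omega⟩)
      rcases ((hMn.map (QuotientGroup.mk' (Subgroup.center (Matrix.SpecialLinearGroup (Fin n) K)))
          (QuotientGroup.mk'_surjective _))).eq_bot_or_eq_top with h | h
      · rw [Subgroup.map_eq_bot_iff, QuotientGroup.ker_mk'] at h
        rw [← hmap, Subgroup.map_eq_bot_iff, hker]
        exact h
      · exfalso
        apply hnot
        have htop : M ⊔ Subgroup.center _ = ⊤ := by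
          have := congrArg (Subgroup.comap (QuotientGroup.mk' (Subgroup.center
            (Matrix.SpecialLinearGroup (Fin n) K)))) h
          rwa [Subgroup.comap_map_eq, QuotientGroup.ker_mk', Subgroup.comap_top] at this
        have h2 : N = θ.range := by
          rw [MonoidHom.range_eq_map, ← htop, Subgroup.map_sup, hmap, (Subgroup.map_eq_bot_iff _).2 hker.ge,
            sup_bot_eq]
        rw [h2]
        exact hpH
  · intro y _ hy
    obtain ⟨τ, rfl⟩ := eq_field_of_fix_xe hn y fun i j hij => by
      refine hy _ ⟨xe i j 1, ?_⟩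
      show QuotientGroup.mk (Matrix.SpecialLinearGroup.map K.subtype (xe i j 1)) = _
      congr 1
      apply Subtype.ext
      show ((xe i j (1 : K)).1).map K.subtype = (xe i j (1 : F)).1
      rw [xe_coe hij, xe_coe hij]
      ext a b
      simp [Matrix.single_apply, Matrix.one_apply, apply_ite Subtype.val]
    have hτ : ∀ c, σ c = c → τ c = c := by
      intro c hc
      obtain ⟨i, j, hij⟩ : ∃ a b : Fin n, a ≠ b := exists_pair_ne _
      have h1 := hy (QuotientGroup.mk (xe i j c)) ⟨xe i j ⟨c, hc⟩, by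
        show QuotientGroup.mk (Matrix.SpecialLinearGroup.map K.subtype (xe i j ⟨c, hc⟩)) = _
        congr 1
        apply Subtype.ext
        show ((xe i j (⟨c, hc⟩ : K)).1).map K.subtype = (xe i j c).1
        rw [xe_coe hij, xe_coe hij]
        ext a b
        simp [Matrix.single_apply, Matrix.one_apply, apply_ite Subtype.val]⟩
      have h2 : fieldSL τ (xe i j c) = xe i j c :=
        eq_of_mk_eq r (k := 1) (by rw [← map_pow, xe_pow_char, map_one]) (xe_pow_char r i j c) h1
      rw [fieldSL_xe] at h2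
      exact (xe_inj hij).1 h2
    obtain ⟨k, hk⟩ := CfsgLib.AutPSU.mem_zpowers_of_fix hτ
    refine ⟨1, ?_⟩
    rw [← hk, map_zpow fieldSL, map_zpow toPSLAut, pow_one, ← zpow_natCast, ← _root_.zpow_mul, mul_comm,
      _root_.zpow_mul, zpow_natCast, ← hφ, ← hφord, pow_orderOf_eq_one, _root_.one_zpow]

end CfsgLib.AutPSL
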