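import Cfsg.Agent.AutPSL.Structure
import Cfsg.Agent.AutPSL.Descent

/-!
# Uniqueness in the normal form of automorphisms of `PSL_n(F)`; the order of the automorphism group
-/

set_option autoImplicit false

namespace CfsgLib.AutPSL

open Matrix

variable {F : Type*} [Field F]

theorem invTransSL_fin_two : ∃ w : GL (Fin 2) F, (invTransSL : MulAut (Matrix.SpecialLinearGroup (Fin 2) F)) =
    conjSL w := by
  let w : GL (Fin 2) F :=
    { val := !![0, 1; -1, 0]
      inv := !![0, -1; 1, 0]
      val_inv := by ext i j; fin_cases i <;> fin_cases j <;> simp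
      inv_val := by ext i j; fin_cases i <;> fin_cases j <;> simp }
  refine ⟨w, ?_⟩
  ext1 s
  apply Subtype.ext
  rw [invTransSL_coe, conjSL_coe, Matrix.SpecialLinearGroup.coe_inv, Matrix.adjugate_fin_two]
  ext i j
  fin_cases i <;> fin_cases j <;> simp [w, Matrix.mul_apply, Matrix.vecMul, dotProduct, Fin.sum_univ_two]

/-- Uniqueness of the semilinear part. -/
theorem semilinear_unique {ι : Type*} [Fintype ι] [DecidableEq ι] [Nontrivial ι] {g g' : GL ι F}
    {σ σ' : F ≃+* F} (h : conjSL g * fieldSL σ = conjSL g' * fieldSL σ') :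
    σ = σ' ∧ ∃ u : Fˣ, g = Matrix.GeneralLinearGroup.scalar ι u * g' := by
  have h1 : conjSL (g'⁻¹ * g) * fieldSL (σ * σ'⁻¹) = 1 := by
    rw [map_mul conjSL, map_inv conjSL, map_mul fieldSL, map_inv fieldSL,
      show (conjSL g')⁻¹ * conjSL g * (fieldSL σ * (fieldSL σ')⁻¹) =
        (conjSL g')⁻¹ * (conjSL g * fieldSL σ) * (fieldSL σ')⁻¹ by group, h]
    group
  obtain ⟨h2, u, hu⟩ := eq_one_of_conjSL_mul_fieldSL h1
  refine ⟨mul_inv_eq_one.1 h2, u, ?_⟩
  have hcen : Matrix.GeneralLinearGroup.scalar ι u ∈ Subgroup.center (GL ι F) := by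
    rw [Matrix.GeneralLinearGroup.center_eq_range_scalar]; exact ⟨u, rfl⟩
  rw [← Subgroup.mem_center_iff.1 hcen g', ← hu, mul_inv_cancel_left]

/-- The semilinear part and the graph part do not overlap. -/
theorem semilinear_ne_mul_invTrans {ι : Type*} [Fintype ι] [DecidableEq ι] (h3 : 3 ≤ Fintype.card ι)
    {g g' : GL ι F} {σ σ' : F ≃+* F} :
    conjSL g * fieldSL σ * invTransSL ≠ conjSL g' * fieldSL σ' := by
  intro h
  refine invTransSL_ne_semilinear (g := mapGL σ⁻¹ (g⁻¹ * g')) (σ := σ⁻¹ * σ') h3 ?_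
  rw [map_mul fieldSL, ← mul_assoc, ← fieldSL_mul_conjSL, map_mul conjSL, map_inv conjSL, map_inv fieldSL,
    show (fieldSL σ)⁻¹ * ((conjSL g)⁻¹ * conjSL g') * fieldSL σ' =
      (fieldSL σ)⁻¹ * (conjSL g)⁻¹ * (conjSL g' * fieldSL σ') by group, ← h]
  group

variable [Fintype F]

theorem card_aut_psl {p f : ℕ} [Fact p.Prime] (hF : Fintype.card F = p ^ f) (hf : 1 ≤ f) {n : ℕ} (hn : 2 ≤ n) :
    Nat.card (MulAut (Matrix.ProjectiveSpecialLinearGroup (Fin n) F)) =
      (if n = 2 then 1 else 2) * Nat.card (F ≃+* F) * Nat.card (Matrix.ProjGenLinGroup (Fin n) F) := by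
  classical
  haveI : CharP F p := charP_of_card_eq_prime_pow hF
  have : Nontrivial (Fin n) := Fin.nontrivial_iff_two_le.2 hn
  let sel : Fin (if n = 2 then 1 else 2) → MulAut (Matrix.SpecialLinearGroup (Fin n) F) :=
    fun b => if (b : ℕ) = 0 then 1 else invTransSL
  let Ψ : Fin (if n = 2 then 1 else 2) × (F ≃+* F) × (GL (Fin n) F ⧸ Subgroup.center (GL (Fin n) F)) →
      MulAut (Matrix.ProjectiveSpecialLinearGroup (Fin n) F) :=
    fun t => toPSLAut (conjSL (Quotient.out t.2.2) * fieldSL t.2.1 * sel t.1)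
  have hout : ∀ g : GL (Fin n) F,
      conjSL (Quotient.out (QuotientGroup.mk g : GL (Fin n) F ⧸ Subgroup.center (GL (Fin n) F))) = conjSL g := by
    intro g
    obtain ⟨⟨z, hz⟩, he⟩ := QuotientGroup.mk_out_eq_mul (Subgroup.center (GL (Fin n) F)) g
    rw [he, map_mul]
    rw [Matrix.GeneralLinearGroup.center_eq_range_scalar] at hz
    obtain ⟨u, rfl⟩ := hz
    rw [conjSL_scalar, mul_one]
  have hsurj : Function.Surjective Ψ := by
    intro β
    obtain ⟨g, σ, γ, hγ, rfl⟩ := exists_form hn β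
    rcases hγ with rfl | rfl
    · exact ⟨(⟨0, by split_ifs <;> omega⟩, σ, QuotientGroup.mk g), by simp [Ψ, sel, hout]⟩
    · rcases eq_or_ne n 2 with h2 | h2
      · subst h2
        obtain ⟨w, hw⟩ := invTransSL_fin_two (F := F)
        refine ⟨(⟨0, by simp⟩, σ, QuotientGroup.mk (g * mapGL σ w)), ?_⟩
        simp only [Ψ, sel, hout, if_pos, mul_one]
        rw [hw, mul_assoc, fieldSL_mul_conjSL, ← mul_assoc, ← map_mul]
      · exact ⟨(⟨1, by rw [if_neg h2]; omega⟩, σ, QuotientGroup.mk g), by simp [Ψ, sel, hout]⟩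
  have hinj : Function.Injective Ψ := by
    rintro ⟨b, σ, q⟩ ⟨b', σ', q'⟩ h
    have h' := toPSLAut_injective p h
    simp only at h'
    have hb : b = b' := by
      rcases eq_or_ne n 2 with h2 | h2
      · have : (if n = 2 then 1 else 2) = 1 := if_pos h2
        exact Fin.ext (by omega)
      · have h3 : 3 ≤ Fintype.card (Fin n) := by rw [Fintype.card_fin]; omega
        have h4 : (if n = 2 then 1 else 2) = 2 := if_neg h2
        apply Fin.ext
        rcases Nat.eq_zero_or_pos (b : ℕ) with hb | hb <;> rcases Nat.eq_zero_or_pos (b' : ℕ) with hb' | hb'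
        · omega
        · exfalso
          simp only [sel, hb, if_true, if_neg hb'.ne', mul_one] at h'
          exact semilinear_ne_mul_invTrans h3 h'.symm
        · exfalso
          simp only [sel, hb', if_true, if_neg hb.ne', mul_one] at h'
          exact semilinear_ne_mul_invTrans h3 h'
        · omega
    subst hb
    obtain ⟨rfl, u, hu⟩ := semilinear_unique (mul_right_cancel h')
    congr 2
    rw [← QuotientGroup.out_eq' q, ← QuotientGroup.out_eq' q', hu]
    refine QuotientGroup.eq.2 ?_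
    have hcen : Matrix.GeneralLinearGroup.scalar (Fin n) u ∈ Subgroup.center (GL (Fin n) F) := by
      rw [Matrix.GeneralLinearGroup.center_eq_range_scalar]; exact ⟨u, rfl⟩
    rw [_root_.mul_inv_rev, mul_assoc, ← Subgroup.mem_center_iff.1 (Subgroup.inv_mem _ hcen), ← mul_assoc,
      inv_mul_cancel, one_mul]
    exact Subgroup.inv_mem _ hcen
  rw [← Nat.card_eq_of_bijective Ψ ⟨hinj, hsurj⟩, Nat.card_prod, Nat.card_prod, Nat.card_fin, mul_assoc]
  rfl

end CfsgLib.AutPSL
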