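import Cfsg.Agent.LocalEven50.Basic

/-!
# Criteria for a trivial or nontrivial `p'`-core
-/

set_option autoImplicit false

namespace CfsgLib.AutPSL

open CfsgLib.LocalEven50

variable {G : Type*} [Group G] [Finite G] {p : ℕ} [Fact p.Prime]

omit [Finite G] in
theorem core_ne_bot {L : Subgroup G} (hL : L.Normal) (hne : L ≠ ⊥) (hc : (Nat.card L).Coprime p) :
    Cfsg.pPrimeCore p G ≠ ⊥ :=
  fun h => hne (le_bot_iff.1 (h ▸ le_pPrimeCore hL hc))

theorem eq_one_of_pow_mem_coprime {W : Subgroup G} (hW : (Nat.card W).Coprime p) {g : G} (hg : g ∈ W)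
    {k : ℕ} (hk : g ^ p ^ k = 1) : g = 1 := by
  rw [← orderOf_eq_one_iff]
  exact Nat.eq_one_of_dvd_coprimes (hW.pow_right k) (Subgroup.orderOf_dvd_natCard W hg) (orderOf_dvd_of_pow_eq_one hk)

/-- A normal subgroup `L` with a characteristic piece `L₀` without normal `p'`-subgroups and with
`p`-centraliser forces a trivial `p'`-core. -/
theorem core_eq_bot (L L₀ : Subgroup G) [L.Normal] (hle : L₀ ≤ L)
    (hnorm : ∀ l ∈ L, ∀ x ∈ L₀, l * x * l⁻¹ ∈ L₀)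
    (hO : ∀ N : Subgroup G, N ≤ L₀ → (∀ x ∈ L₀, ∀ y ∈ N, x * y * x⁻¹ ∈ N) → (Nat.card N).Coprime p → N = ⊥)
    (hcent : ∀ g, (∀ x ∈ L₀, g * x = x * g) → ∃ k : ℕ, g ^ p ^ k = 1) :
    Cfsg.pPrimeCore p G = ⊥ := by
  set W := Cfsg.pPrimeCore p G with hW
  have hWc : (Nat.card W).Coprime p := pPrimeCore_coprime p
  have hWn : W.Normal := pPrimeCore_normal p
  have hN : W ⊓ L₀ = ⊥ := by
    refine hO _ inf_le_right (fun x hx y hy => ⟨hWn.conj_mem y hy.1 x, ?_⟩)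
      (hWc.coprime_dvd_left (Subgroup.card_dvd_of_le inf_le_left))
    exact L₀.mul_mem (L₀.mul_mem hx hy.2) (L₀.inv_mem hx)
  have hD : ∀ d ∈ W ⊓ L, d = 1 := by
    intro d hd
    have hc : ∀ x ∈ L₀, d * x = x * d := by
      intro x hx
      have h1 : d * x * d⁻¹ * x⁻¹ ∈ W ⊓ L₀ := by
        refine ⟨?_, L₀.mul_mem (hnorm d hd.2 x hx) (L₀.inv_mem hx)⟩
        rw [show d * x * d⁻¹ * x⁻¹ = d * (x * d⁻¹ * x⁻¹) by group]
        exact W.mul_mem hd.1 (hWn.conj_mem _ (W.inv_mem hd.1) x)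
      rw [hN, Subgroup.mem_bot, mul_inv_eq_one, mul_inv_eq_iff_eq_mul] at h1
      exact h1
    obtain ⟨k, hk⟩ := hcent d hc
    exact eq_one_of_pow_mem_coprime hWc hd.1 hk
  rw [eq_bot_iff]
  intro w hw
  have hc : ∀ x ∈ L₀, w * x = x * w := by
    intro x hx
    have h1 : w * x * w⁻¹ * x⁻¹ ∈ W ⊓ L := by
      refine ⟨?_, L.mul_mem ((inferInstance : L.Normal).conj_mem x (hle hx) w) (L.inv_mem (hle hx))⟩
      rw [show w * x * w⁻¹ * x⁻¹ = w * (x * w⁻¹ * x⁻¹) by group]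
      exact W.mul_mem hw (hWn.conj_mem _ (W.inv_mem hw) x)
    have := hD _ h1
    rwa [mul_inv_eq_one, mul_inv_eq_iff_eq_mul] at this
  obtain ⟨k, hk⟩ := hcent w hc
  exact Subgroup.mem_bot.2 (eq_one_of_pow_mem_coprime hWc hw hk)

/-- Conjugation carries one `H ⊓ C(x)` to another. -/
theorem pPrimeCore_ne_bot_congr {A B : Type*} [Group A] [Group B] (e : A ≃* B) :
    Cfsg.pPrimeCore p A ≠ ⊥ → Cfsg.pPrimeCore p B ≠ ⊥ := by
  intro h hB
  apply h
  rw [eq_bot_iff]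
  refine sSup_le fun N hN => ?_
  have h1 : N.map e.toMonoidHom ≤ Cfsg.pPrimeCore p B := by
    refine le_sSup ⟨hN.1.map _ e.surjective, ?_⟩
    rw [Subgroup.card_map_of_injective e.injective]
    exact hN.2
  rw [hB, le_bot_iff, Subgroup.map_eq_bot_iff_of_injective _ e.injective] at h1
  exact h1.le

end CfsgLib.AutPSL
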