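import Cfsg.Agent.AutPSL.ClassSplit

/-!
# Transporting centralisers and class counts along conjugation
-/

set_option autoImplicit false

namespace CfsgLib.AutPSL

open Cfsg

variable {X : Type*} [Group X]

theorem isConjUnder_conj {H : Subgroup X} {α : X} (hH : ∀ g, g ∈ H ↔ α * g * α⁻¹ ∈ H) {x y : X} :
    Cfsg.IsConjUnder H (α * x * α⁻¹) (α * y * α⁻¹) ↔ Cfsg.IsConjUnder H x y := by
  constructor
  · rintro ⟨h, hh, e⟩
    refine ⟨α⁻¹ * h * α, (hH _).2 (by simpa [mul_assoc] using hh), ?_⟩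
    have e2 : y = α⁻¹ * (h * (α * x * α⁻¹) * h⁻¹) * α := by rw [← e]; group
    rw [e2]; group
  · rintro ⟨h, hh, rfl⟩
    exact ⟨α * h * α⁻¹, (hH h).1 hh, by group⟩

theorem splitClassCount_conj (H K : Subgroup X) (α x : X) (hH : ∀ g, g ∈ H ↔ α * g * α⁻¹ ∈ H)
    (hK : ∀ g, g ∈ K ↔ α * g * α⁻¹ ∈ K) :
    Cfsg.splitClassCount H K (α * x * α⁻¹) = Cfsg.splitClassCount H K x := by
  unfold Cfsg.splitClassCount
  let e : {y : X // Cfsg.IsConjUnder H x y} ≃ {y : X // Cfsg.IsConjUnder H (α * x * α⁻¹) y} :=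
    Equiv.subtypeEquiv (MulAut.conj α).toEquiv fun y => (isConjUnder_conj hH).symm
  refine (Nat.card_congr (Quot.congr e fun y z => ?_)).symm
  exact (isConjUnder_conj hK).symm

/-- The subgroup `H ⊓ C(α x α⁻¹)` is the conjugate of `H ⊓ C(x)`. -/
def centralizerConjEquiv (H : Subgroup X) (α x : X) (hH : ∀ g, g ∈ H ↔ α * g * α⁻¹ ∈ H) :
    ↥(H ⊓ Subgroup.centralizer {x}) ≃* ↥(H ⊓ Subgroup.centralizer {α * x * α⁻¹}) where
  toFun g := ⟨α * g.1 * α⁻¹, (hH _).1 g.2.1, Subgroup.mem_centralizer_singleton_iff.2 (by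
    have h := Subgroup.mem_centralizer_singleton_iff.1 g.2.2
    calc α * g.1 * α⁻¹ * (α * x * α⁻¹) = α * (g.1 * x) * α⁻¹ := by group
      _ = α * (x * g.1) * α⁻¹ := by rw [h]
      _ = _ := by group)⟩
  invFun g := ⟨α⁻¹ * g.1 * α, (hH _).2 (by simpa [mul_assoc] using g.2.1),
    Subgroup.mem_centralizer_singleton_iff.2 (by
    have h := Subgroup.mem_centralizer_singleton_iff.1 g.2.2
    calc α⁻¹ * g.1 * α * x = α⁻¹ * (g.1 * (α * x * α⁻¹)) * α := by group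
      _ = α⁻¹ * (α * x * α⁻¹ * g.1) * α := by rw [h]
      _ = _ := by group)⟩
  left_inv g := Subtype.ext (by simp [mul_assoc])
  right_inv g := Subtype.ext (by simp [mul_assoc])
  map_mul' g h := Subtype.ext (by simp [mul_assoc])

/-- Inner automorphisms form a normal subgroup. -/
theorem conj_mem_inn {T : Type*} [Group T] (α : MulAut T) {δ : MulAut T} (hδ : δ ∈ Cfsg.Inn T) :
    α * δ * α⁻¹ ∈ Cfsg.Inn T := by
  obtain ⟨t, rfl⟩ := hδ
  refine ⟨α t, ?_⟩
  ext1 y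
  simp [MulAut.mul_apply, MulAut.inv_def]

/-- A normal subgroup of the whole group is invariant under any conjugation. -/
theorem mem_iff_conj_mem {H : Subgroup X} (hH : ∀ (α : X) {g : X}, g ∈ H → α * g * α⁻¹ ∈ H) (α g : X) :
    g ∈ H ↔ α * g * α⁻¹ ∈ H :=
  ⟨fun h => hH α h, fun h => by simpa [mul_assoc] using hH α⁻¹ h⟩

end CfsgLib.AutPSL
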