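import Cfsg.Agent.AutPSL.FieldCentralizer
import Cfsg.Agent.AutPSL.GraphField
import Cfsg.Agent.ClassicalCore.SympOdd
import Cfsg.Agent.ClassicalCore.Lines

/-!
# Local balance at involutory graph automorphisms of `PSL_n(q)`, `q` odd

The fixed points of `s ↦ g s⁻ᵀ g⁻¹` come from the isometries of the form `g⁻¹`, symmetric or
alternating.
-/

set_option autoImplicit false
set_option linter.unusedSectionVars false

namespace CfsgLib.AutPSL

open Matrix CfsgLib.ClassicalCore

variable {F : Type*} [Field F] {n : ℕ}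

/-- A linear equivalence of `F^n` as a matrix. -/
noncomputable def eqvGL : ((Fin n → F) ≃ₗ[F] (Fin n → F)) →* GL (Fin n) F where
  toFun a := ⟨LinearMap.toMatrix' a.toLinearMap, LinearMap.toMatrix' a.symm.toLinearMap,
    by rw [← LinearMap.toMatrix'_comp, LinearEquiv.comp_coe, LinearEquiv.symm_trans_self]; simp,
    by rw [← LinearMap.toMatrix'_comp, LinearEquiv.comp_coe, LinearEquiv.self_trans_symm]; simp⟩
  map_one' := Units.ext (by simp)
  map_mul' a b := Units.ext (LinearMap.toMatrix'_comp a.toLinearMap b.toLinearMap)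

theorem eqvGL_mulVec (a : (Fin n → F) ≃ₗ[F] (Fin n → F)) (x : Fin n → F) : (eqvGL a).1 *ᵥ x = a x := by
  show LinearMap.toMatrix' a.toLinearMap *ᵥ x = a x
  rw [← Matrix.toLin'_apply, Matrix.toLin'_toMatrix']
  rfl

variable [Fintype F]

/-- A semilinear map fixing every line is scalar. -/
theorem scalar_of_all_lines (hn : 2 ≤ n) {h : GL (Fin n) F} {τ : F ≃+* F}
    (key : ∀ x : Fin n → F, x ≠ 0 → ∃ t : F, h.1 *ᵥ (τ ∘ x) = t • x) :
    τ = 1 ∧ ∃ u : Fˣ, h = Matrix.GeneralLinearGroup.scalar (Fin n) u := by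
  classical
  have hsingle : ∀ i, (τ ∘ (Pi.single i 1 : Fin n → F)) = Pi.single i 1 := fun i => by
    funext k; by_cases hk : k = i <;> simp [hk]
  choose t ht using fun i => key (Pi.single i 1) (by simp)
  have hent : ∀ r i, h.1 r i = if r = i then t i else 0 := by
    intro r i
    have h1 := congrFun (ht i) r
    rw [hsingle, Matrix.mulVec_single_one] at h1
    by_cases hri : r = i <;> simpa [hri] using h1
  have ht0 : ∀ i, t i ≠ 0 := fun i h0 => h.det.ne_zero (by
    rw [Matrix.GeneralLinearGroup.val_det_apply]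
    refine Matrix.det_eq_zero_of_row_eq_zero i fun j => ?_
    rw [hent]
    split_ifs with hij
    · rw [← hij, h0]
    · rfl)
  have hdiag : h.1 = Matrix.diagonal t := Matrix.ext fun r i => by
    by_cases hri : r = i <;> simp [hent, hri]
  have hpair : ∀ i j, i ≠ j → ∀ c : F, t j * τ c = t i * c := by
    intro i j hij c
    have hx : (Pi.single i 1 + c • Pi.single j 1 : Fin n → F) ≠ 0 := fun h0 => by
      simpa [hij] using congrFun h0 i
    obtain ⟨s, hs⟩ := key _ hx
    have ei := congrFun hs i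
    have ej := congrFun hs j
    rw [hdiag, Matrix.mulVec_diagonal] at ei ej
    simp [hij, hij.symm] at ei ej
    rw [ei]
    linear_combination ej
  obtain ⟨o₁, o₂, h12⟩ : ∃ a b : Fin n, a ≠ b := ⟨⟨0, by omega⟩, ⟨1, by omega⟩, by simp⟩
  have hconst : ∀ i, t i = t o₁ := by
    intro i
    by_cases hi : i = o₁
    · rw [hi]
    simpa using hpair o₁ i (Ne.symm hi) 1
  refine ⟨RingEquiv.ext fun c => ?_, Units.mk0 _ (ht0 o₁), Units.ext ?_⟩
  · have := hpair o₁ o₂ h12 c
    rw [hconst o₂] at this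
    exact mul_left_cancel₀ (ht0 o₁) this
  · rw [hdiag]
    ext i j
    by_cases hij : i = j <;> simp [hij, hconst j]

/-- The semilinear automorphisms. -/
def IsSemilinear (y : MulAut (Matrix.ProjectiveSpecialLinearGroup (Fin n) F)) : Prop :=
  ∃ g σ, y = toPSLAut (conjSL g * fieldSL σ)

theorem IsSemilinear.mul {y y' : MulAut (Matrix.ProjectiveSpecialLinearGroup (Fin n) F)}
    (h : IsSemilinear y) (h' : IsSemilinear y') : IsSemilinear (y * y') := by
  obtain ⟨g, σ, rfl⟩ := h
  obtain ⟨g', σ', rfl⟩ := h'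
  refine ⟨g * mapGL σ g', σ * σ', ?_⟩
  rw [← map_mul toPSLAut]
  congr 1
  rw [map_mul conjSL, map_mul fieldSL, mul_assoc, ← mul_assoc (fieldSL σ), fieldSL_mul_conjSL]
  simp only [mul_assoc]

/-- An automorphism of odd order is semilinear. -/
theorem isSemilinear_of_odd (hn : 2 ≤ n) (y : MulAut (Matrix.ProjectiveSpecialLinearGroup (Fin n) F))
    (hy : Odd (orderOf y)) : IsSemilinear y := by
  have h2 : IsSemilinear (y * y) := by
    rcases form_cases hn y with h | ⟨-, g, σ, rfl⟩
    · exact IsSemilinear.mul h h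
    · refine ⟨g * mapGL σ (invTransGL g), σ ^ 2, ?_⟩
      rw [← map_mul toPSLAut, mul_assoc (conjSL g) (fieldSL σ), ← pow_two, conjSL_graphField_sq]
  obtain ⟨k, hk⟩ := hy
  have hy1 : y = (y * y) ^ (k + 1) := by
    rw [← pow_two, ← pow_mul, show 2 * (k + 1) = orderOf y + 1 by omega, pow_succ, pow_orderOf_eq_one, one_mul]
  rw [hy1]
  clear hy1 hk
  induction k with
  | zero => rwa [pow_one]
  | succ k ih => rw [pow_succ]; exact ih.mul h2

/-- The graph automorphism attached to `g`. -/
noncomputable def graphAut (g : GL (Fin n) F) : MulAut (Matrix.ProjectiveSpecialLinearGroup (Fin n) F) :=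
  toPSLAut (conjSL g * invTransSL)

/-- The form attached to `g`. -/
noncomputable def graphForm (g : GL (Fin n) F) : LinearMap.BilinForm F (Fin n → F) :=
  Matrix.toBilin' (g⁻¹ : GL (Fin n) F).1

theorem graphForm_nondeg (g : GL (Fin n) F) : ∀ x, (∀ y, graphForm g x y = 0) → x = 0 :=
  (Matrix.Nondegenerate.toBilin' (Matrix.nondegenerate_of_det_ne_zero (g⁻¹).det.ne_zero)).1

theorem graph_form_cases (hn : 3 ≤ n) {g : GL (Fin n) F} (h2 : (2 : F) ≠ 0) (hg : graphAut g ^ 2 = 1) :
    (∀ x y, graphForm g x y = graphForm g y x) ∨ (graphForm g).IsAlt := by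
  obtain ⟨p, hp⟩ := CharP.exists F
  have : Fact p.Prime := ⟨CharP.char_is_prime F p⟩
  have : Nontrivial (Fin n) := Fin.nontrivial_iff_two_le.2 (by omega)
  rw [graphAut, ← map_pow, ← map_one (toPSLAut (ι := Fin n) (F := F)), (toPSLAut_injective p).eq_iff,
    show conjSL g * invTransSL = conjSL g * (fieldSL (1 : F ≃+* F) * invTransSL) by rw [map_one, one_mul],
    conjSL_graphField_sq, mapGL_one_apply, one_pow, map_one, mul_one, conjSL_eq_one_iff] at hg
  obtain ⟨c, hc⟩ := hg
  have hgT : g.1 = (c : F) • g.1ᵀ := by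
    have h1 : g = Matrix.GeneralLinearGroup.scalar (Fin n) c * (invTransGL g)⁻¹ := eq_mul_inv_of_mul_eq hc
    refine (congrArg Units.val h1).trans ?_
    rw [Units.val_mul]
    ext i j
    simp [invTransGL, Matrix.diagonal_mul]
  have hcc : (c : F) * c = 1 := by
    have h1 : g.1 = ((c : F) * c) • g.1 := by
      conv_lhs => rw [hgT, hgT, Matrix.transpose_smul, Matrix.transpose_transpose, smul_smul]
    have hne : g.1 ≠ 0 := fun h0 => g.det.ne_zero (by
      rw [Matrix.GeneralLinearGroup.val_det_apply, h0]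
      exact Matrix.det_zero)
    by_contra hne1
    have h3 : ((c : F) * c - 1) • g.1 = 0 := by rw [sub_smul, one_smul, ← h1, sub_self]
    exact hne ((smul_eq_zero.1 h3).resolve_left (sub_ne_zero.2 hne1))
  have hG : (g⁻¹ : GL (Fin n) F).1ᵀ = (c : F) • (g⁻¹ : GL (Fin n) F).1 := by
    rw [Matrix.coe_units_inv, Matrix.transpose_nonsing_inv]
    apply Matrix.inv_eq_left_inv
    have hu : IsUnit g.1.det := g.det.isUnit.map (MonoidHom.id F)
    rw [show g.1ᵀ = (c : F) • g.1 by conv_rhs => rw [hgT, smul_smul, hcc, one_smul],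
      Matrix.smul_mul, Matrix.mul_smul, smul_smul, hcc, one_smul, Matrix.nonsing_inv_mul _ hu]
  have hB : ∀ x y, graphForm g y x = (c : F) * graphForm g x y := by
    intro x y
    rw [graphForm, Matrix.toBilin'_apply', Matrix.toBilin'_apply', ← smul_eq_mul, ← dotProduct_smul,
      ← Matrix.smul_mulVec, ← hG, Matrix.mulVec_transpose, dotProduct_comm x,
      ← Matrix.dotProduct_mulVec]
  rcases mul_self_eq_one_iff.1 hcc with h | h
  · exact Or.inl fun x y => by rw [hB y x, h, one_mul]
  · refine Or.inr fun x => ?_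
    have h1 := hB x x
    rw [h] at h1
    have h3 : (2 : F) * graphForm g x x = 0 := by linear_combination h1
    exact (mul_eq_zero.1 h3).resolve_left h2

/-- An isometry commutes with the graph automorphism. -/
theorem g_invTrans (g : GL (Fin n) F) (a : CfsgLib.Forms.isoGroup (graphForm g)) :
    g * invTransGL (eqvGL a.1) = eqvGL a.1 * g := by
  set X := eqvGL a.1 with hX
  have h1 : X.1ᵀ * (g⁻¹ : GL (Fin n) F).1 * X.1 = (g⁻¹ : GL (Fin n) F).1 := by
    apply Matrix.toBilin'.injective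
    refine LinearMap.ext fun u => LinearMap.ext fun v => ?_
    rw [Matrix.toBilin'_apply', ← Matrix.mulVec_mulVec, ← Matrix.mulVec_mulVec, Matrix.dotProduct_mulVec,
      Matrix.vecMul_transpose, hX, eqvGL_mulVec, eqvGL_mulVec, ← Matrix.toBilin'_apply']
    exact a.2 u v
  apply Units.ext
  rw [Units.val_mul, Units.val_mul]
  have h3 : (invTransGL X).1 * (X.1ᵀ * (g⁻¹ : GL (Fin n) F).1 * X.1) = (invTransGL X).1 * (g⁻¹ : GL (Fin n) F).1 :=
    congrArg _ h1
  rw [← Matrix.mul_assoc, ← Matrix.mul_assoc, show (invTransGL X).1 * X.1ᵀ = 1 from (invTransGL X).mul_inv,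
    Matrix.one_mul] at h3
  calc g.1 * (invTransGL X).1 = g.1 * ((invTransGL X).1 * (g⁻¹ : GL (Fin n) F).1) * g.1 := by
        rw [Matrix.mul_assoc g.1, Matrix.mul_assoc, g.inv_mul, Matrix.mul_one]
    _ = _ := by rw [← h3, ← Matrix.mul_assoc, g.mul_inv, Matrix.one_mul]

/-- The action of the isometries. -/
noncomputable def graphHom (g : GL (Fin n) F) :
    CfsgLib.Forms.isoGroup (graphForm g) →* MulAut (Matrix.ProjectiveSpecialLinearGroup (Fin n) F) :=
  innDiagHom.comp (eqvGL.comp (CfsgLib.Forms.isoGroup (graphForm g)).subtype)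

theorem graphHom_apply (g : GL (Fin n) F) (a : CfsgLib.Forms.isoGroup (graphForm g)) :
    graphHom g a = toPSLAut (conjSL (eqvGL a.1)) := rfl

theorem commute_graphAut (g : GL (Fin n) F) (a : CfsgLib.Forms.isoGroup (graphForm g)) :
    Commute (graphHom g a) (graphAut g) := by
  rw [Commute, SemiconjBy, graphAut, graphHom_apply, ← map_mul toPSLAut, ← map_mul toPSLAut,
    mul_assoc (conjSL g), invTransSL_mul_conjSL, ← mul_assoc, ← mul_assoc, ← map_mul, ← map_mul, g_invTrans]

variable (g : GL (Fin n) F)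

set_option maxHeartbeats 1000000 in
/-- No normal subgroup of odd order in the fixed points of a graph involution. -/
theorem graph_fixed_odd_eq_bot (hn : 3 ≤ n) (h2 : (2 : F) ≠ 0)
    (hform : (∀ x y, graphForm g x y = graphForm g y x) ∨ (graphForm g).IsAlt)
    (hns : ¬ Group.IsSolvable (Matrix.ProjectiveSpecialLinearGroup (Fin n) F))
    [IsSimpleGroup (Matrix.ProjectiveSpecialLinearGroup (Fin n) F)] :
    ∀ N : Subgroup (Matrix.ProjectiveSpecialLinearGroup (Fin n) F),
      N ≤ MonoidHom.eqLocus (graphAut g).toMonoidHom (MonoidHom.id _) →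
      (∀ x ∈ MonoidHom.eqLocus (graphAut g).toMonoidHom (MonoidHom.id _), ∀ y ∈ N, x * y * x⁻¹ ∈ N) →
      (Nat.card N).Coprime 2 → N = ⊥ := by
  classical
  have : Fact (Nat.Prime 2) := ⟨Nat.prime_two⟩
  have : Nonempty (Fin n) := ⟨⟨0, by omega⟩⟩
  have : Nontrivial (Fin n) := Fin.nontrivial_iff_two_le.2 (by omega)
  obtain ⟨r, hr⟩ := CharP.exists F
  have : Fact r.Prime := ⟨CharP.char_is_prime F r⟩
  set E := MonoidHom.eqLocus (graphAut g).toMonoidHom (MonoidHom.id (Matrix.ProjectiveSpecialLinearGroup (Fin n) F))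
  intro N hN hNn hNc
  set O := (Cfsg.pPrimeCore 2 ↥E).map E.subtype with hO
  have hNO : N ≤ O := by
    have hn' : (N.subgroupOf E).Normal := ⟨fun a ha b => hNn b.1 b.2 a.1 ha⟩
    have hc' : (Nat.card (N.subgroupOf E)).Coprime 2 := by
      rwa [Nat.card_congr (Subgroup.subgroupOfEquivOfLe hN).toEquiv]
    intro x hx
    exact ⟨⟨x, hN hx⟩, CfsgLib.LocalEven50.le_pPrimeCore hn' hc' hx, rfl⟩
  suffices hOb : O = ⊥ from le_bot_iff.1 (hOb ▸ hNO)
  have hinv : ∀ y : MulAut (Matrix.ProjectiveSpecialLinearGroup (Fin n) F), Commute y (graphAut g) →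
      ∀ k ∈ O, y k ∈ O := by
    rintro y hy _ ⟨k, hk, rfl⟩
    have hy' : Commute y⁻¹ (graphAut g) := hy.inv_left
    let f : ↥E ≃* ↥E :=
      { toFun := fun x => ⟨y x.1, fixed_of_commute hy x.2⟩
        invFun := fun x => ⟨(y⁻¹) x.1, fixed_of_commute hy' x.2⟩
        left_inv := fun x => Subtype.ext (by simp [MulAut.inv_def])
        right_inv := fun x => Subtype.ext (by simp [MulAut.inv_def])
        map_mul' := fun a b => Subtype.ext (map_mul y a.1 b.1) }
    have h1 : (Cfsg.pPrimeCore 2 ↥E).map f.toMonoidHom ≤ Cfsg.pPrimeCore 2 ↥E :=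
      CfsgLib.LocalEven50.le_pPrimeCore
        ((CfsgLib.LocalEven50.pPrimeCore_normal 2).map _ f.surjective)
        (by rw [Subgroup.card_map_of_injective f.injective]; exact CfsgLib.LocalEven50.pPrimeCore_coprime 2)
    exact ⟨f k, h1 (Subgroup.mem_map_of_mem _ hk), rfl⟩
  obtain ⟨π, hπdef⟩ : ∃ π, π = graphHom g := ⟨_, rfl⟩
  have hinj := conj_injective_of_not_solvable hns
  set P₀ : Subgroup (CfsgLib.Forms.isoGroup (graphForm g)) := (O.map MulAut.conj).comap π
  set P := P₀.map (CfsgLib.Forms.isoGroup (graphForm g)).subtype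
  have hiso : ∀ x ∈ P, ∀ u v, graphForm g (x u) (x v) = graphForm g u v := by
    rintro _ ⟨a, -, rfl⟩; exact a.2
  have hnorm : ∀ b : (Fin n → F) ≃ₗ[F] (Fin n → F), (∀ u v, graphForm g (b u) (b v) = graphForm g u v) →
      ∀ x ∈ P, b * x * b⁻¹ ∈ P := by
    rintro b hb _ ⟨a, ha, rfl⟩
    obtain ⟨k, hk, hka⟩ := ha
    refine ⟨⟨b, hb⟩ * a * ⟨b, hb⟩⁻¹, ⟨π ⟨b, hb⟩ k, hinv _ (hπdef ▸ commute_graphAut g ⟨b, hb⟩) k hk, ?_⟩, rfl⟩
    rw [map_mul, map_mul, map_inv, ← hka]
    ext1 z
    simp [MulAut.mul_apply, MulAut.inv_def]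
  have hsc : ∀ a : CfsgLib.Forms.isoGroup (graphForm g), π a = 1 → (∀ x, a.1 x = x) ∨ ∀ x, a.1 x = -x := by
    intro a ha
    rw [hπdef, graphHom_apply] at ha
    obtain ⟨u, hu⟩ := conjSL_eq_one_iff.1 ((map_eq_one_iff _ (toPSLAut_injective r)).1 ha)
    have hax : ∀ x, a.1 x = (u : F) • x := fun x => by
      rw [← eqvGL_mulVec, show eqvGL a.1 = _ from hu]
      funext i
      simp [Matrix.mulVec_diagonal]
    obtain ⟨x, y, hxy⟩ : ∃ x y, graphForm g x y ≠ 0 := by
      by_contra h0
      push Not at h0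
      obtain ⟨o⟩ := (inferInstance : Nonempty (Fin n))
      simpa using congrFun (graphForm_nondeg g (Pi.single o 1) (h0 _)) o
    have h1 := a.2 x y
    simp only [hax, map_smul, LinearMap.smul_apply, smul_eq_mul, ← mul_assoc] at h1
    have h3 : (u : F) * u = 1 := mul_right_cancel₀ hxy (h1.trans (one_mul _).symm)
    rcases mul_self_eq_one_iff.1 h3 with h | h
    · exact Or.inl fun x => by rw [hax, h, one_smul]
    · exact Or.inr fun x => by rw [hax, h, neg_one_smul]
  have hodd : ∀ x ∈ P, ∃ m : ℕ, Odd m ∧ ((∀ u, (x ^ m) u = u) ∨ ∀ u, (x ^ m) u = -u) := by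
    rintro _ ⟨a, ⟨k, hk, hka⟩, rfl⟩
    refine ⟨Nat.card O, Nat.coprime_two_right.1 ?_, ?_⟩
    · rw [hO, Subgroup.card_map_of_injective E.subtype_injective]
      exact CfsgLib.LocalEven50.pPrimeCore_coprime 2
    have hk1 : k ^ Nat.card O = 1 := congrArg Subtype.val (pow_card_eq_one' (x := (⟨k, hk⟩ : O)))
    exact hsc (a ^ Nat.card O) (by rw [map_pow, ← hka, ← map_pow, hk1, map_one])
  have htriv : ∀ x ∈ P, (∀ u, x u = u) ∨ ∀ u, x u = -u := by
    intro x hx
    rcases hform with hs | hA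
    · exact orth_odd_normal_trivial hs h2 (graphForm_nondeg g) (by simpa using hn) hnorm hodd hiso hx
    · obtain ⟨j, b, -, -, -⟩ := CfsgLib.Forms.exists_symplectic_basis_nondeg (graphForm g) hA
        ⟨graphForm_nondeg g, fun u hu => graphForm_nondeg g u fun v => CfsgLib.Forms.alt_symm hA _ _ (hu v)⟩
      have hj := Module.finrank_eq_card_basis b
      simp at hj
      exact symp_odd_normal_trivial hA h2 (graphForm_nondeg g) (j := j) (by omega) (by simp; omega)
        hnorm hodd hiso hx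
  rw [eq_bot_iff]
  intro k hk
  obtain ⟨s, rfl⟩ := QuotientGroup.mk_surjective k
  have hke : graphAut g (QuotientGroup.mk s) = QuotientGroup.mk s := by
    obtain ⟨e, -, he⟩ := hk; rw [← he]; exact e.2
  have hke' : (conjSL g (invTransSL s))⁻¹ * s ∈ Subgroup.center (Matrix.SpecialLinearGroup (Fin n) F) :=
    QuotientGroup.eq.1 hke
  obtain ⟨c, hcn, hc⟩ := Matrix.SpecialLinearGroup.mem_center_iff.1 hke'
  have hc0 : c ≠ 0 := fun h0 => by simp [h0, zero_pow (by omega : n ≠ 0)] at hcn
  have hsg : s.1 * g.1 * s.1ᵀ = c • g.1 := by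
    have h1 : s = conjSL g (invTransSL s) * ((conjSL g (invTransSL s))⁻¹ * s) := by group
    have h3 := congrArg Subtype.val h1
    rw [Matrix.SpecialLinearGroup.coe_mul, ← hc, conjSL_coe, invTransSL_coe] at h3
    have hd : ∀ A : Matrix (Fin n) (Fin n) F, A * Matrix.scalar (Fin n) c = c • A := fun A => by
      ext i j; simp [Matrix.mul_diagonal, mul_comm]
    rw [hd] at h3
    have h4 : (s⁻¹).1ᵀ * s.1ᵀ = 1 := by
      rw [← Matrix.transpose_mul, ← Matrix.SpecialLinearGroup.coe_mul, mul_inv_cancel,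
        Matrix.SpecialLinearGroup.coe_one, Matrix.transpose_one]
    conv_lhs => arg 1; arg 1; rw [h3]
    rw [Matrix.smul_mul, Matrix.smul_mul, Matrix.mul_assoc _ _ g.1, g.inv_mul, Matrix.mul_one, Matrix.mul_assoc,
      h4, Matrix.mul_one]
  set X : GL (Fin n) F := Matrix.GeneralLinearGroup.scalar (Fin n) (Units.mk0 c⁻¹ (inv_ne_zero hc0)) *
    Matrix.SpecialLinearGroup.toGL (s * s) with hX
  have hXv : X.1 = c⁻¹ • (s.1 * s.1) := by
    rw [hX, Units.val_mul]
    show Matrix.diagonal (fun _ => c⁻¹) * (s.1 * s.1) = _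
    rw [← Matrix.smul_eq_diagonal_mul]
  have hXg : X.1 * g.1 * X.1ᵀ = g.1 := by
    rw [hXv, Matrix.transpose_smul, Matrix.smul_mul, Matrix.smul_mul, Matrix.mul_smul, smul_smul,
      Matrix.transpose_mul, show s.1 * s.1 * g.1 * (s.1ᵀ * s.1ᵀ) = s.1 * (s.1 * g.1 * s.1ᵀ) * s.1ᵀ by
        simp only [Matrix.mul_assoc],
      hsg, Matrix.mul_smul, Matrix.smul_mul, hsg, smul_smul, smul_smul,
      show c⁻¹ * c⁻¹ * c * c = 1 by field_simp, one_smul]
  have hXiso : X.1ᵀ * (g⁻¹ : GL (Fin n) F).1 * X.1 = (g⁻¹ : GL (Fin n) F).1 := by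
    have hu : IsUnit g.1.det := g.det.isUnit.map (MonoidHom.id F)
    have h1 : (g⁻¹ : GL (Fin n) F).1 * X.1 * (g.1 * X.1ᵀ) = 1 := by
      rw [Matrix.mul_assoc, ← Matrix.mul_assoc X.1, hXg, g.inv_mul]
    have h3 := mul_eq_one_comm.1 h1
    have h4 := congrArg ((g⁻¹ : GL (Fin n) F).1 * ·) h3
    simp only [← Matrix.mul_assoc, g.inv_mul, Matrix.one_mul, Matrix.mul_one] at h4
    exact h4
  let a₀ : (Fin n → F) ≃ₗ[F] (Fin n → F) := LinearMap.GeneralLinearGroup.generalLinearEquiv F _
    (Matrix.GeneralLinearGroup.toLin X)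
  have ha₀ : eqvGL a₀ = X := by
    apply Units.ext
    show LinearMap.toMatrix' a₀.toLinearMap = X.1
    rw [show a₀.toLinearMap = Matrix.toLin' X.1 from rfl, LinearMap.toMatrix'_toLin']
  have hiso₀ : a₀ ∈ CfsgLib.Forms.isoGroup (graphForm g) := by
    intro u v
    rw [← eqvGL_mulVec, ← eqvGL_mulVec, ha₀, graphForm, Matrix.toBilin'_apply', Matrix.toBilin'_apply',
      Matrix.mulVec_mulVec, ← Matrix.vecMul_transpose, ← Matrix.dotProduct_mulVec, Matrix.mulVec_mulVec,
      ← Matrix.mul_assoc, hXiso]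
  set a : CfsgLib.Forms.isoGroup (graphForm g) := ⟨a₀, hiso₀⟩
  have hπ : π a = MulAut.conj ((QuotientGroup.mk s : Matrix.ProjectiveSpecialLinearGroup (Fin n) F) ^ 2) := by
    rw [hπdef, graphHom_apply]
    rw [ha₀, hX, map_mul conjSL, conjSL_scalar, one_mul, conjSL_toGL, toPSLAut_conj, QuotientGroup.mk_mul, pow_two]
  have hπ1 : π a = 1 := by
    have hneg : conjSL (eqvGL a₀) = 1 := by
      rcases htriv _ ⟨a, ⟨_, O.pow_mem hk 2, hπ.symm⟩, rfl⟩ with h | h
      · rw [show a₀ = 1 from LinearEquiv.ext h, map_one, map_one]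
      · refine conjSL_eq_one_iff.2 ⟨-1, Units.ext ?_⟩
        ext i j
        show a₀ (Pi.single j 1) i = _
        rw [show a₀ (Pi.single j 1) = -Pi.single j 1 from h _]
        by_cases hij : i = j <;> simp [hij]
    rw [hπdef, graphHom_apply, hneg, map_one]
  have hk2 : (QuotientGroup.mk s : Matrix.ProjectiveSpecialLinearGroup (Fin n) F) ^ 2 = 1 :=
    hinj (by rw [← hπ, hπ1, map_one])
  refine Subgroup.mem_bot.2 (eq_one_of_pow_mem_coprime (p := 2) (k := 1) (W := O) ?_ hk (by rwa [pow_one]))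
  rw [hO, Subgroup.card_map_of_injective E.subtype_injective]
  exact CfsgLib.LocalEven50.pPrimeCore_coprime 2

set_option maxHeartbeats 1000000 in
/-- The centraliser of the fixed points of a graph involution is a `2`-group. -/
theorem graph_centralizer_pow (hn : 3 ≤ n) (h2 : (2 : F) ≠ 0)
    (hform : (∀ x y, graphForm g x y = graphForm g y x) ∨ (graphForm g).IsAlt) :
    ∀ y : MulAut (Matrix.ProjectiveSpecialLinearGroup (Fin n) F),
      (∀ x ∈ MonoidHom.eqLocus (graphAut g).toMonoidHom (MonoidHom.id _), y x = x) →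
      ∃ k : ℕ, y ^ 2 ^ k = 1 := by
  classical
  have : Fact (Nat.Prime 2) := ⟨Nat.prime_two⟩
  have : Nonempty (Fin n) := ⟨⟨0, by omega⟩⟩
  have : Nontrivial (Fin n) := Fin.nontrivial_iff_two_le.2 (by omega)
  obtain ⟨r, hr⟩ := CharP.exists F
  have : Fact r.Prime := ⟨CharP.char_is_prime F r⟩
  have : Finite (MulAut (Matrix.ProjectiveSpecialLinearGroup (Fin n) F)) := by
    have : Finite (Matrix.ProjectiveSpecialLinearGroup (Fin n) F) := Quotient.finite _
    exact Finite.of_injective (fun a : MulAut (Matrix.ProjectiveSpecialLinearGroup (Fin n) F) =>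
      (a : Matrix.ProjectiveSpecialLinearGroup (Fin n) F → _)) DFunLike.coe_injective
  set E := MonoidHom.eqLocus (graphAut g).toMonoidHom (MonoidHom.id (Matrix.ProjectiveSpecialLinearGroup (Fin n) F))
  intro y hy
  let S : Subgroup (MulAut (Matrix.ProjectiveSpecialLinearGroup (Fin n) F)) :=
    { carrier := {y | ∀ x ∈ E, y x = x}
      one_mem' := fun x _ => rfl
      mul_mem' := fun {a b} ha hb x hx => by rw [MulAut.mul_apply, hb x hx, ha x hx]
      inv_mem' := fun {a} ha x hx => by rw [MulAut.inv_def, MulEquiv.symm_apply_eq, ha x hx] }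
  refine pow_eq_one_of_coprime S (fun y hy hyodd => ?_) (g := y) hy
  obtain ⟨h, τ, rfl⟩ := isSemilinear_of_odd (by omega) y (Nat.coprime_two_right.1 hyodd)
  set ψ := conjSL h * fieldSL τ with hψ
  set m := orderOf (toPSLAut ψ) with hm
  have hmodd : Odd m := Nat.coprime_two_right.1 hyodd
  have hψm : ψ ^ m = 1 := toPSLAut_injective r (by rw [map_pow, map_one]; exact pow_orderOf_eq_one _)
  set f : (Fin n → F) → (Fin n → F) := fun x => h.1 *ᵥ (τ ∘ x) with hf
  have fadd : ∀ x x', f (x + x') = f x + f x' := fun x x' => by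
    simp only [hf]
    rw [show τ ∘ (x + x') = τ ∘ x + τ ∘ x' from funext fun i => map_add τ _ _, Matrix.mulVec_add]
  have f0 : ∀ x, f x = 0 → x = 0 := by
    intro x hx
    have h3 := congrArg ((h⁻¹ : GL (Fin n) F).1 *ᵥ ·) hx
    simp only [hf, Matrix.mulVec_mulVec, h.inv_mul, Matrix.one_mulVec, Matrix.mulVec_zero] at h3
    exact funext fun i => τ.injective ((congrFun h3 i).trans (map_zero τ).symm)
  let lift : ∀ a : CfsgLib.Forms.isoGroup (graphForm g), (LinearMap.toMatrix' a.1.toLinearMap).det = 1 →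
      Matrix.SpecialLinearGroup (Fin n) F := fun a ha => ⟨LinearMap.toMatrix' a.1.toLinearMap, ha⟩
  have hgl : ∀ a ha, Matrix.SpecialLinearGroup.toGL (lift a ha) = eqvGL a.1 := fun a ha => Units.ext rfl
  have hEa : ∀ a ha, (QuotientGroup.mk (lift a ha) : Matrix.ProjectiveSpecialLinearGroup (Fin n) F) ∈ E := by
    intro a ha
    show QuotientGroup.mk (conjSL g (invTransSL (lift a ha))) = QuotientGroup.mk (lift a ha)
    congr 1
    apply Subtype.ext
    rw [conjSL_coe, invTransSL_coe]
    have h1 := congrArg Units.val (g_invTrans g a)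
    rw [Units.val_mul, Units.val_mul, ← hgl a ha] at h1
    show g.1 * (lift a ha)⁻¹.1ᵀ * _ = (lift a ha).1
    rw [show g.1 * (lift a ha)⁻¹.1ᵀ = (lift a ha).1 * g.1 from h1, Matrix.mul_assoc, g.mul_inv, Matrix.mul_one]
  have hrel : ∀ a ha, ∃ r : F, r ≠ 0 ∧ (ψ (lift a ha)).1 = r • (lift a ha).1 ∧
      ∀ x, r • ((lift a ha).1 *ᵥ f x) = f (a.1 x) := by
    intro a ha
    have e : (ψ (lift a ha))⁻¹ * lift a ha ∈ Subgroup.center (Matrix.SpecialLinearGroup (Fin n) F) :=
      QuotientGroup.eq.1 (hy _ (hEa a ha))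
    obtain ⟨c, hcn, hc⟩ := Matrix.SpecialLinearGroup.mem_center_iff.1 e
    have hc0 : c ≠ 0 := fun h0 => by simp [h0, zero_pow (by omega : n ≠ 0)] at hcn
    have h1 : lift a ha = ψ (lift a ha) * ((ψ (lift a ha))⁻¹ * lift a ha) := by group
    have h3 := congrArg Subtype.val h1
    rw [Matrix.SpecialLinearGroup.coe_mul, ← hc,
      show ∀ A : Matrix (Fin n) (Fin n) F, A * Matrix.scalar (Fin n) c = c • A from fun A => by
        ext i j; simp [Matrix.mul_diagonal, mul_comm]] at h3
    have h4 : (ψ (lift a ha)).1 = c⁻¹ • (lift a ha).1 := by rw [h3, smul_smul, inv_mul_cancel₀ hc0, one_smul]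
    refine ⟨c⁻¹, inv_ne_zero hc0, h4, fun x => ?_⟩
    rw [hψ, MulAut.mul_apply, conjSL_coe] at h4
    have h5 := congrArg (fun M : Matrix (Fin n) (Fin n) F => M *ᵥ (h.1 *ᵥ (τ ∘ x))) h4
    simp only [← Matrix.mulVec_mulVec, Matrix.smul_mulVec] at h5
    rw [Matrix.mulVec_mulVec (τ ∘ x) (h⁻¹ : GL (Fin n) F).1 h.1, h.inv_mul, Matrix.one_mulVec,
      show (fieldSL τ (lift a ha)).1 *ᵥ (τ ∘ x) = τ ∘ ((lift a ha).1 *ᵥ x) from
        funext fun i => (RingHom.map_mulVec τ.toRingHom _ x i).symm,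
      show (lift a ha).1 *ᵥ x = a.1 x from eqvGL_mulVec a.1 x] at h5
    exact h5.symm
  have hlines : ∀ x : Fin n → F, x ≠ 0 → ∃ t : F, f x = t • x := by
    intro x hx
    rcases hform with hs | hA
    · refine exists_smul_of_planes hs h2 (graphForm_nondeg g) (by simpa using hn) hx
        fun u v hu hv huv hxp => ?_
      let a : CfsgLib.Forms.isoGroup (graphForm g) :=
        ⟨ClassicalCore.refl hu, ClassicalCore.refl_iso hs hu⟩ * ⟨ClassicalCore.refl hv, ClassicalCore.refl_iso hs hv⟩
      have hdet : (LinearMap.toMatrix' a.1.toLinearMap).det = 1 := by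
        show (LinearMap.toMatrix' ((ClassicalCore.refl hu).toLinearMap.comp (ClassicalCore.refl hv).toLinearMap)).det = 1
        rw [LinearMap.toMatrix'_comp, Matrix.det_mul, det_refl, det_refl]; norm_num
      obtain ⟨c, hc0, hcmat, hc⟩ := hrel a hdet
      have ha2 : a * a = 1 := by
        have hc' : (ClassicalCore.refl hu * ClassicalCore.refl hv : (Fin n → F) ≃ₗ[F] (Fin n → F)) =
            ClassicalCore.refl hv * ClassicalCore.refl hu := LinearEquiv.ext fun z => by
          rw [refl_mul_refl_apply hu hv huv, refl_mul_refl_apply hv hu (by rw [hs, huv])]; abel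
        apply Subtype.ext
        show ClassicalCore.refl hu * ClassicalCore.refl hv * (ClassicalCore.refl hu * ClassicalCore.refl hv) = 1
        have e : ∀ {w : Fin n → F} (hw : graphForm g w w ≠ 0), ClassicalCore.refl hw * ClassicalCore.refl hw = 1 :=
          fun hw => by nth_rewrite 1 [← refl_inv hw]; exact inv_mul_cancel _
        conv_lhs => arg 2; rw [hc']
        rw [mul_assoc, ← mul_assoc (ClassicalCore.refl hv), e, one_mul, e]
      have hs2 : lift a hdet * lift a hdet = 1 := by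
        apply Matrix.SpecialLinearGroup.toGL_injective
        rw [map_mul, map_one, hgl, ← map_mul eqvGL, ← Subgroup.coe_mul, ha2, OneMemClass.coe_one, map_one]
      have hc2 : c * c = 1 := by
        have h1 := congrArg Subtype.val (congrArg ψ hs2)
        rw [map_mul, map_one, Matrix.SpecialLinearGroup.coe_mul, hcmat, Matrix.smul_mul, Matrix.mul_smul,
          smul_smul, ← Matrix.SpecialLinearGroup.coe_mul, hs2, Matrix.SpecialLinearGroup.coe_one] at h1
        have h3 := congrFun (congrFun h1 ⟨0, by omega⟩) ⟨0, by omega⟩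
        simpa using h3
      have hc1 : c = 1 := by
        have hpow : ∀ k : ℕ, ((ψ ^ k) (lift a hdet)).1 = c ^ k • (lift a hdet).1 := by
          intro k
          induction k with
          | zero => simp
          | succ k ih =>
            have hτc : τ c = c := by
              rcases mul_self_eq_one_iff.1 hc2 with h | h <;> simp [h]
            rw [pow_succ', MulAut.mul_apply, hψ, MulAut.mul_apply, conjSL_coe,
              show (fieldSL τ ((ψ ^ k) (lift a hdet))).1 = ((ψ ^ k) (lift a hdet)).1.map τ from rfl, ih,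
              show (c ^ k • (lift a hdet).1).map τ = c ^ k • (lift a hdet).1.map τ by
                ext i j; simp [map_pow, hτc],
              Matrix.mul_smul, Matrix.smul_mul,
              show h.1 * (lift a hdet).1.map τ * (h⁻¹ : GL (Fin n) F).1 = c • (lift a hdet).1 by
                rw [← hcmat]; rfl,
              smul_smul, pow_succ]
        have h1 := hpow m
        rw [hψm, MulAut.one_apply] at h1
        obtain ⟨k, hk⟩ := hmodd
        rw [show c ^ m = c by rw [hk, pow_succ, pow_mul, pow_two, hc2, one_pow, one_mul]] at h1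
        by_contra hne
        have h3 : (lift a hdet).1 = 0 := by
          have h4 : (1 - c) • (lift a hdet).1 = 0 := by rw [sub_smul, one_smul, ← h1, sub_self]
          exact (smul_eq_zero.1 h4).resolve_left (sub_ne_zero.2 (Ne.symm hne))
        have h5 := (lift a hdet).2
        rw [h3, Matrix.det_zero] at h5
        exact zero_ne_one h5
      have hax : a.1 x = -x := (neg_iff_mem_plane hs h2 hu hv huv x).2 hxp
      have h1 := hc x
      have hneg : f (-x) = -f x := by
        have h0 : f 0 = 0 := by simpa using fadd 0 0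
        have := fadd x (-x)
        rw [add_neg_cancel, h0] at this
        exact eq_neg_of_add_eq_zero_right this.symm
      rw [hc1, one_smul, hax, hneg, show (lift a hdet).1 *ᵥ f x = a.1 (f x) from eqvGL_mulVec a.1 _] at h1
      exact (neg_iff_mem_plane hs h2 hu hv huv (f x)).1 h1
    · let a : CfsgLib.Forms.isoGroup (graphForm g) := ⟨transv hA x, transv_iso hA x⟩
      obtain ⟨c, hc0, -, hc⟩ := hrel a (det_transv hA x)
      have hax : a.1 x = x := by
        show transv hA x x = x
        rw [transv_apply, hA x, zero_smul, add_zero]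
      have hap : ∀ z, (lift a (det_transv hA x)).1 *ᵥ z = transv hA x z := fun z => eqvGL_mulVec a.1 z
      have h1 := hc x
      rw [hax, hap] at h1
      have hfx : f x ≠ 0 := fun h0 => hx (f0 x h0)
      have hA1 : transv hA x (f x) = c⁻¹ • f x := by
        conv_rhs => rw [← h1, smul_smul, inv_mul_cancel₀ hc0, one_smul]
      have hsq : transv hA x (transv hA x (f x)) = transv hA x (f x) + transv hA x (f x) - f x := by
        simp only [transv_apply, map_add, map_smul, hA x]
        module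
      rw [hA1, map_smul, hA1, smul_smul] at hsq
      have h3 : (c⁻¹ - 1) ^ 2 • f x = 0 := by
        rw [show (c⁻¹ - 1) ^ 2 = c⁻¹ * c⁻¹ - (c⁻¹ + c⁻¹) + 1 by ring, add_smul, sub_smul, one_smul, add_smul, hsq]
        abel
      have hc1 : c = 1 := inv_eq_one.1 (sub_eq_zero.1
        (pow_eq_zero_iff two_ne_zero |>.1 ((smul_eq_zero.1 h3).resolve_right hfx)))
      obtain ⟨v₀, hv₀⟩ : ∃ v, graphForm g v x ≠ 0 := by
        by_contra h0
        push Not at h0
        exact hx (graphForm_nondeg g x fun v => CfsgLib.Forms.alt_symm hA _ _ (h0 v))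
      set v := (graphForm g v₀ x)⁻¹ • v₀ with hv
      have hav : a.1 v = v + x := by
        show transv hA x v = v + x
        rw [transv_apply, hv, map_smul, LinearMap.smul_apply, smul_eq_mul, inv_mul_cancel₀ hv₀, one_smul]
      have h4 := hc v
      rw [hc1, one_smul, hav, fadd, hap, transv_apply, add_right_inj] at h4
      exact ⟨_, h4.symm⟩
  obtain ⟨rfl, u, rfl⟩ := scalar_of_all_lines (by omega) hlines
  rw [hψ, conjSL_scalar, map_one fieldSL, one_mul, map_one]

/-- **Local balance at a graph involution.** -/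
theorem graph_core_eq_bot (hn : 3 ≤ n) (h2 : (2 : F) ≠ 0) (g : GL (Fin n) F)
    (hord : orderOf (graphAut g) = 2)
    (hns : ¬ Group.IsSolvable (Matrix.ProjectiveSpecialLinearGroup (Fin n) F))
    [IsSimpleGroup (Matrix.ProjectiveSpecialLinearGroup (Fin n) F)]
    (A : Subgroup (MulAut (Matrix.ProjectiveSpecialLinearGroup (Fin n) F)))
    (hinn : ∀ k, MulAut.conj k ∈ A) :
    Cfsg.pPrimeCore 2 ↥(A ⊓ Subgroup.centralizer {graphAut g}) ≠ ⊥ ↔
      Nat.Coprime 2 (Nat.card ↥(MonoidHom.eqLocus (graphAut g).toMonoidHom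
        (MonoidHom.id (Matrix.ProjectiveSpecialLinearGroup (Fin n) F)))) := by
  have : Fact (Nat.Prime 2) := ⟨Nat.prime_two⟩
  have hform := graph_form_cases hn h2 (hord ▸ pow_orderOf_eq_one (graphAut g))
  exact core_iff_of_fixed hns A hinn hord fun _ =>
    ⟨MonoidHom.eqLocus (graphAut g).toMonoidHom (MonoidHom.id _), fun x hx => hx,
      fun e he x hx => Subgroup.mul_mem _ (Subgroup.mul_mem _ he hx) (Subgroup.inv_mem _ he),
      graph_fixed_odd_eq_bot g hn h2 hform hns, fun y _ => graph_centralizer_pow g hn h2 hform y⟩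

end CfsgLib.AutPSL
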