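import Cfsg.Agent.AutPSL.GraphCentralizer
import Cfsg.Agent.AutPSU.BarCentralizer

/-!
# Local balance at involutory graph-field automorphisms of `PSL_n(q)`, `q` odd

The fixed points of `s ↦ σ(s⁻ᵀ)` form the unitary group.
-/

set_option autoImplicit false
set_option linter.unusedSectionVars false

namespace CfsgLib.AutPSL

open Matrix CfsgLib.RepBounds.Unit
open CfsgLib.AutPSU (barEquiv exists_norm_sq_ne map_mulVec comp_symm herm_map)

variable {F : Type*} [Field F] [Fintype F] {n : ℕ} (C : ConjField F)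

/-- A semilinear map fixing every isotropic line is scalar. -/
theorem scalar_of_isotropic_lines (hn : 3 ≤ n) {g : GL (Fin n) F} {σ : F ≃+* F}
    (key : ∀ w : Fin n → F, herm C w w = 0 → ∃ t : F, g.1 *ᵥ (σ ∘ w) = t • w) :
    σ = 1 ∧ ∃ u : Fˣ, g = Matrix.GeneralLinearGroup.scalar (Fin n) u := by
  classical
  obtain ⟨ζ₀, hζ₀⟩ := C.exists_norm_neg_one
  obtain ⟨c, hc, hc2⟩ := exists_norm_sq_ne C
  set col : Fin n → Fin n → F := fun i => g.1 *ᵥ Pi.single i 1 with hcol
  have hpairvec : ∀ i j, i ≠ j → ∀ z : F, z * C.σ z = -1 →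
      ∃ t : F, col i + σ z • col j = t • (Pi.single i 1 + z • Pi.single j 1 : Fin n → F) := by
    intro i j hij z hz
    obtain ⟨t, ht⟩ := key (Pi.single i 1 + z • Pi.single j 1) (by
      simp only [herm_add_left, herm_add_right, herm_smul_left, herm_smul_right]
      simp [herm, Pi.single_apply, hij, hij.symm]
      linear_combination hz)
    refine ⟨t, ?_⟩
    rw [← ht, show σ ∘ (Pi.single i 1 + z • Pi.single j 1 : Fin n → F) =
      Pi.single i 1 + σ z • Pi.single j 1 by
        funext k; simp [Pi.single_apply, apply_ite σ], Matrix.mulVec_add, Matrix.mulVec_smul]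
  have hζ' : ζ₀ * c * C.σ (ζ₀ * c) = -1 := by rw [map_mul]; linear_combination (c * C.σ c) * hζ₀ + (-1) * hc
  have hζne : σ ζ₀ - σ (ζ₀ * c) ≠ 0 := by
    rw [← map_sub, map_ne_zero_iff σ σ.injective, show ζ₀ - ζ₀ * c = ζ₀ * (1 - c) by ring]
    exact mul_ne_zero (left_ne_zero_of_mul_eq_one (b := -C.σ ζ₀) (by linear_combination -hζ₀))
      (sub_ne_zero.2 fun h => hc2 (by rw [← h, one_mul]))
  have hsupp : ∀ j k, k ≠ j → col j k = 0 := by
    intro j k hkj
    obtain ⟨i, hij, hik⟩ : ∃ i : Fin n, i ≠ j ∧ i ≠ k := by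
      have h2 : ({j, k} : Finset (Fin n)).card < (Finset.univ : Finset (Fin n)).card := by
        rw [Finset.card_univ, Fintype.card_fin]
        exact lt_of_le_of_lt Finset.card_le_two (by omega)
      obtain ⟨i, -, hi⟩ := Finset.exists_mem_notMem_of_card_lt_card h2
      simp only [Finset.mem_insert, Finset.mem_singleton, not_or] at hi
      exact ⟨i, hi.1, hi.2⟩
    obtain ⟨t, ht⟩ := hpairvec i j hij ζ₀ hζ₀
    obtain ⟨t', ht'⟩ := hpairvec i j hij _ hζ'
    have h1 := congrFun ht k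
    have h2 := congrFun ht' k
    simp [hkj, Ne.symm hik] at h1 h2
    have h3 : (σ ζ₀ - σ (ζ₀ * c)) * col j k = 0 := by rw [map_mul σ]; linear_combination h1 - h2
    exact (mul_eq_zero.1 h3).resolve_left hζne
  set t : Fin n → F := fun i => col i i with ht
  have hmul : ∀ (x : Fin n → F) r, (g.1 *ᵥ x) r = t r * x r := by
    intro x r
    rw [Matrix.mulVec, dotProduct, Finset.sum_eq_single r]
    · rw [ht, hcol]; simp
    · intro i _ hi
      have := hsupp i r hi.symm
      rw [hcol] at this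
      simp at this
      rw [this, zero_mul]
    · simp
  have ht0 : ∀ r, t r ≠ 0 := by
    intro r h0
    have h1 : g.1 *ᵥ (Pi.single r 1) = 0 := funext fun k => by
      rw [hmul]
      by_cases hk : k = r
      · rw [hk, h0, zero_mul]; rfl
      · simp [hk]
    have h2 := congrArg ((g⁻¹ : GL (Fin n) F).1 *ᵥ ·) h1
    simp only [Matrix.mulVec_mulVec, g.inv_mul, Matrix.one_mulVec, Matrix.mulVec_zero] at h2
    simpa using congrFun h2 r
  obtain ⟨o₁, o₂, o₃, h12, h13, h23⟩ : ∃ a b c : Fin n, a ≠ b ∧ a ≠ c ∧ b ≠ c :=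
    ⟨⟨0, by omega⟩, ⟨1, by omega⟩, ⟨2, by omega⟩, by simp, by simp, by simp⟩
  have hiso : ∀ i j, i ≠ j → t j * σ ζ₀ = t i * ζ₀ := by
    intro i j hij
    obtain ⟨s, hs⟩ := hpairvec i j hij ζ₀ hζ₀
    have hi := congrFun hs i
    have hj := congrFun hs j
    have h1 : col i j = 0 := hsupp i j hij.symm
    have h2 : col j i = 0 := hsupp j i hij
    simp [hij, hij.symm, h1, h2] at hi hj
    show col j j * σ ζ₀ = col i i * ζ₀
    rw [hi]; linear_combination hj
  have hζ0 : ζ₀ ≠ 0 := fun h0 => by rw [h0, zero_mul] at hζ₀; exact one_ne_zero (neg_eq_zero.1 hζ₀.symm)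
  have hσζ : σ ζ₀ = ζ₀ := by
    have a := hiso o₁ o₂ h12
    have b := hiso o₂ o₃ h23
    have d := hiso o₁ o₃ h13
    have h1 : t o₁ * ζ₀ * (σ ζ₀ - ζ₀) = 0 := by linear_combination ζ₀ * a + σ ζ₀ * b - σ ζ₀ * d
    exact sub_eq_zero.1 ((mul_eq_zero.1 h1).resolve_left (mul_ne_zero (ht0 _) hζ0))
  have hconst : ∀ i, t i = t o₁ := by
    intro i
    by_cases hi : i = o₁
    · rw [hi]
    have := hiso o₁ i (Ne.symm hi)
    rw [hσζ] at this
    exact mul_right_cancel₀ hζ0 this
  have hσ : σ = 1 := by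
    refine RingEquiv.ext fun a => ?_
    obtain ⟨b, hb⟩ := CfsgLib.Forms.exists_mul_involution_eq C.ne_id C.invol
      (c := -1 - a * C.σ a) (by rw [map_sub, map_neg, map_one, map_mul, C.invol, mul_comm (C.σ a)])
    obtain ⟨s, hs⟩ := key (Pi.single o₁ 1 + a • Pi.single o₂ 1 + b • Pi.single o₃ 1) (by
      simp only [herm_add_left, herm_add_right, herm_smul_left, herm_smul_right]
      simp [herm, Pi.single_apply, h12, h13, h23, h12.symm, h13.symm, h23.symm]
      linear_combination hb)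
    have h1 := congrFun hs o₁
    have h2 := congrFun hs o₂
    rw [hmul] at h1 h2
    simp [h12, h13, h23, h12.symm, hconst o₂] at h1 h2
    rw [← h1] at h2
    exact mul_left_cancel₀ (ht0 o₁) h2
  have hgd : g.1 = Matrix.diagonal fun _ => t o₁ := by
    refine Matrix.ext_iff_mulVec.2 fun x => funext fun r => ?_
    rw [hmul, Matrix.mulVec_diagonal, hconst]
  exact ⟨hσ, Units.mk0 _ (ht0 o₁), Units.ext (by rw [hgd]; rfl)⟩

theorem mem_suG_iff_fixed (s : Matrix.SpecialLinearGroup (Fin n) F) :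
    s ∈ suG C (Fin n) ↔ fieldSL (barEquiv C) (invTransSL s) = s := by
  have hst : ∀ A : Matrix (Fin n) (Fin n) F, (A.map C.σ).map C.σ = A := fun A =>
    Matrix.ext fun i j => C.invol _
  have h1 : s ∈ suG C (Fin n) ↔ s.1ᵀ * s.1.map C.σ = 1 := by
    rw [suG_fin_eq, CfsgLib.AutPSU.mem_SU_iff']
    exact CfsgLib.AutPSU.mem_GU_iff.symm.trans
      (CfsgLib.AutPSU.mem_GU_iff_matrix C (g := Matrix.SpecialLinearGroup.toGL s))
  have hinvT : (s⁻¹).1ᵀ * s.1ᵀ = 1 := by
    rw [← Matrix.transpose_mul, ← Matrix.SpecialLinearGroup.coe_mul, mul_inv_cancel,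
      Matrix.SpecialLinearGroup.coe_one, Matrix.transpose_one]
  rw [h1]
  constructor
  · intro h
    apply Subtype.ext
    show (s⁻¹).1ᵀ.map C.σ = s.1
    have h3 : s.1.map C.σ = (s⁻¹).1ᵀ := by
      rw [← Matrix.one_mul (s.1.map C.σ), ← hinvT, Matrix.mul_assoc, h, Matrix.mul_one]
    rw [← h3, hst]
  · intro h
    have h3 : (s⁻¹).1ᵀ.map C.σ = s.1 := congrArg Subtype.val h
    conv_lhs => arg 2; arg 1; rw [← h3]
    rw [hst]
    exact mul_eq_one_comm.1 hinvT

theorem scalar_central_suG {B : suG C (Fin n)} {u : F} (h : B.1.1 = u • 1) :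
    B ∈ Subgroup.center (suG C (Fin n)) := by
  rw [Subgroup.mem_center_iff]
  intro B'
  apply Subtype.ext
  apply Subtype.ext
  show B'.1.1 * B.1.1 = B.1.1 * B'.1.1
  rw [h, Matrix.mul_smul, Matrix.smul_mul, Matrix.mul_one, Matrix.one_mul]

theorem exists_scalar_of_central_suG (hn : 2 ≤ n) {B : suG C (Fin n)} (h : B ∈ Subgroup.center (suG C (Fin n))) :
    ∃ u : F, B.1.1 = u • 1 := by
  let e := MulEquiv.subgroupCongr (suG_fin_eq C n)
  have h1 : e B ∈ Subgroup.center _ := by
    rw [← CfsgLib.AutPSU.map_center_iso e]; exact Subgroup.mem_map_of_mem _ h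
  exact CfsgLib.Forms4.exists_scalar_of_mem_center C.card hn h1

set_option maxHeartbeats 1000000 in
/-- **Local balance at a graph-field involution.** -/
theorem graphField_core_iff (hn : 3 ≤ n) (h2 : (2 : F) ≠ 0)
    (hns : ¬ Group.IsSolvable (Matrix.ProjectiveSpecialLinearGroup (Fin n) F))
    [IsSimpleGroup (Matrix.ProjectiveSpecialLinearGroup (Fin n) F)]
    (A : Subgroup (MulAut (Matrix.ProjectiveSpecialLinearGroup (Fin n) F)))
    (hinn : ∀ k, MulAut.conj k ∈ A)
    (hord : orderOf (toPSLAut (fieldSL (barEquiv C) * invTransSL :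
      MulAut (Matrix.SpecialLinearGroup (Fin n) F))) = 2) :
    Cfsg.pPrimeCore 2 ↥(A ⊓ Subgroup.centralizer {toPSLAut (fieldSL (barEquiv C) * invTransSL :
        MulAut (Matrix.SpecialLinearGroup (Fin n) F))}) ≠ ⊥ ↔
      Nat.Coprime 2 (Nat.card ↥(MonoidHom.eqLocus (toPSLAut (fieldSL (barEquiv C) * invTransSL :
        MulAut (Matrix.SpecialLinearGroup (Fin n) F))).toMonoidHom
        (MonoidHom.id (Matrix.ProjectiveSpecialLinearGroup (Fin n) F)))) := by
  classical
  have : Fact (Nat.Prime 2) := ⟨Nat.prime_two⟩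
  have : Nonempty (Fin n) := ⟨⟨0, by omega⟩⟩
  have : Finite (Matrix.ProjectiveSpecialLinearGroup (Fin n) F) := Quotient.finite _
  have : Finite (MulAut (Matrix.ProjectiveSpecialLinearGroup (Fin n) F)) :=
    Finite.of_injective (fun a : MulAut (Matrix.ProjectiveSpecialLinearGroup (Fin n) F) =>
      (a : Matrix.ProjectiveSpecialLinearGroup (Fin n) F → _)) DFunLike.coe_injective
  set ψ₀ : MulAut (Matrix.SpecialLinearGroup (Fin n) F) := fieldSL (barEquiv C) * invTransSL
  refine core_iff_of_fixed hns A hinn hord fun _ => ?_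
  let θ : suG C (Fin n) →* Matrix.ProjectiveSpecialLinearGroup (Fin n) F :=
    (QuotientGroup.mk' (Subgroup.center (Matrix.SpecialLinearGroup (Fin n) F))).comp (suG C (Fin n)).subtype
  have hθfix : ∀ B, toPSLAut ψ₀ (θ B) = θ B := fun B =>
    congrArg QuotientGroup.mk ((mem_suG_iff_fixed C B.1).1 B.2)
  have hker : θ.ker = Subgroup.center (suG C (Fin n)) := by
    ext B
    rw [MonoidHom.mem_ker]
    constructor
    · intro hB
      obtain ⟨s, -, hs⟩ := Matrix.SpecialLinearGroup.mem_center_iff.1 ((QuotientGroup.eq_one_iff _).1 hB)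
      refine scalar_central_suG C (u := s) ?_
      rw [show B.1.1 = ((suG C (Fin n)).subtype B).1 from rfl, ← hs, Matrix.smul_one_eq_diagonal]
      rfl
    · intro hB
      obtain ⟨u, hu⟩ := exists_scalar_of_central_suG C (by omega) hB
      refine (QuotientGroup.eq_one_iff _).2 (Subgroup.mem_center_iff.2 fun t => Subtype.ext ?_)
      show t.1 * B.1.1 = B.1.1 * t.1
      rw [hu, Matrix.mul_smul, Matrix.smul_mul, Matrix.mul_one, Matrix.one_mul]
  refine ⟨θ.range, ?_, ?_, ?_, ?_⟩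
  · rintro _ ⟨B, rfl⟩
    exact hθfix B
  · rintro e he _ ⟨B, rfl⟩
    obtain ⟨D, rfl⟩ := QuotientGroup.mk_surjective e
    obtain ⟨z, hz, hzD⟩ : ∃ z ∈ Subgroup.center (Matrix.SpecialLinearGroup (Fin n) F), ψ₀ D = D * z :=
      ⟨D⁻¹ * ψ₀ D, QuotientGroup.eq.1 (he : QuotientGroup.mk (ψ₀ D) = _).symm, by group⟩
    have hfix : ψ₀ (D * B.1 * D⁻¹) = D * B.1 * D⁻¹ := by
      have hB : ψ₀ B.1 = B.1 := (mem_suG_iff_fixed C B.1).1 B.2
      rw [map_mul, map_mul, map_inv, hB, hzD, _root_.mul_inv_rev, mul_assoc D z,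
        ← Subgroup.mem_center_iff.1 hz B.1]
      group
    exact ⟨⟨D * B.1 * D⁻¹, (mem_suG_iff_fixed C _).2 hfix⟩, rfl⟩
  · intro N hN hNn hNc
    set M := N.comap θ
    have hMn : M.Normal := ⟨fun b hb g => by
      show θ (g * b * g⁻¹) ∈ N
      rw [map_mul, map_mul, map_inv]
      exact hNn _ ⟨g, rfl⟩ _ hb⟩
    have hmap : M.map θ = N := Subgroup.map_comap_eq_self hN
    rcases CfsgLib.AutPSU.suG_fin_normal hn (CfsgLib.AutPSU.not_three_two C h2) M with h | h
    · exfalso
      obtain ⟨o₁, o₂, o₃, h12, h13, h23⟩ : ∃ a b c : Fin n, a ≠ b ∧ a ≠ c ∧ b ≠ c :=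
        ⟨⟨0, by omega⟩, ⟨1, by omega⟩, ⟨2, by omega⟩, by simp, by simp, by simp⟩
      set d := CfsgLib.AutPSU.diagPair C h12 (-1 : F) (by simp)
      have hd2 : θ d ^ 2 = 1 := by
        rw [← map_pow]
        convert map_one θ
        apply Subtype.ext
        apply Subtype.ext
        rw [SubmonoidClass.coe_pow, Matrix.SpecialLinearGroup.coe_pow]
        show (Matrix.diagonal _) ^ 2 = 1
        rw [Matrix.diagonal_pow, ← Matrix.diagonal_one]
        congr 1
        funext i
        rw [Pi.pow_apply]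
        split_ifs <;> simp
      have hd1 : θ d ≠ 1 := by
        intro h'
        obtain ⟨u, hu⟩ := exists_scalar_of_central_suG C (by omega) (hker ▸ MonoidHom.mem_ker.2 h' : d ∈ _)
        have e1 := congrFun (congrFun hu o₁) o₁
        have e3 := congrFun (congrFun hu o₃) o₃
        simp [d, CfsgLib.AutPSU.diagPair, h12, h13.symm, h23.symm] at e1 e3
        exact h2 (by linear_combination e3 - e1)
      have hmem : θ d ∈ N := by rw [← hmap, h]; exact ⟨d, trivial, rfl⟩
      have h3 : (2 : ℕ) ∣ Nat.card N := (orderOf_eq_prime hd2 hd1).symm.dvd.trans (Subgroup.orderOf_dvd_natCard _ hmem)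
      exact Nat.prime_two.coprime_iff_not_dvd.1 hNc.symm h3
    · rw [← hmap, Subgroup.map_eq_bot_iff, hker]
      exact h
  · intro y _ hy
    let S : Subgroup (MulAut (Matrix.ProjectiveSpecialLinearGroup (Fin n) F)) :=
      { carrier := {y | ∀ x ∈ θ.range, y x = x}
        one_mem' := fun x _ => rfl
        mul_mem' := fun {a b} ha hb x hx => by rw [MulAut.mul_apply, hb x hx, ha x hx]
        inv_mem' := fun {a} ha x hx => by rw [MulAut.inv_def, MulEquiv.symm_apply_eq, ha x hx] }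
    refine pow_eq_one_of_coprime S (fun y hy hyodd => ?_) (g := y) hy
    obtain ⟨g, τ, rfl⟩ := isSemilinear_of_odd (by omega) y (Nat.coprime_two_right.1 hyodd)
    have key : ∀ w : Fin n → F, herm C w w = 0 → ∃ t : F, g.1 *ᵥ (τ ∘ w) = t • w := by
      intro w hw
      by_cases hw0 : w = 0
      · exact ⟨0, by subst hw0; simp [show (τ ∘ (0 : Fin n → F)) = 0 from funext fun i => by simp]⟩
      obtain ⟨d, hd, hd0⟩ := C.exists_skew_ne
      set T := transvEl C w d hw hd with hT
      have e : ((conjSL g (fieldSL τ T.1))⁻¹ * T.1) ∈ Subgroup.center (Matrix.SpecialLinearGroup (Fin n) F) :=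
        QuotientGroup.eq.1 (hy (QuotientGroup.mk T.1) ⟨T, rfl⟩)
      obtain ⟨r, -, hr⟩ := Matrix.SpecialLinearGroup.mem_center_iff.1 e
      have hrT : ∀ x, T.1.1 *ᵥ (g.1 *ᵥ (τ ∘ x)) = r • (g.1 *ᵥ (τ ∘ (T.1.1 *ᵥ x))) := by
        intro x
        have h1 : T.1 = conjSL g (fieldSL τ T.1) * ((conjSL g (fieldSL τ T.1))⁻¹ * T.1) := by group
        have h3 := congrArg Subtype.val h1
        rw [Matrix.SpecialLinearGroup.coe_mul, ← hr, conjSL_coe,
          show ∀ A : Matrix (Fin n) (Fin n) F, A * Matrix.scalar (Fin n) r = r • A from fun A => by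
            ext i j; simp [Matrix.mul_diagonal, mul_comm]] at h3
        conv_lhs => rw [h3]
        rw [Matrix.smul_mulVec, ← Matrix.mulVec_mulVec, ← Matrix.mulVec_mulVec,
          Matrix.mulVec_mulVec (τ ∘ x) (g⁻¹ : GL (Fin n) F).1 g.1, g.inv_mul, Matrix.one_mulVec]
        congr 2
        exact (funext fun i => (RingHom.map_mulVec τ.toRingHom _ x i).symm)
      have hTx : ∀ x, T.1.1 *ᵥ x = x + (d * herm C x w) • w := fun x => isTransv_transvEl C w d hw hd x
      have hr1 : r = 1 := by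
        let L : (Fin n → F) →ₗ[F] F × F :=
          { toFun := fun y => (herm C y w, herm C ((g⁻¹ : GL (Fin n) F).1 *ᵥ y) (τ ∘ w))
            map_add' := fun a b => by simp [herm_add_left, Matrix.mulVec_add]
            map_smul' := fun a b => by simp [herm_smul_left, Matrix.mulVec_smul] }
        obtain ⟨y₁, hy₁, hy₁0⟩ := Submodule.exists_mem_ne_zero_of_ne_bot
          (LinearMap.ker_ne_bot_of_finrank_lt (f := L) (by simp; omega))
        rw [LinearMap.mem_ker, show L y₁ = (herm C y₁ w, herm C ((g⁻¹ : GL (Fin n) F).1 *ᵥ y₁) (τ ∘ w)) from rfl,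
          Prod.mk_eq_zero] at hy₁
        set x := τ.symm ∘ ((g⁻¹ : GL (Fin n) F).1 *ᵥ y₁) with hxdef
        have hx : g.1 *ᵥ (τ ∘ x) = y₁ := by
          rw [hxdef, comp_symm, Matrix.mulVec_mulVec, g.mul_inv, Matrix.one_mulVec]
        have hxw : herm C x w = 0 := by
          apply τ.injective
          rw [map_zero, ← herm_map, hxdef, comp_symm, hy₁.2]
        have h1 := hrT x
        rw [hTx x, hxw, mul_zero, zero_smul, add_zero, hx, hTx, hy₁.1, mul_zero, zero_smul, add_zero] at h1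
        exact (smul_left_injective F hy₁0 ((one_smul F y₁).trans h1)).symm
      obtain ⟨x, hx⟩ := exists_herm_eq C hw0 1
      have h1 := hrT x
      rw [hr1, one_smul, hTx, hTx x, hx, mul_one,
        show τ ∘ (x + d • w) = τ ∘ x + τ d • (τ ∘ w) by funext i; simp,
        Matrix.mulVec_add, Matrix.mulVec_smul, add_right_inj] at h1
      have hd0' : τ d ≠ 0 := by simpa using hd0
      exact ⟨(τ d)⁻¹ * (d * herm C (g.1 *ᵥ (τ ∘ x)) w), by rw [mul_smul, h1, inv_smul_smul₀ hd0']⟩
    obtain ⟨rfl, u, rfl⟩ := scalar_of_isotropic_lines C hn key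
    rw [conjSL_scalar, map_one fieldSL, one_mul, map_one]

end CfsgLib.AutPSL
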