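import Cfsg.Agent.AutPSL.GraphFieldCentralizer

/-!
# Local balance at non-inner-diagonal automorphisms of prime order of `PSL_n(q)`
-/

set_option autoImplicit false
set_option linter.unusedSectionVars false

namespace CfsgLib.AutPSL

open Matrix CfsgLib.ClassicalCore

/-- The criterion transfers along conjugation. -/
theorem core_iff_of_conj {G : Type*} [Group G] [Finite G] {p : ℕ} [Fact p.Prime] (A : Subgroup (MulAut G))
    (hinn : ∀ k : G, MulAut.conj k ∈ A) (δ x φ : MulAut G) (hh : x = δ * φ * δ⁻¹)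
    (key : ∀ A' : Subgroup (MulAut G), (∀ k : G, MulAut.conj k ∈ A') →
      (Cfsg.pPrimeCore p ↥(A' ⊓ Subgroup.centralizer {φ}) ≠ ⊥ ↔
        Nat.Coprime p (Nat.card ↥(MonoidHom.eqLocus φ.toMonoidHom (MonoidHom.id G))))) :
    Cfsg.pPrimeCore p ↥(A ⊓ Subgroup.centralizer {x}) ≠ ⊥ ↔
      Nat.Coprime p (Nat.card ↥(MonoidHom.eqLocus x.toMonoidHom (MonoidHom.id G))) := by
  have : Finite (MulAut G) := Finite.of_injective (fun a : MulAut G => (a : G → G)) DFunLike.coe_injective
  have hxφ : δ⁻¹ * x * δ = φ := by rw [hh]; group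
  let A' := A.map (MulAut.conj δ⁻¹).toMonoidHom
  have hinn' : ∀ k, MulAut.conj k ∈ A' := fun k => by
    refine ⟨MulAut.conj (δ k), hinn _, ?_⟩
    ext1 y
    simp [MulAut.mul_apply, MulAut.inv_def]
  have hmemA : ∀ y, y ∈ A' ↔ δ * y * δ⁻¹ ∈ A := by
    intro y
    constructor
    · rintro ⟨a, ha, rfl⟩
      simpa [mul_assoc] using ha
    · intro hy
      exact ⟨_, hy, by simp [mul_assoc]⟩
  let e : ↥(A ⊓ Subgroup.centralizer {x}) ≃* ↥(A' ⊓ Subgroup.centralizer {φ}) :=
    { toFun := fun a => ⟨δ⁻¹ * a.1 * δ, (hmemA _).2 (by simpa [mul_assoc] using a.2.1),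
        Subgroup.mem_centralizer_singleton_iff.2 (by
          have h1 := Subgroup.mem_centralizer_singleton_iff.1 a.2.2
          rw [← hxφ]
          calc δ⁻¹ * a.1 * δ * (δ⁻¹ * x * δ) = δ⁻¹ * (a.1 * x) * δ := by group
            _ = δ⁻¹ * (x * a.1) * δ := by rw [h1]
            _ = _ := by group)⟩
      invFun := fun a => ⟨δ * a.1 * δ⁻¹, (hmemA _).1 a.2.1, Subgroup.mem_centralizer_singleton_iff.2 (by
          have h1 := Subgroup.mem_centralizer_singleton_iff.1 a.2.2
          rw [hh]
          calc δ * a.1 * δ⁻¹ * (δ * φ * δ⁻¹) = δ * (a.1 * φ) * δ⁻¹ := by group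
            _ = δ * (φ * a.1) * δ⁻¹ := by rw [h1]
            _ = _ := by group)⟩
      left_inv := fun a => Subtype.ext (by simp [mul_assoc])
      right_inv := fun a => Subtype.ext (by simp [mul_assoc])
      map_mul' := fun a b => Subtype.ext (by simp [mul_assoc]) }
  have hcard : Nat.card ↥(MonoidHom.eqLocus x.toMonoidHom (MonoidHom.id G)) =
      Nat.card ↥(MonoidHom.eqLocus φ.toMonoidHom (MonoidHom.id G)) := by
    refine Nat.card_congr (Equiv.subtypeEquiv (δ⁻¹).toEquiv fun k => ?_)
    change x k = k ↔ φ (δ⁻¹ k) = δ⁻¹ k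
    rw [← hxφ]
    simp [MulAut.mul_apply, MulAut.inv_def]
  rw [hcard, ← key A' hinn']
  exact ⟨pPrimeCore_ne_bot_congr e, pPrimeCore_ne_bot_congr e.symm⟩

variable {F : Type*} [Field F] [Fintype F] {n : ℕ}

/-- An involution in `SL` fixed up to the centre, with a non-scalar matrix. -/
theorem two_dvd_fixed {β : MulAut (Matrix.ProjectiveSpecialLinearGroup (Fin n) F)}
    (s : Matrix.SpecialLinearGroup (Fin n) F) (hfix : β (QuotientGroup.mk s) = QuotientGroup.mk s)
    (h2 : s * s = 1) (hns : ∀ c : F, s.1 ≠ c • 1) :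
    2 ∣ Nat.card ↥(MonoidHom.eqLocus β.toMonoidHom (MonoidHom.id _)) := by
  have : Fact (Nat.Prime 2) := ⟨Nat.prime_two⟩
  have h1 : (QuotientGroup.mk s : Matrix.ProjectiveSpecialLinearGroup (Fin n) F) ≠ 1 := fun h => by
    obtain ⟨c, -, hc⟩ := Matrix.SpecialLinearGroup.mem_center_iff.1 ((QuotientGroup.eq_one_iff _).1 h)
    exact hns c (by rw [← hc, Matrix.smul_one_eq_diagonal]; rfl)
  have ho : orderOf (QuotientGroup.mk s : Matrix.ProjectiveSpecialLinearGroup (Fin n) F) = 2 :=
    orderOf_eq_prime (by rw [pow_two, ← QuotientGroup.mk_mul, h2, QuotientGroup.mk_one]) h1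
  exact ho.symm.dvd.trans (Subgroup.orderOf_dvd_natCard _ hfix)

/-- The fixed points of a graph involution have even order. -/
theorem graph_two_dvd (hn : 3 ≤ n) (h2 : (2 : F) ≠ 0) (g : GL (Fin n) F)
    (hform : (∀ x y, graphForm g x y = graphForm g y x) ∨ (graphForm g).IsAlt) :
    2 ∣ Nat.card ↥(MonoidHom.eqLocus (graphAut g).toMonoidHom (MonoidHom.id _)) := by
  classical
  have : Nonempty (Fin n) := ⟨⟨0, by omega⟩⟩
  -- an isometric involution of determinant one which is not scalar
  obtain ⟨a, hdet, ha2, u, z, hz0, hu0, hau, haz⟩ : ∃ a : CfsgLib.Forms.isoGroup (graphForm g),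
      (LinearMap.toMatrix' a.1.toLinearMap).det = 1 ∧ a * a = 1 ∧
        ∃ u z, z ≠ 0 ∧ u ≠ 0 ∧ a.1 u = -u ∧ a.1 z = z := by
    rcases hform with hs | hA
    · obtain ⟨e, f, k, he, hf, hk, hef, hek, hfk⟩ :=
        exists_triple hs h2 (graphForm_nondeg g) (by simpa using hn)
      refine ⟨⟨ClassicalCore.refl he, ClassicalCore.refl_iso hs he⟩ *
        ⟨ClassicalCore.refl hf, ClassicalCore.refl_iso hs hf⟩, ?_, ?_, e, k, fun h => hk (by simp [h]),
        fun h => he (by simp [h]), ?_, ?_⟩
      · show (LinearMap.toMatrix' ((ClassicalCore.refl he).toLinearMap.comp (ClassicalCore.refl hf).toLinearMap)).det = 1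
        rw [LinearMap.toMatrix'_comp, Matrix.det_mul, det_refl, det_refl]; norm_num
      · have hc' : (ClassicalCore.refl he * ClassicalCore.refl hf : (Fin n → F) ≃ₗ[F] (Fin n → F)) =
            ClassicalCore.refl hf * ClassicalCore.refl he := LinearEquiv.ext fun z => by
          rw [refl_mul_refl_apply he hf hef, refl_mul_refl_apply hf he (by rw [hs, hef])]; abel
        apply Subtype.ext
        show ClassicalCore.refl he * ClassicalCore.refl hf * (ClassicalCore.refl he * ClassicalCore.refl hf) = 1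
        have e' : ∀ {w : Fin n → F} (hw : graphForm g w w ≠ 0), ClassicalCore.refl hw * ClassicalCore.refl hw = 1 :=
          fun hw => by nth_rewrite 1 [← refl_inv hw]; exact inv_mul_cancel _
        conv_lhs => arg 2; rw [hc']
        rw [mul_assoc, ← mul_assoc (ClassicalCore.refl hf), e', one_mul, e']
      · exact (neg_iff_mem_plane hs h2 he hf hef e).2 ⟨1, 0, by simp⟩
      · show (ClassicalCore.refl he * ClassicalCore.refl hf) k = k
        rw [refl_mul_refl_apply he hf hef, hek, hfk]
        simp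
    · obtain ⟨o⟩ := (inferInstance : Nonempty (Fin n))
      set u : Fin n → F := Pi.single o 1
      have hu : u ≠ 0 := by simp [u]
      obtain ⟨v₀, hv₀⟩ : ∃ v, graphForm g u v ≠ 0 := by
        by_contra h
        push Not at h
        exact hu (graphForm_nondeg g u h)
      set v := (graphForm g u v₀)⁻¹ • v₀
      have huv : graphForm g u v = 1 := by simp [v, hv₀]
      have hvu : graphForm g v u = -1 := by rw [← LinearMap.IsAlt.neg hA u v, huv]
      set t := transv hA u
      set t' := transv hA v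
      let w : CfsgLib.Forms.isoGroup (graphForm g) :=
        ⟨t, transv_iso hA u⟩ * ⟨t', transv_iso hA v⟩ * ⟨t, transv_iso hA u⟩
      have hw : ∀ z, (w * w).1 z = z - (2 : F) • (graphForm g z v • u - graphForm g z u • v) := by
        intro z
        show t (t' (t (t (t' (t z))))) = _
        simp only [t, t', transv_apply, map_add, map_smul,
          hA u, hA v, huv, hvu]
        module
      have hwdet : (LinearMap.toMatrix' w.1.toLinearMap).det = 1 := by
        show (LinearMap.toMatrix' ((t.toLinearMap.comp t'.toLinearMap).comp t.toLinearMap)).det = 1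
        rw [LinearMap.toMatrix'_comp, LinearMap.toMatrix'_comp, Matrix.det_mul, Matrix.det_mul, det_transv,
          det_transv, one_mul, one_mul]
      obtain ⟨z, hz, hz0⟩ := Submodule.exists_mem_ne_zero_of_ne_bot
        (LinearMap.ker_ne_bot_of_finrank_lt (f := ((graphForm g).flip u).prod ((graphForm g).flip v))
          (by simp; omega))
      rw [LinearMap.mem_ker] at hz
      have hzu : graphForm g z u = 0 := congrArg Prod.fst hz
      have hzv : graphForm g z v = 0 := congrArg Prod.snd hz
      refine ⟨w * w, ?_, ?_, u, z, hz0, hu, ?_, ?_⟩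
      · show (LinearMap.toMatrix' (w.1.toLinearMap.comp w.1.toLinearMap)).det = 1
        rw [LinearMap.toMatrix'_comp, Matrix.det_mul, hwdet, one_mul]
      · refine Subtype.ext (LinearEquiv.ext fun y => ?_)
        show (w * w).1 ((w * w).1 y) = y
        rw [hw, hw]
        simp only [map_sub, map_smul, LinearMap.sub_apply, LinearMap.smul_apply, smul_eq_mul, hA u, hA v, huv, hvu]
        module
      · rw [hw, huv, hA u]
        module
      · rw [hw, hzu, hzv]
        simp
  obtain ⟨s, hs⟩ : ∃ s : Matrix.SpecialLinearGroup (Fin n) F, Matrix.SpecialLinearGroup.toGL s = eqvGL a.1 :=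
    ⟨⟨LinearMap.toMatrix' a.1.toLinearMap, hdet⟩, Units.ext rfl⟩
  have hsv : s.1 = LinearMap.toMatrix' a.1.toLinearMap := congrArg Units.val hs
  refine two_dvd_fixed s ?_ ?_ ?_
  · show QuotientGroup.mk (conjSL g (invTransSL s)) = QuotientGroup.mk _
    congr 1
    apply Subtype.ext
    rw [conjSL_coe, invTransSL_coe]
    have h1 := congrArg Units.val (g_invTrans g a)
    rw [← hs, Units.val_mul, Units.val_mul] at h1
    exact (congrArg (fun M : Matrix (Fin n) (Fin n) F => M * (g⁻¹ : GL (Fin n) F).1) h1).trans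
      (by rw [Matrix.mul_assoc, g.mul_inv, Matrix.mul_one]; rfl)
  · apply Matrix.SpecialLinearGroup.toGL_injective
    rw [map_mul, map_one, hs, ← map_mul eqvGL, ← Subgroup.coe_mul, ha2, OneMemClass.coe_one, map_one]
  · intro c hc
    have hax : ∀ x, a.1 x = c • x := fun x => by
      rw [← eqvGL_mulVec]
      show LinearMap.toMatrix' a.1.toLinearMap *ᵥ x = _
      rw [← hsv, show s.1 = c • 1 from hc, Matrix.smul_mulVec, Matrix.one_mulVec]
    rw [hax] at hau haz
    have e1 : (c + 1) • u = 0 := by rw [add_smul, one_smul, hau, neg_add_cancel]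
    have e2 : (c - 1) • z = 0 := by rw [sub_smul, one_smul, haz, sub_self]
    have e1' := (smul_eq_zero.1 e1).resolve_right hu0
    have e2' := (smul_eq_zero.1 e2).resolve_right hz0
    exact h2 (by linear_combination e1' - e2')

open CfsgLib.RepBounds.Unit in
/-- The fixed points of a graph-field involution have even order. -/
theorem graphField_two_dvd (C : ConjField F) (hn : 3 ≤ n) (h2 : (2 : F) ≠ 0) :
    2 ∣ Nat.card ↥(MonoidHom.eqLocus (toPSLAut (fieldSL (CfsgLib.AutPSU.barEquiv C) * invTransSL :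
      MulAut (Matrix.SpecialLinearGroup (Fin n) F))).toMonoidHom (MonoidHom.id _)) := by
  classical
  obtain ⟨o₁, o₂, o₃, h12, h13, h23⟩ : ∃ a b c : Fin n, a ≠ b ∧ a ≠ c ∧ b ≠ c :=
    ⟨⟨0, by omega⟩, ⟨1, by omega⟩, ⟨2, by omega⟩, by simp, by simp, by simp⟩
  set d := CfsgLib.AutPSU.diagPair C h12 (-1 : F) (by simp)
  refine two_dvd_fixed d.1 (congrArg QuotientGroup.mk ((mem_suG_iff_fixed C d.1).1 d.2)) ?_ ?_
  · apply Subtype.ext
    rw [Matrix.SpecialLinearGroup.coe_mul]
    show Matrix.diagonal _ * Matrix.diagonal _ = 1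
    rw [Matrix.diagonal_mul_diagonal, ← Matrix.diagonal_one]
    congr 1
    funext i
    split_ifs <;> simp
  · intro c hc
    have e1 := congrFun (congrFun hc o₁) o₁
    have e3 := congrFun (congrFun hc o₃) o₃
    simp [d, CfsgLib.AutPSU.diagPair, h12, h13.symm, h23.symm] at e1 e3
    exact h2 (by linear_combination e3 - e1)

end CfsgLib.AutPSL
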