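import Cfsg.Agent.AutPSL.SimpleRoots

/-!
# `Aut(PSL_n(F))` (Schreier–van der Waerden)

Main theorem `exists_form`: for `n ≥ 2` and a finite field, every automorphism of `PSL_n(F)` is
induced by `conjSL g * fieldSL σ * γ` with `γ = 1` or `γ = invTransSL`.
-/

set_option autoImplicit false

namespace CfsgLib.AutPSL

open Matrix

variable {F : Type*} [Field F] [Fintype F]

section Setup

variable {n : ℕ} (p : ℕ) [Fact p.Prime] [CharP F p]

/-- The quotient map `SL → PSL`. -/
abbrev mkP : Matrix.SpecialLinearGroup (Fin n) F →* Matrix.ProjectiveSpecialLinearGroup (Fin n) F :=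
  QuotientGroup.mk' _

/-- The image of the upper unitriangular group in `PSL`. -/
abbrev upP (n : ℕ) (F : Type*) [Field F] [Fintype F] :
    Subgroup (Matrix.ProjectiveSpecialLinearGroup (Fin n) F) := (upU n F).map mkP

/-- The image of the lower unitriangular group in `PSL`. -/
abbrev loP (n : ℕ) (F : Type*) [Field F] [Fintype F] :
    Subgroup (Matrix.ProjectiveSpecialLinearGroup (Fin n) F) := (loU n F).map mkP

/-- A common exponent of the unipotent elements. -/
noncomputable abbrev unipExp (n : ℕ) (F : Type*) [Field F] [Fintype F] : ℕ :=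
  Fintype.card F ^ (∑ j : Fin n, (j : ℕ))

omit [Fact p.Prime] [CharP F p] in
theorem card_loU : Nat.card (loU n F) = Nat.card (upU n F) := by
  obtain ⟨w, hw⟩ := exists_conj_upU_eq_loU (n := n) (F := F)
  rw [← hw, Subgroup.card_map_of_injective (MulAut.conj w).injective]

theorem pow_eq_one_up {x : Matrix.SpecialLinearGroup (Fin n) F} (hx : x ∈ upU n F) :
    x ^ p ^ (Nat.card (Matrix.SpecialLinearGroup (Fin n) F)).factorization p = 1 := by
  rw [← card_upU_eq_ppart p]
  exact congrArg Subtype.val (pow_card_eq_one' (x := (⟨x, hx⟩ : upU n F)))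

theorem pow_eq_one_lo {x : Matrix.SpecialLinearGroup (Fin n) F} (hx : x ∈ loU n F) :
    x ^ p ^ (Nat.card (Matrix.SpecialLinearGroup (Fin n) F)).factorization p = 1 := by
  rw [← card_upU_eq_ppart p, ← card_loU]
  exact congrArg Subtype.val (pow_card_eq_one' (x := (⟨x, hx⟩ : loU n F)))

include p in
theorem mk_injOn_up : Set.InjOn (mkP : Matrix.SpecialLinearGroup (Fin n) F →* _) (upU n F) :=
  fun _ hx _ hy h => eq_of_mk_eq p (pow_eq_one_up p hx) (pow_eq_one_up p hy) h

include p in
theorem mk_injOn_lo : Set.InjOn (mkP : Matrix.SpecialLinearGroup (Fin n) F →* _) (loU n F) :=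
  fun _ hx _ hy h => eq_of_mk_eq p (pow_eq_one_lo p hx) (pow_eq_one_lo p hy) h

theorem card_map_of_injOn {G H : Type*} [Group G] [Group H] (f : G →* H) (K : Subgroup G)
    (h : Set.InjOn f K) : Nat.card (K.map f) = Nat.card K :=
  Nat.card_image_of_injOn h

include p in
theorem card_upP : Nat.card (upP n F) = Nat.card (upU n F) :=
  card_map_of_injOn _ _ (mk_injOn_up p)

include p in
theorem card_loP : Nat.card (loP n F) = Nat.card (loU n F) :=
  card_map_of_injOn _ _ (mk_injOn_lo p)

include p in
theorem upP_inf_loP : upP n F ⊓ loP n F = ⊥ := by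
  rw [eq_bot_iff]
  rintro x ⟨⟨u, hu, rfl⟩, ⟨l, hl, hlu⟩⟩
  have e : l = u := eq_of_mk_eq p (pow_eq_one_lo p hl) (pow_eq_one_up p hu) hlu
  have : u ∈ upU n F ⊓ loU n F := ⟨hu, e ▸ hl⟩
  rw [upU_inf_loU, Subgroup.mem_bot] at this
  simp [this]

/-- `upP` as a Sylow subgroup. -/
noncomputable def upPSylow : Sylow p (Matrix.ProjectiveSpecialLinearGroup (Fin n) F) :=
  (upSylow p).mapSurjective (QuotientGroup.mk'_surjective _)

theorem coe_upPSylow : ((upPSylow p : Sylow p (Matrix.ProjectiveSpecialLinearGroup (Fin n) F)) :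
    Subgroup (Matrix.ProjectiveSpecialLinearGroup (Fin n) F)) = upP n F := rfl

include p in
theorem exists_conj_upP (V : Subgroup (Matrix.ProjectiveSpecialLinearGroup (Fin n) F))
    (hV : Nat.card V = Nat.card (upP n F)) :
    ∃ h : Matrix.SpecialLinearGroup (Fin n) F, (upP n F).map (MulAut.conj (mkP h)).toMonoidHom = V := by
  have hcard : Nat.card V = p ^ (Nat.card (Matrix.ProjectiveSpecialLinearGroup (Fin n) F)).factorization p := by
    rw [hV, ← coe_upPSylow p]
    exact Sylow.card_eq_multiplicity _
  obtain ⟨g, hg⟩ := MulAction.exists_smul_eq (Matrix.ProjectiveSpecialLinearGroup (Fin n) F)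
    (upPSylow (n := n) (F := F) p) (Sylow.ofCard V hcard)
  obtain ⟨h, rfl⟩ := QuotientGroup.mk'_surjective _ g
  refine ⟨h, ?_⟩
  have := congrArg (fun P : Sylow p (Matrix.ProjectiveSpecialLinearGroup (Fin n) F) =>
    (P : Subgroup (Matrix.ProjectiveSpecialLinearGroup (Fin n) F))) hg
  simp only [Sylow.coe_subgroup_smul, Sylow.coe_ofCard] at this
  rw [← this]
  rfl

include p in
/-- After an inner automorphism both unitriangular images are fixed. -/
theorem exists_inner_fix (β : MulAut (Matrix.ProjectiveSpecialLinearGroup (Fin n) F)) :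
    ∃ h : Matrix.SpecialLinearGroup (Fin n) F,
      (upP n F).map (MulAut.conj (mkP h) * β).toMonoidHom = upP n F ∧
      (loP n F).map (MulAut.conj (mkP h) * β).toMonoidHom = loP n F := by
  have hmap : ∀ (a b : MulAut (Matrix.ProjectiveSpecialLinearGroup (Fin n) F)) (V : Subgroup _),
      V.map (a * b).toMonoidHom = (V.map b.toMonoidHom).map a.toMonoidHom := by
    intro a b V; rw [Subgroup.map_map]; rfl
  obtain ⟨h₁, hh₁⟩ := exists_conj_upP p ((upP n F).map β.toMonoidHom)
    (Subgroup.card_map_of_injective β.injective)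
  set β₁ := (MulAut.conj (mkP h₁))⁻¹ * β with hβ₁
  have h1 : (upP n F).map β₁.toMonoidHom = upP n F := by
    rw [hβ₁, hmap, ← hh₁, ← hmap, inv_mul_cancel]
    exact Subgroup.map_id _
  obtain ⟨w, hw⟩ := exists_conj_upU_eq_loU (n := n) (F := F)
  have hwP : (upP n F).map (MulAut.conj (mkP w)).toMonoidHom = loP n F := by
    rw [loP, ← hw, Subgroup.map_map, Subgroup.map_map]
    congr 1
  obtain ⟨h₂, hh₂⟩ := exists_conj_upP p ((loP n F).map β₁.toMonoidHom)
    (by rw [Subgroup.card_map_of_injective β₁.injective, card_loP p, card_loU, card_upP p])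
  have hV : (loP n F).map β₁.toMonoidHom =
      (loP n F).map (MulAut.conj (mkP (h₂ * w⁻¹))).toMonoidHom := by
    rw [← hh₂, ← hwP, ← hmap, ← map_mul, ← map_mul, inv_mul_cancel_right]
  have hdis : upP n F ⊓ (loP n F).map β₁.toMonoidHom = ⊥ := by
    conv_lhs => arg 1; rw [← h1]
    rw [← Subgroup.map_inf _ _ _ β₁.injective, upP_inf_loP p, Subgroup.map_bot]
  obtain ⟨u, hu, hu'⟩ := exists_upU_conj_of_inf_eq_bot (h₂ * w⁻¹) (fun x hx hx' => by
    have hm : mkP x ∈ upP n F ⊓ (loP n F).map β₁.toMonoidHom := by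
      refine ⟨Subgroup.mem_map_of_mem _ hx, ?_⟩
      rw [hV]
      refine ⟨mkP ((h₂ * w⁻¹)⁻¹ * x * (h₂ * w⁻¹)), Subgroup.mem_map_of_mem _ hx', ?_⟩
      simp [mul_assoc]
    rw [hdis, Subgroup.mem_bot] at hm
    exact mk_injOn_up p hx (upU n F).one_mem (by rw [hm, map_one]))
  have hV' : (loP n F).map β₁.toMonoidHom = (loP n F).map (MulAut.conj (mkP u)).toMonoidHom := by
    have := congrArg (Subgroup.map (mkP (n := n) (F := F))) hu'
    rw [hV, Subgroup.map_map, Subgroup.map_map]
    rw [Subgroup.map_map, Subgroup.map_map] at this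
    convert this using 2 <;> ext1 x <;> simp
  refine ⟨u⁻¹ * h₁⁻¹, ?_, ?_⟩
  all_goals rw [map_mul, map_mul, map_inv, map_inv, map_inv, map_inv, mul_assoc, ← hβ₁, hmap]
  · rw [h1, ← map_inv, ← map_inv]
    refine Subgroup.eq_of_le_of_card_ge ?_ (le_of_eq ?_)
    · rintro y ⟨x, ⟨x', hx', rfl⟩, rfl⟩
      refine ⟨u⁻¹ * x' * u, (upU n F).mul_mem ((upU n F).mul_mem ((upU n F).inv_mem hu) hx') hu, ?_⟩
      simp [mul_assoc]
    · exact (Subgroup.card_map_of_injective (MulEquiv.injective _)).symm
  · rw [hV', ← hmap, inv_mul_cancel]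
    exact Subgroup.map_id _

/-- The projective form of `HasLargeInter`. -/
def HasLargeInterP (x : Matrix.ProjectiveSpecialLinearGroup (Fin n) F) : Prop :=
  Nat.card (loP n F) ≤ Fintype.card F *
    Nat.card ((loP n F) ⊓ (loP n F).map (MulAut.conj x).toMonoidHom : Subgroup _)

include p in
theorem hasLargeInterP_mk_iff {u : Matrix.SpecialLinearGroup (Fin n) F} :
    HasLargeInterP (mkP u) ↔ HasLargeInter u := by
  have e : (loP n F) ⊓ (loP n F).map (MulAut.conj (mkP u)).toMonoidHom = (loInter u).map mkP := by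
    apply le_antisymm
    · rintro y ⟨⟨l, hl, rfl⟩, ⟨y', ⟨l', hl', rfl⟩, e⟩⟩
      have : MulAut.conj u l' = l := by
        refine eq_of_mk_eq p (k := (Nat.card (Matrix.SpecialLinearGroup (Fin n) F)).factorization p)
          ?_ (pow_eq_one_lo p hl) ?_
        · rw [← map_pow, pow_eq_one_lo p hl', map_one]
        · rw [← QuotientGroup.mk'_apply, ← QuotientGroup.mk'_apply, ← e]
          simp
      exact Subgroup.mem_map_of_mem _ ⟨hl, ⟨l', hl', this⟩⟩
    · rintro y ⟨l, ⟨hl, l', hl', rfl⟩, rfl⟩
      exact ⟨Subgroup.mem_map_of_mem _ hl,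
        ⟨mkP l', Subgroup.mem_map_of_mem _ hl', by simp⟩⟩
  rw [HasLargeInterP, HasLargeInter, card_loP p, e,
    card_map_of_injOn _ _ ((mk_injOn_lo p).mono (fun x hx => (mem_loInter.1 hx).1))]

theorem hasLargeInterP_map {β : MulAut (Matrix.ProjectiveSpecialLinearGroup (Fin n) F)}
    (hL : (loP n F).map β.toMonoidHom = loP n F)
    {x : Matrix.ProjectiveSpecialLinearGroup (Fin n) F} (hx : HasLargeInterP x) :
    HasLargeInterP (β x) := by
  have e : (loP n F) ⊓ (loP n F).map (MulAut.conj (β x)).toMonoidHom =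
      ((loP n F) ⊓ (loP n F).map (MulAut.conj x).toMonoidHom).map β.toMonoidHom := by
    have h2 : ((loP n F).map (MulAut.conj x).toMonoidHom).map β.toMonoidHom =
        (loP n F).map (MulAut.conj (β x)).toMonoidHom := by
      conv_rhs => rw [← hL]
      rw [Subgroup.map_map (loP n F), Subgroup.map_map (loP n F)]
      congr 1
      ext y
      simp
    rw [Subgroup.map_inf _ _ _ β.injective, hL, h2]
  rw [HasLargeInterP, e, Subgroup.card_map_of_injective (f := β.toMonoidHom) β.injective]
  exact hx

/-- Graph automorphism of `SL_n` preserving both unitriangular groups. -/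
noncomputable def graphSL (n : ℕ) (F : Type*) [Field F] :
    MulAut (Matrix.SpecialLinearGroup (Fin n) F) :=
  conjSL (Matrix.GeneralLinearGroup.mkOfDetNeZero ((Fin.revPerm (n := n)).permMatrix F) (by
    rw [Matrix.det_permutation]
    rcases Int.units_eq_one_or (Equiv.Perm.sign (Fin.revPerm (n := n))) with h | h <;> simp [h])) *
  invTransSL

omit [Fintype F] [Fact p.Prime] [CharP F p] in
theorem graphSL_apply (s : Matrix.SpecialLinearGroup (Fin n) F) (i j : Fin n) :
    ((graphSL n F s : Matrix.SpecialLinearGroup (Fin n) F) : Matrix (Fin n) (Fin n) F) i j =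
      ((s⁻¹ : Matrix.SpecialLinearGroup (Fin n) F) : Matrix (Fin n) (Fin n) F) j.rev i.rev := by
  set J := Matrix.GeneralLinearGroup.mkOfDetNeZero ((Fin.revPerm (n := n)).permMatrix F) (by
    rw [Matrix.det_permutation]
    rcases Int.units_eq_one_or (Equiv.Perm.sign (Fin.revPerm (n := n))) with h | h <;> simp [h]) with hJ
  have hinv : J⁻¹ = J := by
    refine inv_eq_of_mul_eq_one_right (Units.ext ?_)
    change (Fin.revPerm (n := n)).permMatrix F * (Fin.revPerm (n := n)).permMatrix F = 1
    rw [← Matrix.permMatrix_mul, show (Fin.revPerm (n := n)) * Fin.revPerm = 1 by ext; simp,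
      Matrix.permMatrix_one]
  change ((conjSL J (invTransSL s) : Matrix.SpecialLinearGroup (Fin n) F) :
    Matrix (Fin n) (Fin n) F) i j = _
  rw [conjSL_coe, hinv, invTransSL_coe]
  change ((Fin.revPerm (n := n)).permMatrix F *
    ((s⁻¹ : Matrix.SpecialLinearGroup (Fin n) F) : Matrix (Fin n) (Fin n) F)ᵀ *
      (Fin.revPerm (n := n)).permMatrix F : Matrix (Fin n) (Fin n) F) i j = _
  rw [Equiv.Perm.permMatrix, PEquiv.toMatrix_toPEquiv_mul, PEquiv.mul_toMatrix_toPEquiv]
  simp

omit [Fact p.Prime] [CharP F p] in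
theorem graphSL_map_up : (upU n F).map (graphSL n F).toMonoidHom = upU n F := by
  refine Subgroup.eq_of_le_of_card_ge ?_ (le_of_eq ?_)
  · rintro y ⟨x, hx, rfl⟩
    rw [mem_upU]
    intro i j hij
    rw [MulEquiv.coe_toMonoidHom, graphSL_apply,
      mem_upU.1 ((upU n F).inv_mem hx) _ _ (Fin.rev_le_rev.2 hij)]
    simp [eq_comm]
  · rw [Subgroup.card_map_of_injective]
    exact (graphSL n F).injective

omit [Fact p.Prime] [CharP F p] in
theorem graphSL_map_lo : (loU n F).map (graphSL n F).toMonoidHom = loU n F := by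
  refine Subgroup.eq_of_le_of_card_ge ?_ (le_of_eq ?_)
  · rintro y ⟨x, hx, rfl⟩
    rw [mem_loU]
    intro i j hij
    rw [MulEquiv.coe_toMonoidHom, graphSL_apply,
      mem_loU.1 ((loU n F).inv_mem hx) _ _ (Fin.rev_le_rev.2 hij)]
    simp [eq_comm]
  · rw [Subgroup.card_map_of_injective]
    exact (graphSL n F).injective

omit [Fact p.Prime] [CharP F p] in
theorem graphSL_xe {i j : Fin n} (h : i ≠ j) (t : F) :
    graphSL n F (xe i j t) = xe j.rev i.rev (-t) := by
  have h' : j.rev ≠ i.rev := fun e => h (Fin.rev_inj.1 e).symm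
  apply Subtype.ext
  ext r s
  rw [graphSL_apply, ← xe_neg, xe_coe h, xe_coe h']
  simp only [Matrix.add_apply, Matrix.one_apply, Matrix.single_apply, Fin.rev_inj]
  congr 1
  · simp [eq_comm]
  · by_cases hh : j.rev = r ∧ i.rev = s
    · obtain ⟨rfl, rfl⟩ := hh; simp
    · rw [if_neg hh, if_neg]
      rintro ⟨rfl, rfl⟩
      simp at hh

theorem invTransSL_map_up : (upU n F).map (invTransSL (ι := Fin n) (F := F)).toMonoidHom = loU n F := by
  refine Subgroup.eq_of_le_of_card_ge ?_ (le_of_eq ?_)
  · rintro y ⟨x, hx, rfl⟩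
    rw [mem_loU]
    intro i j hij
    rw [MulEquiv.coe_toMonoidHom, invTransSL_coe, Matrix.transpose_apply,
      mem_upU.1 ((upU n F).inv_mem hx) _ _ hij]
    simp [eq_comm]
  · rw [Subgroup.card_map_of_injective, card_loU]
    exact (invTransSL (ι := Fin n) (F := F)).injective

theorem map_toPSLAut (V : Subgroup (Matrix.SpecialLinearGroup (Fin n) F))
    (α : MulAut (Matrix.SpecialLinearGroup (Fin n) F)) :
    (V.map mkP).map (toPSLAut α).toMonoidHom = (V.map α.toMonoidHom).map mkP := by
  rw [Subgroup.map_map, Subgroup.map_map]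
  rfl

include p in
theorem mkP_xe_inj {i j : Fin n} (h : i ≠ j) {s t : F}
    (e : mkP (xe i j s) = mkP (xe i j t)) : s = t :=
  (xe_inj h).1 (eq_of_mk_eq p (xe_pow_char p i j s) (xe_pow_char p i j t) e)

include p in
theorem mkP_xe_eq {i j k l : Fin n} (h : i ≠ j) {s t : F} (hs : s ≠ 0)
    (e : mkP (xe i j s) = mkP (xe k l t)) : i = k ∧ j = l := by
  have e' := eq_of_mk_eq p (xe_pow_char p i j s) (xe_pow_char p k l t) e
  by_cases hkl : k ≠ l
  · by_contra hh
    have := congrArg (fun g : Matrix.SpecialLinearGroup (Fin n) F => (g : Matrix (Fin n) (Fin n) F) i j) e'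
    simp [xe_coe h, xe_coe hkl, Matrix.one_apply_ne h,
      Matrix.single_apply_of_ne (h := fun x => hh ⟨x.1.symm, x.2.symm⟩), hs] at this
  · rw [xe, xe, dif_neg hkl, dif_pos h, ← xe_eq_transvection h, ← xe_zero i j, xe_inj h] at e'
    exact absurd e' hs

end Setup

section Roots

variable {m : ℕ} (p : ℕ) [Fact p.Prime] [CharP F p]

/-- Simple positive root element. -/
abbrev xs (k : Fin m) (t : F) : Matrix.SpecialLinearGroup (Fin (m + 1)) F := xe k.castSucc k.succ t

/-- Simple negative root element. -/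
abbrev ys (k : Fin m) (t : F) : Matrix.SpecialLinearGroup (Fin (m + 1)) F := xe k.succ k.castSucc t

theorem cs_ne (k : Fin m) : k.castSucc ≠ k.succ := by simp [Fin.ext_iff]

theorem xs_mem (k : Fin m) (t : F) : xs k t ∈ upU (m + 1) F := xe_mem_uni (by simp [upB]) t

theorem graphSL_xs (k : Fin m) (t : F) : graphSL (m + 1) F (xs k t) = xs k.rev (-t) := by
  rw [xs, graphSL_xe (cs_ne k), Fin.rev_castSucc, Fin.rev_succ]

omit [Fintype F] in
theorem xs_mul_apply {a b : Fin m} (hab : a ≠ b) (S T : F) :
    ((xs a S : Matrix (Fin (m + 1)) (Fin (m + 1)) F) *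
        (xs b T : Matrix (Fin (m + 1)) (Fin (m + 1)) F)) a.castSucc a.succ = S ∧
      ((xs a S : Matrix (Fin (m + 1)) (Fin (m + 1)) F) *
        (xs b T : Matrix (Fin (m + 1)) (Fin (m + 1)) F)) b.castSucc b.succ = T := by
  have h1 : a.succ ≠ b.succ := fun h => hab (Fin.succ_injective _ h)
  have h2 : a.castSucc ≠ b.castSucc := fun h => hab (Fin.castSucc_injective _ h)
  simp only [xe_coe (cs_ne _), Matrix.mul_add, Matrix.add_mul, Matrix.one_mul, Matrix.mul_one,
    Matrix.add_apply]
  constructor
  · rw [Matrix.one_apply_ne (cs_ne a), Matrix.single_apply_same,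
      Matrix.single_apply_of_ne (h := fun e => h1 e.2.symm),
      Matrix.mul_single_apply_of_ne (hbj := h1)]
    simp
  · rw [Matrix.one_apply_ne (cs_ne b), Matrix.single_apply_same,
      Matrix.single_apply_of_ne (h := fun e => h2 e.1),
      Matrix.single_mul_apply_of_ne (h := h2.symm)]
    simp

omit [Fintype F] in
theorem xs_apply_eq {a c : Fin m} {U T : F}
    (h : (xs c U : Matrix (Fin (m + 1)) (Fin (m + 1)) F) a.castSucc a.succ = T) (hT : T ≠ 0) :
    a = c := by
  by_contra hne
  rw [xe_coe (cs_ne c), Matrix.add_apply, Matrix.one_apply_ne (cs_ne a),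
    Matrix.single_apply_of_ne (h := fun e => hne (Fin.castSucc_injective _ e.1).symm), zero_add] at h
  exact hT h.symm

include p in
/-- An automorphism fixing both unitriangular images permutes the simple root groups. -/
theorem exists_perm_simple (β : MulAut (Matrix.ProjectiveSpecialLinearGroup (Fin (m + 1)) F))
    (hU : (upP (m + 1) F).map β.toMonoidHom = upP (m + 1) F)
    (hL : (loP (m + 1) F).map β.toMonoidHom = loP (m + 1) F) :
    ∃ (e : Equiv.Perm (Fin m)) (f : Fin m → (F ≃+ F)),
      ∀ k t, β (mkP (xs k t)) = mkP (xs (e k) (f k t)) := by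
  have h0 : ∀ k t, ∃ j s, β (mkP (xs k t)) = mkP (xs j s) := by
    intro k t
    by_cases ht : t = 0
    · exact ⟨k, 0, by simp [ht, xs]⟩
    have hlarge : HasLargeInterP (mkP (xs k t)) :=
      (hasLargeInterP_mk_iff p).2 (hasLargeInter_xe (by simp) t)
    have hmem : β (mkP (xs k t)) ∈ upP (m + 1) F := by
      rw [← hU]
      exact Subgroup.mem_map_of_mem _ (Subgroup.mem_map_of_mem _ (xs_mem k t))
    obtain ⟨u, hu, hue⟩ := hmem
    have hne : u ≠ 1 := by
      rintro rfl
      rw [map_one, eq_comm, EmbeddingLike.map_eq_one_iff, ← map_one (mkP (n := m + 1) (F := F)),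
        ← xe_zero (F := F) k.castSucc k.succ] at hue
      exact ht (mkP_xe_inj p (cs_ne k) hue)
    obtain ⟨a, b, hab, s, rfl⟩ := exists_simple_of_hasLargeInter hu hne
      ((hasLargeInterP_mk_iff p).1 (hue ▸ hasLargeInterP_map hL hlarge))
    refine ⟨⟨a.val, by omega⟩, s, ?_⟩
    rw [← hue]
    simp only [xs]
    congr <;> ext <;> simp <;> omega
  choose j s hjs using h0
  have hne : ∀ k t, t ≠ 0 → s k t ≠ 0 := by
    intro k t ht hs
    have := hjs k t
    rw [hs, xs, xs, xe_zero, map_one, EmbeddingLike.map_eq_one_iff,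
      ← map_one (mkP (n := m + 1) (F := F)), ← xe_zero (F := F) k.castSucc k.succ] at this
    exact ht (mkP_xe_inj p (cs_ne k) this)
  have hj : ∀ k t, t ≠ 0 → j k t = j k 1 := by
    intro k t ht
    by_contra hjne
    have hmul : mkP (xs (j k (1 + t)) (s k (1 + t))) =
        mkP (xs (j k 1) (s k 1) * xs (j k t) (s k t)) := by
      rw [map_mul, ← hjs, ← hjs, ← hjs, ← map_mul, ← map_mul, xs, xe_add]
    have hmem := (upU (m + 1) F).mul_mem (xs_mem (j k 1) (s k 1)) (xs_mem (j k t) (s k t))
    have e := mk_injOn_up p (xs_mem _ _) hmem hmul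
    have hs1 := hne k 1 one_ne_zero
    have hst := hne k t ht
    have hne' : j k 1 ≠ j k t := fun h => hjne h.symm
    obtain ⟨e1, e2⟩ := xs_mul_apply hne' (s k 1) (s k t)
    rw [← Matrix.SpecialLinearGroup.coe_mul, ← e] at e1 e2
    refine hne' ?_
    rw [xs_apply_eq e1 hs1, xs_apply_eq e2 hst]
  let e : Fin m → Fin m := fun k => j k 1
  have hjs' : ∀ k t, β (mkP (xs k t)) = mkP (xs (e k) (s k t)) := by
    intro k t
    by_cases ht : t = 0
    · subst ht
      have := hjs k 0
      rw [xs, xe_zero, map_one, map_one, eq_comm, ← map_one (mkP (n := m + 1) (F := F)),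
        ← xe_zero (F := F) (j k 0).castSucc (j k 0).succ] at this
      rw [mkP_xe_inj p (cs_ne _) this]
      simp [xs]
    · rw [hjs]
      simp only [e, hj k t ht]
  have hinj : ∀ k, Function.Injective (s k) := by
    intro k t t' h
    refine mkP_xe_inj p (cs_ne k) (β.injective ?_)
    change β (mkP (xs k t)) = β (mkP (xs k t'))
    rw [hjs', hjs', h]
  have hadd : ∀ k a b, s k (a + b) = s k a + s k b := by
    intro k a b
    refine mkP_xe_inj p (cs_ne (e k)) ?_
    change mkP (xs (e k) (s k (a + b))) = mkP (xs (e k) (s k a + s k b))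
    rw [← hjs', xs, xe_add, map_mul, map_mul, hjs', hjs', ← map_mul, ← xe_add]
  have hebij : Function.Bijective e := by
    refine Finite.injective_iff_bijective.1 fun k l hkl => ?_
    obtain ⟨t, ht⟩ := (Finite.injective_iff_surjective.1 (hinj k)) (s l 1)
    have he : mkP (xs k t) = mkP (xs l 1) := by
      apply β.injective
      rw [hjs', hjs', ht, hkl]
    exact ((Fin.castSucc_injective _) (mkP_xe_eq p (cs_ne l) one_ne_zero he.symm).1).symm
  exact ⟨Equiv.ofBijective e hebij, fun k => AddEquiv.ofBijective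
    (AddMonoidHom.mk' (s k) (hadd k)) ⟨hinj k, Finite.injective_iff_surjective.1 (hinj k)⟩,
    fun k t => hjs' k t⟩

include p in
theorem exists_perm_both (β : MulAut (Matrix.ProjectiveSpecialLinearGroup (Fin (m + 1)) F))
    (hU : (upP (m + 1) F).map β.toMonoidHom = upP (m + 1) F)
    (hL : (loP (m + 1) F).map β.toMonoidHom = loP (m + 1) F) :
    ∃ (e : Equiv.Perm (Fin m)) (f g : Fin m → (F ≃+ F)),
      (∀ k t, β (mkP (xs k t)) = mkP (xs (e k) (f k t))) ∧
      (∀ k t, β (mkP (ys k t)) = mkP (ys (e k) (g k t))) ∧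
      ∀ k l : Fin m, k.val + 1 = l.val → (e k).val + 1 = (e l).val ∨ (e l).val + 1 = (e k).val := by
  obtain ⟨e, f, hf⟩ := exists_perm_simple p β hU hL
  set ι' := toPSLAut (invTransSL (ι := Fin (m + 1)) (F := F)) with hι'
  have hιι : ι' * ι' = 1 := by rw [hι', ← map_mul, invTransSL_mul_self, map_one]
  have hup : (upP (m + 1) F).map ι'.toMonoidHom = loP (m + 1) F := by
    rw [hι', map_toPSLAut, invTransSL_map_up]
  have hlo : (loP (m + 1) F).map ι'.toMonoidHom = upP (m + 1) F := by
    rw [← hup, Subgroup.map_map]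
    change (upP (m + 1) F).map (ι' * ι').toMonoidHom = _
    rw [hιι]; exact Subgroup.map_id _
  obtain ⟨e', g, hg⟩ := exists_perm_simple p (ι' * β * ι')
    (by
      change (upP (m + 1) F).map ((ι'.toMonoidHom.comp β.toMonoidHom).comp ι'.toMonoidHom) = _
      rw [← Subgroup.map_map, hup, ← Subgroup.map_map, hL, hlo])
    (by
      change (loP (m + 1) F).map ((ι'.toMonoidHom.comp β.toMonoidHom).comp ι'.toMonoidHom) = _
      rw [← Subgroup.map_map, hlo, ← Subgroup.map_map, hU, hup])
  have hιy : ∀ k t, ι' (mkP (ys k t)) = mkP (xs k (-t : F)) := by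
    intro k t
    change mkP (invTransSL (ys k t)) = _
    rw [ys, invTransSL_xe (cs_ne k).symm]
  have hιx : ∀ k t, ι' (mkP (xs k t)) = mkP (ys k (-t : F)) := by
    intro k t
    change mkP (invTransSL (xs k t)) = _
    rw [xs, invTransSL_xe (cs_ne k)]
  have hy : ∀ k t, β (mkP (ys k t)) = mkP (ys (e' k) (g k t)) := by
    intro k t
    have h := congrArg ι' (hg k (-t))
    have hh : ∀ x, ι' (ι' x) = x := fun x => congrArg (fun φ : MulAut _ => φ x) hιι
    rw [MulAut.mul_apply, MulAut.mul_apply, hh, ← hιy, hh] at h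
    rw [h, hιx, map_neg, neg_neg]
  have hee : ∀ k, e' k = e k := by
    intro k
    by_contra hne
    obtain ⟨l, hl⟩ : ∃ l, e l = e' k := e.surjective _
    have hlk : l ≠ k := fun h => hne (h ▸ hl).symm
    have hc : Commute (mkP (xs l (1 : F))) (mkP (ys k (1 : F))) :=
      (xe_commute (by simpa using hlk) (by simpa using hlk.symm) _ _).map _
    have hc' := hc.map β
    rw [hf, hy, hl] at hc'
    have := commute_of_mk_commute p (xe_pow_char p _ _ _) hc'
    exact not_commute_xe_opposite (cs_ne (e' k)) (by simp) (by simp) this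
  refine ⟨e, f, g, hf, fun k t => by rw [hy, hee], fun k l hkl => ?_⟩
  have hks : k.succ = l.castSucc := by ext; simp [hkl]
  have hnc : ¬ Commute (mkP (xs k (1 : F))) (mkP (xs l (1 : F))) := by
    intro hc
    have hc' := commute_of_mk_commute p (xe_pow_char p _ _ _) hc
    simp only [xs, ← hks] at hc'
    refine not_commute_xe_chain (cs_ne k) (hks ▸ cs_ne l) ?_ one_ne_zero one_ne_zero hc'
    simp [Fin.ext_iff]; omega
  by_contra hcon
  push Not at hcon
  apply hnc
  have hc : Commute (β (mkP (xs k (1 : F)))) (β (mkP (xs l (1 : F)))) := by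
    rw [hf, hf]
    refine (xe_commute ?_ ?_ _ _).map _
    · simp [Fin.ext_iff]; omega
    · simp [Fin.ext_iff]; omega
  exact Commute.of_map β.injective hc

/-- An injective map of a path to itself respecting adjacency is the identity or the reversal. -/
theorem perm_path {m : ℕ} (e : Equiv.Perm (Fin m))
    (h : ∀ k l : Fin m, k.val + 1 = l.val → (e k).val + 1 = (e l).val ∨ (e l).val + 1 = (e k).val) :
    e = 1 ∨ e = Fin.revPerm := by
  rcases m with _ | m
  · exact Or.inl (Equiv.ext fun k => k.elim0)
  -- it is enough to treat the case where the first vertex is fixed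
  have main : ∀ e : Equiv.Perm (Fin (m + 1)),
      (∀ k l : Fin (m + 1), k.val + 1 = l.val → (e k).val + 1 = (e l).val ∨ (e l).val + 1 = (e k).val) →
      e 0 = 0 → e = 1 := by
    intro e h h0
    have : ∀ k : ℕ, ∀ hk : k < m + 1, (e ⟨k, hk⟩).val = k := by
      intro k
      induction k using Nat.strong_induction_on with
      | _ k ih =>
        intro hk
        rcases k with _ | k
        · simpa using congrArg Fin.val h0
        have h1 := h ⟨k, by omega⟩ ⟨k + 1, hk⟩ rfl
        have h2 := ih k (by omega) (by omega)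
        rcases h1 with h1 | h1
        · omega
        · rcases k with _ | k
          · omega
          have h3 := ih k (by omega) (by omega)
          have : e ⟨k + 1 + 1, hk⟩ = e ⟨k, by omega⟩ := Fin.ext (by omega)
          exfalso
          have := congrArg Fin.val (e.injective this)
          simp at this
          omega
    exact Equiv.ext fun k => Fin.ext (this k.val k.2)
  by_cases h0 : e 0 = 0
  · exact Or.inl (main e h h0)
  refine Or.inr ?_
  have hlast : e 0 = Fin.last m := by
    by_contra hl
    -- both neighbours of an interior image would be images of the unique neighbour of `0`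
    have hv0 : (e 0).val ≠ 0 := fun hh => h0 (Fin.ext hh)
    have hvl : (e 0).val < m := by
      rcases Nat.lt_or_ge (e 0).val m with h' | h'
      · exact h'
      · exact absurd (Fin.ext (by have := (e 0).2; simp; omega)) hl
    -- preimage of either neighbour
    have key : ∀ w : Fin (m + 1), ((e 0).val + 1 = w.val ∨ w.val + 1 = (e 0).val) →
        (e.symm w).val = 1 := by
      intro w hw
      -- adjacency is also reflected, as there are as many edges
      have hinj : ∀ a b : Fin (m + 1), (e a).val + 1 = (e b).val → a.val + 1 = b.val ∨ b.val + 1 = a.val := by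
        let edge : Fin m → Fin m := fun k =>
          ⟨min (e k.castSucc).val (e k.succ).val, by
            have := h k.castSucc k.succ (by simp)
            have := (e k.castSucc).2
            have := (e k.succ).2
            omega⟩
        have hedge : Function.Injective edge := by
          intro a b hab
          simp only [edge, Fin.mk.injEq] at hab
          have ha := h a.castSucc a.succ (by simp)
          have hb := h b.castSucc b.succ (by simp)
          have hset : (e a.castSucc = e b.castSucc ∧ e a.succ = e b.succ) ∨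
              (e a.castSucc = e b.succ ∧ e a.succ = e b.castSucc) := by
            simp only [Fin.ext_iff]; omega
          rcases hset with ⟨x, -⟩ | ⟨x, y⟩
          · exact Fin.castSucc_injective _ (e.injective x)
          · have x' := congrArg Fin.val (e.injective x)
            have y' := congrArg Fin.val (e.injective y)
            simp at x' y'
            omega
        intro a b hab
        obtain ⟨k, hk⟩ := (Finite.injective_iff_surjective.1 hedge) ⟨(e a).val, by have := (e b).2; omega⟩
        simp only [edge, Fin.mk.injEq] at hk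
        have hk' := h k.castSucc k.succ (by simp)
        have : (e a = e k.castSucc ∧ e b = e k.succ) ∨ (e a = e k.succ ∧ e b = e k.castSucc) := by
          simp only [Fin.ext_iff]; omega
        rcases this with ⟨x, y⟩ | ⟨x, y⟩ <;>
          [left; right] <;> rw [e.injective x, e.injective y] <;> simp
      rcases hw with hw | hw
      · have := hinj 0 (e.symm w) (by simpa using hw)
        simp at this; omega
      · have := hinj (e.symm w) 0 (by simpa using hw)
        simp at this; omega
    have e1 := key ⟨(e 0).val + 1, by omega⟩ (Or.inl rfl)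
    have e2 := key ⟨(e 0).val - 1, by omega⟩ (Or.inr (by simp; omega))
    have := congrArg Fin.val (e.symm.injective (Fin.ext (e1.trans e2.symm)))
    simp at this
    omega
  have := main (Fin.revPerm * e) (fun k l hkl => by
    have := h k l hkl
    simp [Fin.val_rev]
    omega) (by simp [hlast])
  have h2 := congrArg (Fin.revPerm * ·) this
  rwa [← mul_assoc, show (Fin.revPerm (n := m + 1)) * Fin.revPerm = 1 by ext; simp, one_mul, mul_one] at h2

end Roots

end CfsgLib.AutPSL
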