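import Cfsg.Agent.AutPSL.Main

/-!
# The theorem on automorphisms of `PSL_n(F)`
-/

set_option autoImplicit false

namespace CfsgLib.AutPSL

open Matrix
open scoped commutatorElement

variable {F : Type*} [Field F] [Fintype F] {m : ℕ} (p : ℕ) [Fact p.Prime] [CharP F p]

/-- The diagonal matrix with partial products of `c`. -/
noncomputable def normDiag (c : Fin m → Fˣ) : GL (Fin (m + 1)) F :=
  Matrix.GeneralLinearGroup.mkOfDetNeZero (Matrix.diagonal fun i => ((Fin.partialProd c i : Fˣ) : F))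
    (by rw [Matrix.det_diagonal]; exact Finset.prod_ne_zero_iff.2 fun i _ => Units.ne_zero _)

omit [Fintype F] in
theorem conjSL_normDiag_xe (c : Fin m → Fˣ) {i j : Fin (m + 1)} (h : i ≠ j) (t : F) :
    conjSL (normDiag c) (xe i j t) =
      xe i j ((Fin.partialProd c i : Fˣ) * t * ((Fin.partialProd c j : Fˣ) : F)⁻¹) := by
  apply Subtype.ext
  rw [conjSL_coe, xe_coe h, xe_coe h, Units.mul_inv_eq_iff_eq_mul]
  change Matrix.diagonal _ * _ = _ * Matrix.diagonal _
  rw [Matrix.mul_add, Matrix.add_mul, Matrix.mul_one, Matrix.one_mul]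
  congr 1
  ext r s
  simp only [Matrix.diagonal_mul, Matrix.mul_diagonal, Matrix.single_apply]
  by_cases hh : i = r ∧ j = s
  · obtain ⟨rfl, rfl⟩ := hh
    simp
  · simp [hh]

theorem normDiag_map_uni (c : Fin m → Fˣ) {b : Fin (m + 1) → ℤ} (hb : Function.Injective b) :
    (uni (F := F) b).map (conjSL (normDiag c)).toMonoidHom = uni b := by
  refine Subgroup.eq_of_le_of_card_ge ?_ (le_of_eq ?_)
  · rintro y ⟨x, hx, rfl⟩
    refine conjSL_mem_uni hb ?_ hx
    exact Matrix.blockTriangular_diagonal _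
  · exact (Subgroup.card_map_of_injective (MulEquiv.injective _)).symm

include p in
theorem eq_toPSLAut_of_simple (hm : 1 ≤ m)
    (β : MulAut (Matrix.ProjectiveSpecialLinearGroup (Fin (m + 1)) F))
    (α : MulAut (Matrix.SpecialLinearGroup (Fin (m + 1)) F))
    (hx : ∀ k t, β (mkP (xs k t)) = mkP (α (xs k t)))
    (hy : ∀ k t, β (mkP (ys k t)) = mkP (α (ys k t))) : β = toPSLAut α := by
  have h : ((mkP (n := m + 1) (F := F)).comp α.toMonoidHom) = β.toMonoidHom.comp mkP := by
    refine MonoidHom.eq_of_eqOn_dense (s := (Set.univ : Set (Matrix.SpecialLinearGroup (Fin (m + 1)) F)))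
      Subgroup.closure_univ fun g _ => ?_
    have : MonoidHom.eqLocus ((mkP (n := m + 1) (F := F)).comp α.toMonoidHom)
        (β.toMonoidHom.comp mkP) = ⊤ :=
      eq_top_of_simple_mem hm _ (fun k t => (hx k t).symm) (fun k t => (hy k t).symm)
    exact this.ge (Subgroup.mem_top g)
  ext1 x
  induction x using QuotientGroup.induction_on with
  | H s => exact (congrArg (fun φ : Matrix.SpecialLinearGroup (Fin (m + 1)) F →* _ => φ s) h).symm

/-- `conj(w(a))` maps the upper root group to the lower one exactly for `A B = -1`. -/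
theorem fin_two_weyl {A B T S : F} (hA : A ≠ 0) (hT : T ≠ 0)
    (h : (xe (0 : Fin 2) 1 A * xe 1 0 B * xe 0 1 A) * xe 0 1 T =
      xe 1 0 S * (xe (0 : Fin 2) 1 A * xe 1 0 B * xe 0 1 A)) :
    A * B = -1 ∧ S = -T / A ^ 2 := by
  have e1 := congrArg (fun g : Matrix.SpecialLinearGroup (Fin 2) F => (g : Matrix (Fin 2) (Fin 2) F) 0 1) h
  have e2 := congrArg (fun g : Matrix.SpecialLinearGroup (Fin 2) F => (g : Matrix (Fin 2) (Fin 2) F) 1 1) h
  simp [xe_coe (show (0 : Fin 2) ≠ 1 by decide), xe_coe (show (1 : Fin 2) ≠ 0 by decide),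
    Matrix.mul_apply, Fin.sum_univ_two, Matrix.single_apply, Matrix.one_apply] at e1 e2
  have hAB : A * B = -1 := by
    rcases e1 with h | h
    · linear_combination h
    · exact absurd h hT
  refine ⟨hAB, ?_⟩
  rw [eq_div_iff (pow_ne_zero 2 hA)]
  have e3 : B * T = S * A * (2 + A * B) := by linear_combination e2
  rw [hAB] at e3
  linear_combination (-A) * e3 + T * hAB

/-- The Weyl element moves the positive root element to the negative one. -/
theorem fin_two_weyl_eq {a : F} (ha : a ≠ 0) (t : F) :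
    (xe (0 : Fin 2) 1 a * xe 1 0 (-a⁻¹) * xe 0 1 a) * xe 0 1 t =
      xe 1 0 (-t / a ^ 2) * (xe (0 : Fin 2) 1 a * xe 1 0 (-a⁻¹) * xe 0 1 a) := by
  apply Subtype.ext
  ext i j
  fin_cases i <;> fin_cases j <;>
    simp [xe_coe (show (0 : Fin 2) ≠ 1 by decide), xe_coe (show (1 : Fin 2) ≠ 0 by decide),
      Matrix.mul_apply, Fin.sum_univ_two, Matrix.single_apply, Matrix.one_apply] <;> (try field_simp) <;> (try ring_nf) <;> (try simp)

omit [Fintype F] in
theorem mul_of_mul_sq (f : F →+ F) (h : ∀ a r : F, f (a ^ 2 * r) = f (a ^ 2) * f r)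
    (p : ℕ) [Fact p.Prime] [CharP F p] [Finite F] (x r : F) : f (x * r) = f x * f r := by
  by_cases h2 : ringChar F = 2
  · have : IsSquare x := FiniteField.isSquare_of_char_two h2 x
    obtain ⟨a, rfl⟩ := this
    rw [← pow_two, h]
  · have h2' : (2 : F) ≠ 0 := Ring.two_ne_zero h2
    have e : x = ((x + 1) / 2) ^ 2 - ((x - 1) / 2) ^ 2 := by field_simp; ring
    rw [e, sub_mul, map_sub, map_sub, h, h, sub_mul]

include p in
/-- The case `n = 2` after normalisation. -/
theorem exists_field_two (β : MulAut (Matrix.ProjectiveSpecialLinearGroup (Fin 2) F)) (f g : F ≃+ F)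
    (hf1 : f 1 = 1)
    (hx : ∀ t, β (mkP (xe 0 1 t)) = mkP (xe 0 1 (f t)))
    (hy : ∀ t, β (mkP (xe 1 0 t)) = mkP (xe 1 0 (g t))) :
    ∃ σ : F ≃+* F, ∀ t, f t = σ t ∧ g t = σ t := by
  have hf0 : ∀ {t}, t ≠ 0 → f t ≠ 0 := fun ht => by simpa using ht
  have rel : ∀ a t : F, a ≠ 0 → t ≠ 0 →
      f a * g (-a⁻¹) = -1 ∧ g (-t / a ^ 2) = -f t / f a ^ 2 := by
    intro a t ha ht
    refine fin_two_weyl (hf0 ha) (hf0 ht) ?_
    have e := congrArg (fun x => β (mkP x)) (fin_two_weyl_eq ha t)
    simp only [map_mul, hx, hy] at e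
    simp only [← map_mul] at e
    set W := xe (0 : Fin 2) 1 (f a) * xe 1 0 (g (-a⁻¹)) * xe 0 1 (f a)
    have : MulAut.conj W (xe 0 1 (f t)) = xe 1 0 (g (-t / a ^ 2)) := by
      refine eq_of_mk_eq p (k := 1) (by rw [← map_pow, xe_pow_char, map_one]) (xe_pow_char p _ _ _) ?_
      change mkP (W * xe 0 1 (f t) * W⁻¹) = _
      rw [map_mul, e, map_mul, map_inv, mul_inv_cancel_right]
      rfl
    rw [MulAut.conj_apply, mul_inv_eq_iff_eq_mul] at this
    exact this
  have hg : ∀ b, b ≠ 0 → g b = (f b⁻¹)⁻¹ := by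
    intro b hb
    have := (rel (-b⁻¹) 1 (by simpa using hb) one_ne_zero).1
    rw [inv_neg, inv_inv, neg_neg, map_neg, neg_mul] at this
    exact eq_inv_of_mul_eq_one_right (neg_injective this)
  have key : ∀ a t : F, a ≠ 0 → t ≠ 0 → f (a ^ 2 / t) = f a ^ 2 / f t := by
    intro a t ha ht
    have := (rel a t ha ht).2
    rw [hg _ (div_ne_zero (neg_ne_zero.2 ht) (pow_ne_zero 2 ha)), inv_div, div_neg, map_neg,
      inv_neg, neg_div] at this
    rw [← _root_.inv_inj, inv_div]
    exact neg_injective this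
  have hsq : ∀ a : F, a ≠ 0 → f (a ^ 2) = f a ^ 2 := by
    intro a ha
    simpa [hf1] using key a 1 ha one_ne_zero
  have hinv : ∀ t : F, t ≠ 0 → f t⁻¹ = (f t)⁻¹ := by
    intro t ht
    simpa [hf1] using key 1 t one_ne_zero ht
  have hmul : ∀ a r : F, f (a ^ 2 * r) = f (a ^ 2) * f r := by
    intro a r
    by_cases ha : a = 0
    · simp [ha]
    by_cases hr : r = 0
    · simp [hr]
    have := key a r⁻¹ ha (inv_ne_zero hr)
    rw [div_inv_eq_mul, hinv r hr, div_inv_eq_mul, ← hsq a ha] at this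
    exact this
  let σ : F ≃+* F := { f with map_mul' := mul_of_mul_sq f.toAddMonoidHom hmul p }
  refine ⟨σ, fun t => ⟨rfl, ?_⟩⟩
  by_cases ht : t = 0
  · simp [ht]
  rw [hg t ht, hinv t ht, inv_inv]
  rfl

include p in
/-- The case `n ≥ 3` after normalisation. -/
theorem exists_field_chain (hm : 2 ≤ m)
    (β : MulAut (Matrix.ProjectiveSpecialLinearGroup (Fin (m + 1)) F)) (f g : Fin m → (F ≃+ F))
    (hf1 : ∀ k, f k 1 = 1)
    (hx : ∀ k t, β (mkP (xs k t)) = mkP (xs k (f k t)))
    (hy : ∀ k t, β (mkP (ys k t)) = mkP (ys k (g k t))) :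
    ∃ σ : F ≃+* F, ∀ k t, f k t = σ t ∧ g k t = σ t := by
  -- what one pair of adjacent nodes gives
  have pair : ∀ k l : Fin m, k.val + 1 = l.val →
      (∀ s t, f k (s * t) = f k s * f k t) ∧ (∀ t, f l t = f k t) ∧
        (∀ t, g l t = f k t) ∧ ∀ t, g k t = f k t := by
    intro k l hkl
    have hab : k.castSucc ≠ k.succ := cs_ne k
    have hbc : k.succ ≠ l.succ := by simp [Fin.ext_iff]; omega
    have hac : k.castSucc ≠ l.succ := by simp [Fin.ext_iff]; omega
    have hl : l.castSucc = k.succ := by ext; simp [hkl]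
    have hxl : ∀ t, β (mkP (xe k.succ l.succ t)) = mkP (xe k.succ l.succ (f l t)) := by
      intro t; simpa [xs, hl] using hx l t
    have hyl : ∀ t, β (mkP (xe l.succ k.succ t)) = mkP (xe l.succ k.succ (g l t)) := by
      intro t; simpa [ys, hl] using hy l t
    have hac' : ∀ s t, β (mkP (xe k.castSucc l.succ (s * t))) =
        mkP (xe k.castSucc l.succ (f k s * f l t)) := by
      intro s t
      rw [← xe_commutator hab hbc hac, map_commutatorElement, map_commutatorElement, hx k, hxl,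
        ← map_commutatorElement, xe_commutator hab hbc hac]
    have hcons : ∀ s t s' t' : F, s * t = s' * t' → f k s * f l t = f k s' * f l t' := by
      intro s t s' t' h
      refine mkP_xe_inj p hac ?_
      rw [← hac', ← hac', h]
    have hfl : ∀ t, f l t = f k t := fun t => by
      simpa [hf1] using hcons 1 t t 1 (by ring)
    have hmul : ∀ s t, f k (s * t) = f k s * f k t := fun s t => by
      simpa [hf1, hfl] using hcons (s * t) 1 s t (by ring)
    have hacf : ∀ t, β (mkP (xe k.castSucc l.succ t)) = mkP (xe k.castSucc l.succ (f k t)) := by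
      intro t
      simpa [hf1] using hac' t 1
    refine ⟨hmul, hfl, fun t => ?_, fun t => ?_⟩
    · have h := congrArg β (congrArg mkP (xe_commutator hac hbc.symm hab (1 : F) t))
      rw [map_commutatorElement, map_commutatorElement, hacf, hyl, one_mul, hx k,
        ← map_commutatorElement, xe_commutator hac hbc.symm hab, hf1, one_mul] at h
      exact mkP_xe_inj p hab h
    · have h := congrArg β (congrArg mkP (xe_commutator hab.symm hac hbc t (1 : F)))
      rw [map_commutatorElement, map_commutatorElement, hacf, hy k, mul_one, hxl,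
        ← map_commutatorElement, xe_commutator hab.symm hac hbc, hf1, mul_one, hfl] at h
      exact mkP_xe_inj p hbc h
  let k₀ : Fin m := ⟨0, by omega⟩
  let σ : F ≃+* F :=
    { f k₀ with map_mul' := (pair k₀ ⟨1, by omega⟩ rfl).1 }
  have hall : ∀ k : ℕ, ∀ hk : k < m, ∀ t, f ⟨k, hk⟩ t = f k₀ t := by
    intro k
    induction k with
    | zero => intro hk t; rfl
    | succ k ih =>
      intro hk t
      rw [(pair ⟨k, by omega⟩ ⟨k + 1, hk⟩ rfl).2.1, ih]
  refine ⟨σ, fun k t => ⟨hall k.val k.2 t, ?_⟩⟩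
  rcases k with ⟨_ | k, hk⟩
  · exact ((pair ⟨0, hk⟩ ⟨1, by omega⟩ rfl).2.2.2 t).trans (hall 0 hk t)
  · exact ((pair ⟨k, by omega⟩ ⟨k + 1, hk⟩ rfl).2.2.1 t).trans (hall k _ t)

/-- The shape of automorphisms of `PSL_n(F)`. -/
def HasForm {n : ℕ} (β : MulAut (Matrix.ProjectiveSpecialLinearGroup (Fin n) F)) : Prop :=
  ∃ (g : GL (Fin n) F) (σ : F ≃+* F) (γ : MulAut (Matrix.SpecialLinearGroup (Fin n) F)),
    (γ = 1 ∨ γ = invTransSL) ∧ β = toPSLAut (conjSL g * fieldSL σ * γ)

omit [Fintype F] in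
theorem hasForm_fieldSL {n : ℕ} (σ : F ≃+* F) : HasForm (n := n) (toPSLAut (fieldSL σ)) :=
  ⟨1, σ, 1, Or.inl rfl, by rw [map_one, one_mul, mul_one]⟩

omit [Fintype F] in
theorem HasForm.conj_mul {n : ℕ} {β : MulAut (Matrix.ProjectiveSpecialLinearGroup (Fin n) F)}
    (h : HasForm β) (g : GL (Fin n) F) : HasForm (toPSLAut (conjSL g) * β) := by
  obtain ⟨g', σ, γ, hγ, rfl⟩ := h
  exact ⟨g * g', σ, γ, hγ, by simp only [map_mul, mul_assoc]⟩

omit [Fintype F] in
theorem HasForm.invTrans_mul {n : ℕ} {β : MulAut (Matrix.ProjectiveSpecialLinearGroup (Fin n) F)}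
    (h : HasForm β) : HasForm (toPSLAut invTransSL * β) := by
  obtain ⟨g, σ, γ, hγ, rfl⟩ := h
  refine ⟨invTransGL g, σ, invTransSL * γ, ?_, ?_⟩
  · rcases hγ with rfl | rfl
    · exact Or.inr (mul_one _)
    · exact Or.inl invTransSL_mul_self
  · rw [← map_mul, ← mul_assoc, ← mul_assoc, invTransSL_mul_conjSL, mul_assoc (conjSL _),
      invTransSL_mul_fieldSL]
    simp only [mul_assoc]

theorem hasForm_succ (hm : 1 ≤ m)
    (β : MulAut (Matrix.ProjectiveSpecialLinearGroup (Fin (m + 1)) F)) : HasForm β := by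
  obtain ⟨p, hp⟩ := CharP.exists F
  have : Fact p.Prime := ⟨CharP.char_is_prime F p⟩
  obtain ⟨h, hU, hL⟩ := exists_inner_fix p β
  set β₁ := MulAut.conj (mkP h) * β with hβ₁
  obtain ⟨e, f, g, hf, hg, hadj⟩ := exists_perm_both p β₁ hU hL
  suffices H : HasForm β₁ by
    have := H.conj_mul (Matrix.SpecialLinearGroup.toGL h⁻¹)
    rw [conjSL_toGL, toPSLAut_conj, hβ₁, ← mul_assoc] at this
    have e1 : MulAut.conj ((QuotientGroup.mk h⁻¹ : Matrix.ProjectiveSpecialLinearGroup (Fin (m + 1)) F)) *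
        MulAut.conj (mkP h) = 1 := by
      rw [← map_mul, QuotientGroup.mk'_apply, ← QuotientGroup.mk_mul, inv_mul_cancel]
      simp
    rwa [e1, one_mul] at this
  -- the case of a trivial permutation of the simple roots
  have main : ∀ (β₁ : MulAut (Matrix.ProjectiveSpecialLinearGroup (Fin (m + 1)) F))
      (f g : Fin m → (F ≃+ F)), (∀ k t, β₁ (mkP (xs k t)) = mkP (xs k (f k t))) →
      (∀ k t, β₁ (mkP (ys k t)) = mkP (ys k (g k t))) → HasForm β₁ := by
    intro β₁ f g hf hg
    let c : Fin m → Fˣ := fun k => Units.mk0 (f k 1) (by simp)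
    set D := toPSLAut (conjSL (normDiag c)) with hD
    have hD' : ∀ (i j : Fin (m + 1)), i ≠ j → ∀ t, D (mkP (xe i j t)) = mkP (xe i j
        ((Fin.partialProd c i : Fˣ) * t * ((Fin.partialProd c j : Fˣ) : F)⁻¹)) := by
      intro i j hij t
      rw [hD, QuotientGroup.mk'_apply, toPSLAut_mk, conjSL_normDiag_xe c hij]
      rfl
    let f' : Fin m → (F ≃+ F) := fun k =>
      (f k).trans (AddEquiv.ofBijective (AddMonoidHom.mulLeft (f k 1)⁻¹)
        (Finite.injective_iff_bijective.1 (mul_right_injective₀ (inv_ne_zero (by simp)))))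
    let g' : Fin m → (F ≃+ F) := fun k =>
      (g k).trans (AddEquiv.ofBijective (AddMonoidHom.mulLeft (f k 1))
        (Finite.injective_iff_bijective.1 (mul_right_injective₀ (by simp))))
    have hx' : ∀ k t, (D * β₁) (mkP (xs k t)) = mkP (xs k (f' k t)) := by
      intro k t
      rw [MulAut.mul_apply, hf, hD' _ _ (cs_ne k), Fin.partialProd_succ]
      congr 2
      have : f' k t = (f k 1)⁻¹ * f k t := rfl
      rw [this, Units.val_mul]
      simp only [c, Units.val_mk0]
      field_simp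
    have hy' : ∀ k t, (D * β₁) (mkP (ys k t)) = mkP (ys k (g' k t)) := by
      intro k t
      rw [MulAut.mul_apply, hg, hD' _ _ (cs_ne k).symm, Fin.partialProd_succ]
      congr 2
      have : g' k t = f k 1 * g k t := rfl
      rw [this, Units.val_mul]
      simp only [c, Units.val_mk0]
      field_simp
    have hf'1 : ∀ k, f' k 1 = 1 := fun k => inv_mul_cancel₀ (by simp)
    obtain ⟨σ, hσ⟩ : ∃ σ : F ≃+* F, ∀ k t, f' k t = σ t ∧ g' k t = σ t := by
      rcases Nat.lt_or_ge m 2 with hm2 | hm2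
      · obtain rfl : m = 1 := by omega
        obtain ⟨σ, hσ⟩ := exists_field_two p (D * β₁) (f' 0) (g' 0) (hf'1 0) (hx' 0) (hy' 0)
        exact ⟨σ, fun k t => by rw [Subsingleton.elim k 0]; exact hσ t⟩
      · exact exists_field_chain p hm2 (D * β₁) f' g' hf'1 hx' hy'
    have hform : D * β₁ = toPSLAut (fieldSL σ) := by
      refine eq_toPSLAut_of_simple p hm _ _ (fun k t => ?_) (fun k t => ?_)
      · rw [hx', (hσ k t).1, xs, fieldSL_xe]
      · rw [hy', (hσ k t).2, ys, fieldSL_xe]
    have := (hasForm_fieldSL (n := m + 1) σ).conj_mul (normDiag c)⁻¹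
    rw [← hform, hD, map_inv, map_inv, inv_mul_cancel_left] at this
    exact this
  rcases perm_path e hadj with rfl | rfl
  · exact main β₁ f g hf hg
  · -- compose with the graph automorphism
    set Γ := toPSLAut (graphSL (m + 1) F) with hΓ
    have hgx : ∀ k t, Γ (mkP (xs k t)) = mkP (xs k.rev (-t : F)) := by
      intro k t
      rw [hΓ, QuotientGroup.mk'_apply, toPSLAut_mk, graphSL_xs]
      rfl
    have hgy : ∀ k t, Γ (mkP (ys k t)) = mkP (ys k.rev (-t : F)) := by
      intro k t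
      rw [hΓ, QuotientGroup.mk'_apply, toPSLAut_mk, ys, graphSL_xe (cs_ne k).symm,
        Fin.rev_castSucc, Fin.rev_succ]
      rfl
    have H := main (Γ * β₁) (fun k => (f k).trans (AddEquiv.neg F)) (fun k => (g k).trans (AddEquiv.neg F))
      (fun k t => by rw [MulAut.mul_apply, hf, hgx]; simp)
      (fun k t => by rw [MulAut.mul_apply, hg, hgy]; simp)
    set J : GL (Fin (m + 1)) F := Matrix.GeneralLinearGroup.mkOfDetNeZero
      ((Fin.revPerm (n := m + 1)).permMatrix F) (by
        rw [Matrix.det_permutation]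
        rcases Int.units_eq_one_or (Equiv.Perm.sign (Fin.revPerm (n := m + 1))) with h | h <;> simp [h])
    have hG : Γ = toPSLAut (conjSL J) * toPSLAut invTransSL := by rw [hΓ, ← map_mul]; rfl
    have := (H.conj_mul J⁻¹).invTrans_mul
    have hii : toPSLAut (invTransSL (ι := Fin (m + 1)) (F := F)) * toPSLAut invTransSL = 1 := by
      rw [← map_mul, invTransSL_mul_self, map_one]
    rwa [hG, map_inv, map_inv, mul_assoc (toPSLAut (conjSL J)), inv_mul_cancel_left,
      ← mul_assoc (toPSLAut invTransSL), hii, one_mul] at this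

/-- **Schreier–van der Waerden**: every automorphism of `PSL_n(F)`, `n ≥ 2`, `F` finite, is induced by
`conjSL g * fieldSL σ * γ` with `γ` trivial or inverse-transpose. -/
theorem exists_form {n : ℕ} (hn : 2 ≤ n)
    (β : MulAut (Matrix.ProjectiveSpecialLinearGroup (Fin n) F)) : HasForm β := by
  obtain ⟨m, rfl⟩ : ∃ m, n = m + 1 := ⟨n - 1, by omega⟩
  exact hasForm_succ (by omega) β

end CfsgLib.AutPSL
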