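import Cfsg.Prelude.Def_LieTypeDatum
import Cfsg.Agent.AutPSL.Structure

/-!
# The predicates of `Def_LieTypeDatum` for `PSL_n` in terms of explicit automorphisms
-/

set_option autoImplicit false

namespace CfsgLib.AutPSL

open Matrix Cfsg

variable {F : Type*} [Field F] {n : ℕ}

theorem eq_toPSLAut_iff (β : MulAut (Matrix.ProjectiveSpecialLinearGroup (Fin n) F))
    (α : MulAut (Matrix.SpecialLinearGroup (Fin n) F)) :
    (∀ s s' : Matrix.SpecialLinearGroup (Fin n) F,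
      (s' : Matrix (Fin n) (Fin n) F) = ((α s : Matrix.SpecialLinearGroup (Fin n) F) : Matrix (Fin n) (Fin n) F) →
        β (QuotientGroup.mk s) = QuotientGroup.mk s') ↔ β = toPSLAut α := by
  constructor
  · intro h
    ext1 x
    induction x using QuotientGroup.induction_on with
    | H s => exact h s (α s) rfl
  · rintro rfl s s' hs
    rw [Subtype.ext hs, toPSLAut_mk]

theorem isInnerDiagonalAutPSL_iff (β : MulAut (Matrix.ProjectiveSpecialLinearGroup (Fin n) F)) :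
    Cfsg.IsInnerDiagonalAutPSL β ↔ ∃ g : GL (Fin n) F, β = toPSLAut (conjSL g) :=
  exists_congr fun g => eq_toPSLAut_iff β (conjSL g)

theorem isStdFieldAutPSL_iff (σ : F ≃+* F) (β : MulAut (Matrix.ProjectiveSpecialLinearGroup (Fin n) F)) :
    Cfsg.IsStdFieldAutPSL σ β ↔ β = toPSLAut (fieldSL σ) :=
  eq_toPSLAut_iff β (fieldSL σ)

theorem isFieldAutPSL_iff (β : MulAut (Matrix.ProjectiveSpecialLinearGroup (Fin n) F)) :
    Cfsg.IsFieldAutPSL β ↔ ∃ σ : F ≃+* F, β = toPSLAut (fieldSL σ) :=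
  exists_congr fun σ => eq_toPSLAut_iff β (fieldSL σ)

theorem isInverseTransposeAutPSL_iff (β : MulAut (Matrix.ProjectiveSpecialLinearGroup (Fin n) F)) :
    Cfsg.IsInverseTransposeAutPSL β ↔ β = toPSLAut invTransSL :=
  eq_toPSLAut_iff β invTransSL

theorem isInducedBySemilinearPSL_iff (g : GL (Fin n) F) (σ : F ≃+* F)
    (β : MulAut (Matrix.ProjectiveSpecialLinearGroup (Fin n) F)) :
    Cfsg.IsInducedBySemilinearPSL g σ β ↔ β = toPSLAut (conjSL g * fieldSL σ) :=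
  by
  rw [← eq_toPSLAut_iff]
  exact forall₂_congr fun s s' => Iff.rfl

/-- `g ↦` the inner-diagonal automorphism it induces. -/
def innDiagHom : GL (Fin n) F →* MulAut (Matrix.ProjectiveSpecialLinearGroup (Fin n) F) :=
  toPSLAut.comp conjSL

theorem inndiagPSL_eq : Cfsg.inndiagPSL n F = (innDiagHom (F := F) (n := n)).range := by
  refine le_antisymm ((Subgroup.closure_le _).2 fun β hβ => ?_) ?_
  · obtain ⟨g, rfl⟩ := (isInnerDiagonalAutPSL_iff β).1 hβ
    exact ⟨g, rfl⟩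
  · rintro β ⟨g, rfl⟩
    exact Subgroup.subset_closure ((isInnerDiagonalAutPSL_iff _).2 ⟨g, rfl⟩)

theorem mem_inndiagPSL_iff {β : MulAut (Matrix.ProjectiveSpecialLinearGroup (Fin n) F)} :
    β ∈ Cfsg.inndiagPSL n F ↔ ∃ g : GL (Fin n) F, β = toPSLAut (conjSL g) := by
  rw [inndiagPSL_eq]
  exact exists_congr fun g => eq_comm

theorem inn_eq_range : Cfsg.Inn (Matrix.ProjectiveSpecialLinearGroup (Fin n) F) =
    ((innDiagHom (F := F) (n := n)).comp Matrix.SpecialLinearGroup.toGL).range := by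
  ext β
  constructor
  · rintro ⟨x, rfl⟩
    obtain ⟨s, rfl⟩ := QuotientGroup.mk_surjective x
    exact ⟨s, by rw [← toPSLAut_conj, ← conjSL_toGL]; rfl⟩
  · rintro ⟨s, rfl⟩
    exact ⟨QuotientGroup.mk s, by rw [← toPSLAut_conj, ← conjSL_toGL]; rfl⟩

variable [Fintype F]

/-- Conjugation by any automorphism preserves the inner-diagonal group. -/
theorem conj_mem_inndiagPSL (hn : 2 ≤ n) (α : MulAut (Matrix.ProjectiveSpecialLinearGroup (Fin n) F))
    {β : MulAut (Matrix.ProjectiveSpecialLinearGroup (Fin n) F)} (hβ : β ∈ Cfsg.inndiagPSL n F) :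
    α * β * α⁻¹ ∈ Cfsg.inndiagPSL n F := by
  obtain ⟨h, rfl⟩ := mem_inndiagPSL_iff.1 hβ
  obtain ⟨g, σ, γ, hγ, rfl⟩ := exists_form hn α
  obtain ⟨h', hh'⟩ : ∃ h', γ * conjSL h = conjSL h' * γ := by
    rcases hγ with rfl | rfl
    · exact ⟨h, by rw [one_mul, mul_one]⟩
    · exact ⟨invTransGL h, invTransSL_mul_conjSL h⟩
  rw [mem_inndiagPSL_iff]
  refine ⟨g * mapGL σ h' * g⁻¹, ?_⟩
  rw [← map_inv, ← map_mul, ← map_mul]
  congr 1
  rw [mul_assoc (conjSL g * fieldSL σ) γ, hh', map_mul, map_mul, map_inv]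
  calc conjSL g * fieldSL σ * (conjSL h' * γ) * (conjSL g * fieldSL σ * γ)⁻¹
      = conjSL g * (fieldSL σ * conjSL h') * (γ * γ⁻¹) * (fieldSL σ)⁻¹ * (conjSL g)⁻¹ := by group
    _ = conjSL g * conjSL (mapGL σ h') * (conjSL g)⁻¹ := by rw [fieldSL_mul_conjSL]; group

theorem inndiagPSL_normal (hn : 2 ≤ n) : (Cfsg.inndiagPSL n F).Normal :=
  ⟨fun _ hβ α => conj_mem_inndiagPSL hn α hβ⟩

end CfsgLib.AutPSL
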