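import Cfsg.Agent.AutPSL.Transvection

/-!
# Automorphisms of `SL_n` and `PSL_n` from matrices, field automorphisms and inverse-transpose

`toPSLAut` is injective for a finite field (or any field of positive characteristic).
-/

set_option autoImplicit false

namespace CfsgLib.AutPSL

open Matrix
open scoped MatrixGroups

variable {ι : Type*} [Fintype ι] [DecidableEq ι] {F : Type*} [Field F]

/-- Conjugation by an invertible matrix on `SL`. -/
def conjSL : GL ι F →* MulAut (Matrix.SpecialLinearGroup ι F) where
  toFun g :=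
    { toFun := fun s => ⟨(g : Matrix ι ι F) * s * ((g⁻¹ : GL ι F) : Matrix ι ι F),
        by rw [Matrix.det_units_conj]; exact s.2⟩
      invFun := fun s => ⟨((g⁻¹ : GL ι F) : Matrix ι ι F) * s * (g : Matrix ι ι F),
        by rw [Matrix.det_units_conj']; exact s.2⟩
      left_inv := fun s => by
        apply Subtype.ext
        change ((g⁻¹ : GL ι F) : Matrix ι ι F) * ((g : Matrix ι ι F) * s * ((g⁻¹ : GL ι F) : Matrix ι ι F)) * g = s
        simp [mul_assoc]
      right_inv := fun s => by
        apply Subtype.ext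
        change (g : Matrix ι ι F) * (((g⁻¹ : GL ι F) : Matrix ι ι F) * s * g) * ((g⁻¹ : GL ι F) : Matrix ι ι F) = s
        simp [mul_assoc]
      map_mul' := fun s t => by
        apply Subtype.ext
        change (g : Matrix ι ι F) * ((s : Matrix ι ι F) * t) * ((g⁻¹ : GL ι F) : Matrix ι ι F) =
          (g : Matrix ι ι F) * s * ((g⁻¹ : GL ι F) : Matrix ι ι F) *
            ((g : Matrix ι ι F) * t * ((g⁻¹ : GL ι F) : Matrix ι ι F))
        simp [mul_assoc] }
  map_one' := by
    ext1 s
    apply Subtype.ext
    change ((1 : GL ι F) : Matrix ι ι F) * s * (((1 : GL ι F)⁻¹ : GL ι F) : Matrix ι ι F) = s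
    simp
  map_mul' g h := by
    ext1 s
    apply Subtype.ext
    change ((g * h : GL ι F) : Matrix ι ι F) * s * (((g * h)⁻¹ : GL ι F) : Matrix ι ι F) =
      (g : Matrix ι ι F) * ((h : Matrix ι ι F) * s * ((h⁻¹ : GL ι F) : Matrix ι ι F)) *
        ((g⁻¹ : GL ι F) : Matrix ι ι F)
    simp [mul_assoc]

@[simp] theorem conjSL_coe (g : GL ι F) (s : Matrix.SpecialLinearGroup ι F) :
    ((conjSL g s : Matrix.SpecialLinearGroup ι F) : Matrix ι ι F) =
      (g : Matrix ι ι F) * s * ((g⁻¹ : GL ι F) : Matrix ι ι F) := rfl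

theorem conjSL_toGL (h : Matrix.SpecialLinearGroup ι F) :
    conjSL (Matrix.SpecialLinearGroup.toGL h) = MulAut.conj h := by
  ext1 s
  apply Subtype.ext
  rfl

theorem conjSL_scalar (u : Fˣ) : conjSL (Matrix.GeneralLinearGroup.scalar ι u) = 1 := by
  have hc : Matrix.GeneralLinearGroup.scalar ι u ∈ Subgroup.center (GL ι F) := by
    rw [Matrix.GeneralLinearGroup.center_eq_range_scalar]; exact ⟨u, rfl⟩
  ext1 s
  apply Subtype.ext
  change ((Matrix.GeneralLinearGroup.scalar ι u * Matrix.SpecialLinearGroup.toGL s *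
    (Matrix.GeneralLinearGroup.scalar ι u)⁻¹ : GL ι F) : Matrix ι ι F) = _
  rw [← Subgroup.mem_center_iff.1 hc, mul_inv_cancel_right]
  rfl

/-- A field automorphism applied entrywise, on `SL`. -/
def fieldSL : (F ≃+* F) →* MulAut (Matrix.SpecialLinearGroup ι F) where
  toFun σ :=
    { toFun := Matrix.SpecialLinearGroup.map σ.toRingHom
      invFun := Matrix.SpecialLinearGroup.map σ.symm.toRingHom
      left_inv := fun s => by apply Subtype.ext; ext i j; simp
      right_inv := fun s => by apply Subtype.ext; ext i j; simp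
      map_mul' := map_mul _ }
  map_one' := by ext1 s; apply Subtype.ext; ext i j; rfl
  map_mul' σ τ := by ext1 s; apply Subtype.ext; ext i j; rfl

@[simp] theorem fieldSL_coe (σ : F ≃+* F) (s : Matrix.SpecialLinearGroup ι F) :
    ((fieldSL σ s : Matrix.SpecialLinearGroup ι F) : Matrix ι ι F) = (s : Matrix ι ι F).map σ := rfl

theorem sl_transpose_mul (s t : Matrix.SpecialLinearGroup ι F) :
    (s * t).transpose = t.transpose * s.transpose := by
  apply Subtype.ext
  simp [Matrix.transpose_mul]

theorem sl_transpose_inv (s : Matrix.SpecialLinearGroup ι F) :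
    s.transpose⁻¹ = (s⁻¹).transpose := by
  refine inv_eq_of_mul_eq_one_right ?_
  rw [← sl_transpose_mul, inv_mul_cancel]
  apply Subtype.ext
  simp

theorem sl_transpose_transpose (s : Matrix.SpecialLinearGroup ι F) :
    s.transpose.transpose = s := by
  apply Subtype.ext
  simp

/-- The inverse-transpose automorphism of `SL`. -/
def invTransSL : MulAut (Matrix.SpecialLinearGroup ι F) where
  toFun s := (s⁻¹).transpose
  invFun s := (s⁻¹).transpose
  left_inv s := by simp [sl_transpose_inv, sl_transpose_transpose]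
  right_inv s := by simp [sl_transpose_inv, sl_transpose_transpose]
  map_mul' s t := by rw [_root_.mul_inv_rev, sl_transpose_mul]

theorem invTransSL_apply (s : Matrix.SpecialLinearGroup ι F) :
    invTransSL s = (s⁻¹).transpose := rfl

theorem invTransSL_coe (s : Matrix.SpecialLinearGroup ι F) :
    ((invTransSL s : Matrix.SpecialLinearGroup ι F) : Matrix ι ι F) =
      ((s⁻¹ : Matrix.SpecialLinearGroup ι F) : Matrix ι ι F).transpose := rfl

theorem invTransSL_mul_self : (invTransSL (ι := ι) (F := F)) * invTransSL = 1 := by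
  ext1 s
  exact invTransSL.left_inv s

theorem invTransSL_xe {i j : ι} (h : i ≠ j) (t : F) :
    invTransSL (xe i j t) = xe j i (-t) := by
  rw [invTransSL_apply, ← xe_neg]
  apply Subtype.ext
  rw [Matrix.SpecialLinearGroup.coe_transpose, xe_coe h, xe_coe h.symm]
  simp

theorem fieldSL_xe (σ : F ≃+* F) (i j : ι) (t : F) :
    fieldSL σ (xe i j t) = xe i j (σ t) := by
  by_cases h : i ≠ j
  · apply Subtype.ext
    rw [fieldSL_coe, xe_coe h, xe_coe h]
    simp [Matrix.map_add]
  · simp [xe, dif_neg h]

/-- A field automorphism applied to the entries of an invertible matrix. -/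
abbrev mapGL (σ : F ≃+* F) : GL ι F →* GL ι F := Matrix.GeneralLinearGroup.map σ.toRingHom

/-- Inverse transpose of an invertible matrix. -/
def invTransGL (g : GL ι F) : GL ι F where
  val := ((g⁻¹ : GL ι F) : Matrix ι ι F).transpose
  inv := (g : Matrix ι ι F).transpose
  val_inv := by rw [← Matrix.transpose_mul, g.mul_inv, Matrix.transpose_one]
  inv_val := by rw [← Matrix.transpose_mul, g.inv_mul, Matrix.transpose_one]

theorem fieldSL_mul_conjSL (σ : F ≃+* F) (g : GL ι F) :
    fieldSL σ * conjSL g = conjSL (mapGL σ g) * fieldSL σ := by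
  ext1 s
  apply Subtype.ext
  change ((g : Matrix ι ι F) * s * ((g⁻¹ : GL ι F) : Matrix ι ι F)).map σ =
    (mapGL σ g : Matrix ι ι F) * (s : Matrix ι ι F).map σ * ((mapGL σ g)⁻¹ : GL ι F)
  rw [← map_inv (mapGL σ)]
  change σ.toRingHom.mapMatrix _ = σ.toRingHom.mapMatrix _ * σ.toRingHom.mapMatrix _ * σ.toRingHom.mapMatrix _
  rw [map_mul, map_mul]

theorem invTransSL_mul_conjSL (g : GL ι F) :
    invTransSL * conjSL g = conjSL (invTransGL g) * invTransSL := by
  ext1 s
  apply Subtype.ext
  change (((conjSL g s)⁻¹ : Matrix.SpecialLinearGroup ι F) : Matrix ι ι F).transpose =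
    (invTransGL g : Matrix ι ι F) * ((s⁻¹ : Matrix.SpecialLinearGroup ι F) : Matrix ι ι F).transpose *
      ((invTransGL g)⁻¹ : GL ι F)
  rw [← map_inv, conjSL_coe, Matrix.transpose_mul, Matrix.transpose_mul, ← mul_assoc]
  rfl

theorem invTransSL_mul_fieldSL (σ : F ≃+* F) :
    (invTransSL (ι := ι)) * fieldSL σ = fieldSL σ * invTransSL := by
  ext1 s
  apply Subtype.ext
  change (((fieldSL σ s)⁻¹ : Matrix.SpecialLinearGroup ι F) : Matrix ι ι F).transpose =
    (((s⁻¹ : Matrix.SpecialLinearGroup ι F) : Matrix ι ι F).transpose).map σ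
  rw [← map_inv, fieldSL_coe, Matrix.transpose_map]

section Projective

/-- The automorphism of `PSL` induced by one of `SL`. -/
def toPSLAut : MulAut (Matrix.SpecialLinearGroup ι F) →*
    MulAut (Matrix.ProjectiveSpecialLinearGroup ι F) where
  toFun α := QuotientGroup.congr _ _ α
    (Subgroup.characteristic_iff_map_eq.1 inferInstance α)
  map_one' := by
    ext1 x
    induction x using QuotientGroup.induction_on
    rfl
  map_mul' α β := by
    ext1 x
    induction x using QuotientGroup.induction_on
    rfl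

@[simp] theorem toPSLAut_mk (α : MulAut (Matrix.SpecialLinearGroup ι F))
    (s : Matrix.SpecialLinearGroup ι F) :
    toPSLAut α (QuotientGroup.mk s) = QuotientGroup.mk (α s) := rfl

theorem toPSLAut_conj (h : Matrix.SpecialLinearGroup ι F) :
    toPSLAut (MulAut.conj h) =
      MulAut.conj (QuotientGroup.mk h : Matrix.ProjectiveSpecialLinearGroup ι F) := by
  ext1 x
  induction x using QuotientGroup.induction_on
  rfl

variable (p : ℕ) [Fact p.Prime] [CharP F p]

theorem pow_char_center_eq_one {z : Matrix.SpecialLinearGroup ι F}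
    (hz : z ∈ Subgroup.center (Matrix.SpecialLinearGroup ι F)) {k : ℕ} (hk : z ^ p ^ k = 1) :
    z = 1 := by
  obtain ⟨c, -, hc⟩ := Matrix.SpecialLinearGroup.mem_center_iff.1 hz
  apply Subtype.ext
  rcases isEmpty_or_nonempty ι with hι | ⟨⟨i⟩⟩
  · exact Subsingleton.elim _ _
  · have h := congrArg (fun g : Matrix.SpecialLinearGroup ι F => (g : Matrix ι ι F) i i) hk
    simp only [Matrix.SpecialLinearGroup.coe_pow, ← hc, ← map_pow,
      Matrix.SpecialLinearGroup.coe_one, Matrix.scalar_apply, Matrix.diagonal_apply_eq,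
      Matrix.one_apply_eq] at h
    have hc1 : c = 1 := by
      apply (iterateFrobenius_inj F p k)
      simpa [iterateFrobenius_def, Matrix.diagonal_pow] using h
    simp [← hc, hc1]

/-- Two commuting `p`-elements of `SL` with the same image in `PSL` are equal; in fact the first
element may be any `p`-element. -/
theorem eq_of_mk_eq {x y : Matrix.SpecialLinearGroup ι F} {k : ℕ}
    (hx : x ^ p ^ k = 1) (hy : y ^ p ^ k = 1)
    (h : (QuotientGroup.mk x : Matrix.ProjectiveSpecialLinearGroup ι F) = QuotientGroup.mk y) :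
    x = y := by
  obtain ⟨z, hz, rfl⟩ : ∃ z ∈ Subgroup.center (Matrix.SpecialLinearGroup ι F), y = x * z :=
    ⟨x⁻¹ * y, QuotientGroup.eq.1 h, by group⟩
  have hcomm : Commute x z := (Subgroup.mem_center_iff.1 hz x)
  rw [hcomm.mul_pow, hx, one_mul] at hy
  rw [pow_char_center_eq_one p hz hy, mul_one]

theorem xe_pow_char (i j : ι) (t : F) : (xe i j t) ^ p ^ 1 = 1 := by
  rw [pow_one, ← xe_nsmul]
  simp [nsmul_eq_mul]

include p in
theorem toPSLAut_injective [Nontrivial ι] :
    Function.Injective (toPSLAut (ι := ι) (F := F)) := by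
  intro α β h
  suffices hh : ∀ s, α s = β s by ext1 s; exact hh s
  let E : Subgroup (Matrix.SpecialLinearGroup ι F) :=
    MonoidHom.eqLocus α.toMonoidHom β.toMonoidHom
  suffices hE : E = ⊤ by intro s; exact (hE.ge (Subgroup.mem_top s) : s ∈ E)
  refine eq_top_of_xe_mem E fun i j _ t => ?_
  refine eq_of_mk_eq p (k := 1) ?_ ?_ ?_
  · change (α (xe i j t)) ^ p ^ 1 = 1
    rw [← map_pow, xe_pow_char, map_one]
  · change (β (xe i j t)) ^ p ^ 1 = 1
    rw [← map_pow, xe_pow_char, map_one]
  · exact congrArg (fun φ : MulAut (Matrix.ProjectiveSpecialLinearGroup ι F) =>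
      φ (QuotientGroup.mk (xe i j t))) h

/-- Images in `PSL` commute iff the elements commute, for a `p`-element. -/
theorem commute_of_mk_commute {x y : Matrix.SpecialLinearGroup ι F} {k : ℕ} (hx : x ^ p ^ k = 1)
    (h : Commute (QuotientGroup.mk x : Matrix.ProjectiveSpecialLinearGroup ι F) (QuotientGroup.mk y)) :
    Commute x y := by
  have e : MulAut.conj y x = x := by
    refine eq_of_mk_eq p (k := k) (by rw [← map_pow, hx, map_one]) hx ?_
    simp only [MulAut.conj_apply, QuotientGroup.mk_mul, QuotientGroup.mk_inv]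
    rw [← h.eq, mul_inv_cancel_right]
  rw [MulAut.conj_apply, mul_inv_eq_iff_eq_mul] at e
  exact e.symm

end Projective

/-! ### Faithfulness -/

/-- A semilinear conjugation acting trivially on `SL` is scalar and linear. -/
theorem eq_one_of_conjSL_mul_fieldSL [Nontrivial ι] {g : GL ι F} {σ : F ≃+* F}
    (h : conjSL g * fieldSL σ = 1) :
    σ = 1 ∧ ∃ u : Fˣ, g = Matrix.GeneralLinearGroup.scalar ι u := by
  have key : ∀ (i j : ι), i ≠ j → ∀ t : F,
      (g : Matrix ι ι F) * Matrix.single i j (σ t) = Matrix.single i j t * g := by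
    intro i j hij t
    have := congrArg (fun φ : MulAut (Matrix.SpecialLinearGroup ι F) =>
      ((φ (xe i j t) : Matrix.SpecialLinearGroup ι F) : Matrix ι ι F) * g) h
    simp only [MulAut.mul_apply, fieldSL_xe, conjSL_coe, xe_coe hij, MulAut.one_apply] at this
    simpa [mul_assoc, mul_add, add_mul] using this
  obtain ⟨c, hc⟩ := exists_scalar_of_commute (g : Matrix ι ι F) fun i j hij => by
    have := key i j hij 1
    rw [map_one] at this
    rw [xe_coe hij]
    exact (Commute.one_right _).add_right this
  have hc0 : c ≠ 0 := by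
    rintro rfl
    have hdet := congrArg Matrix.det hc
    simp at hdet
    exact (g.det.ne_zero) (by simpa using hdet)
  refine ⟨?_, Units.mk0 c hc0, Units.ext (by simp [hc])⟩
  obtain ⟨i, j, hij⟩ := exists_pair_ne ι
  apply RingEquiv.ext
  intro t
  have := congrArg (fun M : Matrix ι ι F => M i j) (key i j hij t)
  simp [hc, mul_comm c] at this
  simpa [hc0] using this

theorem conjSL_eq_one_iff [Nontrivial ι] {g : GL ι F} :
    conjSL g = 1 ↔ ∃ u : Fˣ, g = Matrix.GeneralLinearGroup.scalar ι u := by
  refine ⟨fun h => (eq_one_of_conjSL_mul_fieldSL (σ := 1) (by rw [map_one, mul_one, h])).2, ?_⟩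
  rintro ⟨u, rfl⟩
  exact conjSL_scalar u

theorem fieldSL_injective [Nontrivial ι] : Function.Injective (fieldSL (ι := ι) (F := F)) := by
  refine (injective_iff_map_eq_one _).2 fun σ h => ?_
  exact (eq_one_of_conjSL_mul_fieldSL (g := (1 : GL ι F)) (by rw [map_one, one_mul, h])).1

/-- For at least three coordinates the inverse-transpose automorphism is not semilinear. -/
theorem invTransSL_ne_semilinear {g : GL ι F} {σ : F ≃+* F}
    (h3 : 3 ≤ Fintype.card ι) : conjSL g * fieldSL σ ≠ invTransSL := by
  intro h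
  have key : ∀ (i j : ι), i ≠ j →
      (g : Matrix ι ι F) * Matrix.single i j (1 : F) = Matrix.single j i (-1 : F) * g := by
    intro i j hij
    have := congrArg (fun φ : MulAut (Matrix.SpecialLinearGroup ι F) =>
      ((φ (xe i j (1 : F)) : Matrix.SpecialLinearGroup ι F) : Matrix ι ι F) * g) h
    simp only [MulAut.mul_apply, fieldSL_xe, map_one, conjSL_coe, invTransSL_xe hij, xe_coe hij,
      xe_coe hij.symm] at this
    simpa [mul_assoc, mul_add, add_mul] using this
  have hzero : ∀ r i : ι, (g : Matrix ι ι F) r i = 0 := by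
    intro r i
    obtain ⟨j, hjr, hji⟩ : ∃ j : ι, j ≠ r ∧ j ≠ i := by
      by_contra hc
      push Not at hc
      have : Finset.univ ⊆ ({r, i} : Finset ι) := fun j _ => by
        by_cases hj : j = r
        · simp [hj]
        · simp [hc j hj]
      have := (Finset.card_le_card this).trans Finset.card_le_two
      simp at this
      omega
    have := congrArg (fun M : Matrix ι ι F => M r j) (key i j hji.symm)
    rw [Matrix.single_mul_apply_of_ne (h := hjr.symm)] at this
    simpa using this
  have : Nonempty ι := Fintype.card_pos_iff.1 (by omega)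
  have h0 : (g : Matrix ι ι F) = 0 := Matrix.ext hzero
  exact g.det.ne_zero (by simp [h0])

end CfsgLib.AutPSL
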