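import Cfsg.Agent.AutPSL.Unitriangular

/-!
# Simple root elements are detected by an order of intersection

For `u` in the upper unitriangular group, `|L| ≤ q |L ⊓ uLu⁻¹|` (`L` lower unitriangular) holds
exactly for the elements of the simple root groups.
-/

set_option autoImplicit false

namespace CfsgLib.AutPSL

open Matrix

variable {F : Type*} [Field F] [Fintype F] {n : ℕ}

/-- `loU ⊓ u loU u⁻¹`. -/
def loInter (u : Matrix.SpecialLinearGroup (Fin n) F) : Subgroup (Matrix.SpecialLinearGroup (Fin n) F) :=
  loU n F ⊓ (loU n F).map (MulAut.conj u).toMonoidHom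

theorem mem_loInter {u l : Matrix.SpecialLinearGroup (Fin n) F} :
    l ∈ loInter u ↔ l ∈ loU n F ∧ u⁻¹ * l * u ∈ loU n F := by
  rw [loInter, Subgroup.mem_inf, Subgroup.mem_map_equiv, MulAut.conj_symm_apply]

/-- The condition singling out simple root elements. -/
def HasLargeInter (u : Matrix.SpecialLinearGroup (Fin n) F) : Prop :=
  Nat.card (loU n F) ≤ Fintype.card F * Nat.card (loInter u)

theorem not_hasLargeInter (u : Matrix.SpecialLinearGroup (Fin n) F)
    (f : F × F → Matrix.SpecialLinearGroup (Fin n) F) (hf : ∀ x, f x ∈ loU n F)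
    (hsep : ∀ x y, (f x)⁻¹ * f y ∈ loInter u → x = y) : ¬ HasLargeInter u := by
  intro h
  have hinj : Function.Injective
      (fun x : (F × F) × loInter u => (⟨f x.1 * (x.2 : Matrix.SpecialLinearGroup (Fin n) F),
        (loU n F).mul_mem (hf _) (mem_loInter.1 x.2.2).1⟩ : loU n F)) := by
    rintro ⟨x, k⟩ ⟨y, k'⟩ e
    have e' : f x * (k : Matrix.SpecialLinearGroup (Fin n) F) = f y * k' := congrArg Subtype.val e
    have hxy : x = y := by
      refine hsep x y ?_
      have : (f x)⁻¹ * f y = (k : Matrix.SpecialLinearGroup (Fin n) F) * (k' : Matrix.SpecialLinearGroup (Fin n) F)⁻¹ := by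
        rw [inv_mul_eq_iff_eq_mul, ← mul_assoc, e', mul_inv_cancel_right]
      rw [this]
      exact (loInter u).mul_mem k.2 ((loInter u).inv_mem k'.2)
    subst hxy
    exact Prod.ext rfl (Subtype.ext (mul_left_cancel e'))
  have := Nat.card_le_card_of_injective _ hinj
  rw [Nat.card_prod, Nat.card_prod, Nat.card_eq_fintype_card (α := F)] at this
  have h2 := this.trans h
  have hK : 0 < Nat.card (loInter u) := Nat.card_pos
  have hq : 1 < Fintype.card F := Fintype.one_lt_card
  have h3 := Nat.le_of_mul_le_mul_right h2 hK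
  nlinarith

/-- Entries of a conjugate `u⁻¹ (1 + X) u`. -/
theorem conj_one_add_apply (u g : Matrix.SpecialLinearGroup (Fin n) F) (X : Matrix (Fin n) (Fin n) F)
    (hg : (g : Matrix (Fin n) (Fin n) F) = 1 + X) (i j : Fin n) :
    ((u⁻¹ * g * u : Matrix.SpecialLinearGroup (Fin n) F) : Matrix (Fin n) (Fin n) F) i j =
      (if i = j then 1 else 0) + (((u⁻¹ : Matrix.SpecialLinearGroup (Fin n) F) : Matrix (Fin n) (Fin n) F) * X *
        (u : Matrix (Fin n) (Fin n) F)) i j := by
  have h1 : ((u⁻¹ : Matrix.SpecialLinearGroup (Fin n) F) : Matrix (Fin n) (Fin n) F) * (u : Matrix (Fin n) (Fin n) F) = 1 := by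
    rw [← Matrix.SpecialLinearGroup.coe_mul, inv_mul_cancel, Matrix.SpecialLinearGroup.coe_one]
  rw [Matrix.SpecialLinearGroup.coe_mul, Matrix.SpecialLinearGroup.coe_mul, hg, Matrix.mul_add,
    Matrix.mul_one, Matrix.add_mul, h1, Matrix.add_apply, Matrix.one_apply]

theorem single_conj_apply (A B : Matrix (Fin n) (Fin n) F) (a b i j : Fin n) (s : F) :
    (A * Matrix.single a b s * B) i j = A i a * s * B b j := by
  rw [Matrix.mul_apply, Finset.sum_eq_single b]
  · rw [Matrix.mul_single_apply_same]
  · intro k _ hk
    rw [Matrix.mul_single_apply_of_ne (hbj := hk), zero_mul]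
  · simp

/-- A unitriangular element with a large intersection lies in a simple root group. -/
theorem exists_simple_of_hasLargeInter {u : Matrix.SpecialLinearGroup (Fin n) F}
    (hu : u ∈ upU n F) (hne : u ≠ 1) (hbig : HasLargeInter u) :
    ∃ a b : Fin n, a.val + 1 = b.val ∧ ∃ t : F, u = xe a b t := by
  set W : Matrix (Fin n) (Fin n) F := ↑(u⁻¹) with hW
  set U : Matrix (Fin n) (Fin n) F := ↑u with hU
  have hwu : ∀ i j : Fin n, j ≤ i → W i j = if i = j then 1 else 0 :=
    mem_upU.1 ((upU n F).inv_mem hu)
  have huu : ∀ i j : Fin n, j ≤ i → U i j = if i = j then 1 else 0 := mem_upU.1 hu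
  have hlow : ∀ g ∈ loInter u, ∀ X, (g : Matrix (Fin n) (Fin n) F) = 1 + X →
      ∀ i j : Fin n, i ≤ j → (W * X * U) i j = 0 := by
    intro g hg X hX i j hij
    have := mem_loU.1 (mem_loInter.1 hg).2 i j hij
    rwa [conj_one_add_apply u g X hX, add_eq_left] at this
  -- only superdiagonal entries
  have hsuper : ∀ a j : Fin n, a.val + 1 < j.val → W a j = 0 := by
    intro a j haj
    by_contra hne0
    let c : Fin n := ⟨a.val + 1, by omega⟩
    have hac : a ≠ c := by simp [Fin.ext_iff, c]
    have hja : j ≠ a := by simp [Fin.ext_iff]; omega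
    have hjc : j ≠ c := by simp [Fin.ext_iff, c]; omega
    refine not_hasLargeInter u (fun x => xe j a x.1 * xe j c x.2) (fun x => ?_) ?_ hbig
    · refine (loU n F).mul_mem (xe_mem_uni ?_ _) (xe_mem_uni ?_ _) <;> simp [loB, c] <;> omega
    · intro x y h
      have e : (xe j a x.1 * xe j c x.2)⁻¹ * (xe j a y.1 * xe j c y.2) =
          xe j a (y.1 - x.1) * xe j c (y.2 - x.2) := by
        rw [_root_.mul_inv_rev, ← xe_neg, ← xe_neg, sub_eq_neg_add, sub_eq_neg_add, xe_add, xe_add]
        have hc : Commute (xe j c (-x.2)) (xe j a (-x.1)) := xe_commute hjc.symm hja.symm _ _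
        have hc2 : Commute (xe j c (-x.2)) (xe j a y.1) := xe_commute hjc.symm hja.symm _ _
        simp only [mul_assoc]
        rw [hc.left_comm]
        congr 1
        rw [hc2.left_comm]
      rw [e] at h
      have hX : ((xe j a (y.1 - x.1) * xe j c (y.2 - x.2) : Matrix.SpecialLinearGroup (Fin n) F) :
          Matrix (Fin n) (Fin n) F) = 1 + (Matrix.single j a (y.1 - x.1) + Matrix.single j c (y.2 - x.2)) := by
        rw [Matrix.SpecialLinearGroup.coe_mul, xe_coe hja, xe_coe hjc]
        simp [mul_add, add_mul, hja.symm]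
        abel
      have h1 := hlow _ h _ hX a a le_rfl
      have h2 := hlow _ h _ hX a c (by simp [Fin.le_def, c])
      rw [Matrix.mul_add, Matrix.add_mul, Matrix.add_apply, single_conj_apply, single_conj_apply] at h1 h2
      rw [huu a a le_rfl, huu c a (by simp [Fin.le_def, c]), if_pos rfl, if_neg hac.symm] at h1
      simp [hne0, sub_eq_zero] at h1
      rw [huu c c le_rfl, if_pos rfl, h1, sub_self] at h2
      simp [hne0, sub_eq_zero] at h2
      exact Prod.ext h1.symm h2.symm
  -- at most one nonzero superdiagonal entry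
  have hone : ∀ a c b d : Fin n, a.val + 1 = c.val → b.val + 1 = d.val → a < b →
      W a c ≠ 0 → W b d ≠ 0 → False := by
    intro a c b d hac hbd hab hwac hwbd
    have hca : c ≠ a := by simp [Fin.ext_iff]; omega
    have hdb : d ≠ b := by simp [Fin.ext_iff]; omega
    have had : a ≠ d := by simp [Fin.ext_iff]; omega
    refine not_hasLargeInter u (fun x => xe c a x.1 * xe d b x.2) (fun x => ?_) ?_ hbig
    · refine (loU n F).mul_mem (xe_mem_uni ?_ _) (xe_mem_uni ?_ _) <;> simp [loB] <;> omega
    · intro x y h
      have e : (xe c a x.1 * xe d b x.2)⁻¹ * (xe c a y.1 * xe d b y.2) =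
          xe d b (-x.2) * xe c a (y.1 - x.1) * xe d b y.2 := by
        rw [_root_.mul_inv_rev, ← xe_neg, ← xe_neg, sub_eq_neg_add, xe_add]
        simp [mul_assoc]
      rw [e] at h
      set δ := y.1 - x.1 with hδ
      set E := Matrix.single c a δ with hE
      set E₀ := Matrix.single d b (-x.2) with hE₀
      set E₁ := Matrix.single d b y.2 with hE₁
      have hX : ((xe d b (-x.2) * xe c a δ * xe d b y.2 : Matrix.SpecialLinearGroup (Fin n) F) :
          Matrix (Fin n) (Fin n) F) = 1 + (E + Matrix.single d b (y.2 - x.2) + E₀ * E) := by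
        rw [Matrix.SpecialLinearGroup.coe_mul, Matrix.SpecialLinearGroup.coe_mul, xe_coe hdb,
          xe_coe hca, xe_coe hdb]
        have z1 : E * Matrix.single d b y.2 = 0 := Matrix.single_mul_single_of_ne _ _ _ _ had _
        have z2 : E₀ * Matrix.single d b y.2 = 0 := Matrix.single_mul_single_of_ne _ _ _ _ hdb.symm _
        rw [sub_eq_neg_add y.2 x.2, Matrix.single_add, ← hE, ← hE₀]
        simp only [Matrix.mul_add, Matrix.add_mul, Matrix.one_mul, Matrix.mul_one, Matrix.mul_assoc, z1, z2,
          Matrix.mul_zero, add_zero]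
        abel
      have h1 := hlow _ h _ hX a a le_rfl
      have h2 := hlow _ h _ hX b b le_rfl
      have hWad : W a d = 0 := hsuper a d (by have := Fin.lt_def.1 hab; omega)
      have hUba : U b a = 0 := by rw [huu b a hab.le, if_neg hab.ne']
      simp only [Matrix.mul_add, Matrix.add_mul, Matrix.add_apply, hE, hE₀, single_conj_apply] at h1 h2
      have hprod : ∀ i j, (W * (Matrix.single d b (-x.2) * Matrix.single c a δ) * U) i j =
          W i d * (-x.2 * δ) * U a j * (if b = c then 1 else 0) := by
        intro i j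
        by_cases hbc : b = c
        · subst hbc
          rw [Matrix.single_mul_single_same, single_conj_apply]
          simp
        · rw [Matrix.single_mul_single_of_ne _ _ _ _ hbc]
          simp [hbc]
      rw [hprod] at h1 h2
      rw [hWad, hUba, huu a a le_rfl, if_pos rfl] at h1
      simp [hwac] at h1
      rw [h1] at h2
      rw [huu b b le_rfl, if_pos rfl] at h2
      simp [hwbd, sub_eq_zero] at h2
      rw [hδ, sub_eq_zero] at h1
      exact Prod.ext h1.symm h2.symm
  obtain ⟨a, j, haj, hne0⟩ : ∃ a j : Fin n, a < j ∧ W a j ≠ 0 := by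
    by_contra hc
    push Not at hc
    apply hne
    rw [← inv_eq_one]
    apply Subtype.ext
    ext i j
    change W i j = (1 : Matrix (Fin n) (Fin n) F) i j
    rcases le_or_gt j i with h | h
    · rw [hwu i j h, Matrix.one_apply]
    · rw [hc i j h, Matrix.one_apply_ne h.ne]
  have hadj : a.val + 1 = j.val := by
    by_contra hc
    rw [Fin.lt_def] at haj
    exact hne0 (hsuper a j (by omega))
  refine ⟨a, j, hadj, -W a j, ?_⟩
  rw [xe_neg, eq_comm, inv_eq_iff_eq_inv]
  apply Subtype.ext
  rw [xe_coe haj.ne, ← hW]
  ext r s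
  rcases le_or_gt s r with h | h
  · rw [hwu r s h, Matrix.add_apply, Matrix.one_apply,
      Matrix.single_apply_of_ne (h := fun e => by obtain ⟨rfl, rfl⟩ := e; exact absurd haj (not_lt.2 h)), add_zero]
  · rw [Matrix.add_apply, Matrix.one_apply_ne h.ne, zero_add]
    by_cases hh : a = r ∧ j = s
    · obtain ⟨rfl, rfl⟩ := hh; simp
    · rw [Matrix.single_apply_of_ne (h := hh)]
      by_contra hnz
      have hsr : r.val + 1 = s.val := by
        by_contra hc
        rw [Fin.lt_def] at h
        exact hnz (hsuper r s (by omega)).symm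
      rcases lt_trichotomy a r with hr | hr | hr
      · exact hone a j r s hadj hsr hr hne0 (Ne.symm hnz)
      · exact hh ⟨hr, Fin.ext (by omega)⟩
      · exact hone r s a j hsr hadj hr (Ne.symm hnz) hne0

/-- Simple root elements have large intersections. -/
theorem hasLargeInter_xe {a b : Fin n} (hab : a.val + 1 = b.val) (t : F) :
    HasLargeInter (xe a b t) := by
  have hne : a ≠ b := by simp [Fin.ext_iff]; omega
  let φ : loU n F → F × loInter (xe a b t) := fun l =>
    (((l : Matrix.SpecialLinearGroup (Fin n) F) : Matrix (Fin n) (Fin n) F) b a,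
      ⟨(l : Matrix.SpecialLinearGroup (Fin n) F) *
        xe b a (-((l : Matrix.SpecialLinearGroup (Fin n) F) : Matrix (Fin n) (Fin n) F) b a), by
      rw [mem_loInter]
      set x := ((l : Matrix.SpecialLinearGroup (Fin n) F) : Matrix (Fin n) (Fin n) F) b a with hx
      have hm : (l : Matrix.SpecialLinearGroup (Fin n) F) * xe b a (-x) ∈ loU n F :=
        (loU n F).mul_mem l.2 (xe_mem_uni (by simp [loB]; omega) _)
      refine ⟨hm, ?_⟩
      have hba : ((((l : Matrix.SpecialLinearGroup (Fin n) F) * xe b a (-x) :
          Matrix.SpecialLinearGroup (Fin n) F)) : Matrix (Fin n) (Fin n) F) b a = 0 := by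
        rw [Matrix.SpecialLinearGroup.coe_mul, xe_coe hne.symm, Matrix.mul_add, Matrix.mul_one,
          Matrix.add_apply, Matrix.mul_single_apply_same, mem_loU.1 l.2 b b le_rfl, if_pos rfl,
          one_mul, ← hx, add_neg_cancel]
      set g := (l : Matrix.SpecialLinearGroup (Fin n) F) * xe b a (-x)
      set G : Matrix (Fin n) (Fin n) F := (g : Matrix (Fin n) (Fin n) F) with hG
      have hl : ∀ r s : Fin n, r ≤ s → G r s = if r = s then 1 else 0 := mem_loU.1 hm
      rw [mem_loU, ← xe_neg]
      intro r s hrs
      rw [Matrix.SpecialLinearGroup.coe_mul, Matrix.SpecialLinearGroup.coe_mul, xe_coe hne,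
        xe_coe hne, ← hG]
      have key : ∀ r s, (G * (1 + Matrix.single a b t)) r s = G r s + if s = b then G r a * t else 0 := by
        intro r s
        rw [Matrix.mul_add, Matrix.mul_one, Matrix.add_apply]
        by_cases hs : s = b
        · subst hs; rw [Matrix.mul_single_apply_same, if_pos rfl]
        · rw [Matrix.mul_single_apply_of_ne (hbj := hs), if_neg hs]
      rw [Matrix.mul_assoc, Matrix.add_mul, Matrix.one_mul, Matrix.add_apply, key]
      have hrs' : r.val ≤ s.val := hrs
      by_cases hr : r = a
      · subst hr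
        rw [Matrix.single_mul_apply_same, key, hl r s hrs, hl r r le_rfl, hba, zero_mul]
        by_cases hs : s = b
        · subst hs
          simp [hne, hl s s le_rfl]
        · by_cases hs' : s = r
          · subst hs'; simp [hne, hba]
          · have : b ≤ s := by
              rw [Fin.le_def]
              simp [Fin.ext_iff] at hs'
              omega
            simp [hs, hl b s this, Ne.symm hs]
      · rw [Matrix.single_mul_apply_of_ne (h := hr), add_zero, hl r s hrs]
        by_cases hs : s = b
        · subst hs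
          by_cases hrb : r = s
          · subst hrb; simp [hba]
          · have : r ≤ a := by
              rw [Fin.le_def]
              simp [Fin.ext_iff] at hrb
              omega
            simp [hl r a this, hr]
        · simp [hs]⟩)
  refine (Nat.card_le_card_of_injective φ ?_).trans (le_of_eq ?_)
  · intro l l' e
    simp only [φ, Prod.mk.injEq, Subtype.mk.injEq] at e
    obtain ⟨e1, e2⟩ := e
    rw [e1] at e2
    exact Subtype.ext (mul_right_cancel e2)
  · rw [Nat.card_prod, Nat.card_eq_fintype_card (α := F)]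

end CfsgLib.AutPSL
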