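import Mathlib

/-!
# Elementary transvections in `SL(ι, F)` and generation

`xe i j t` is the total version of `Matrix.SpecialLinearGroup.transvection`.
-/

set_option autoImplicit false

namespace CfsgLib.AutPSL

open Matrix

variable {ι : Type*} [Fintype ι] [DecidableEq ι] {F : Type*} [Field F]

/-- The elementary transvection `1 + t E_{ij}`, and `1` when `i = j`. -/
def xe (i j : ι) (t : F) : Matrix.SpecialLinearGroup ι F :=
  if h : i ≠ j then Matrix.SpecialLinearGroup.transvection h t else 1

theorem xe_coe {i j : ι} (h : i ≠ j) (t : F) :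
    (xe i j t : Matrix ι ι F) = 1 + Matrix.single i j t := by
  rw [xe, dif_pos h]; rfl

theorem xe_eq_transvection {i j : ι} (h : i ≠ j) (t : F) :
    xe i j t = Matrix.SpecialLinearGroup.transvection h t := by rw [xe, dif_pos h]

@[simp] theorem xe_zero (i j : ι) : xe i j (0 : F) = 1 := by
  unfold xe; split_ifs <;> simp

theorem xe_add (i j : ι) (s t : F) : xe i j (s + t) = xe i j s * xe i j t := by
  by_cases h : i ≠ j
  · simp only [xe_eq_transvection h, Matrix.SpecialLinearGroup.transvection_add]
  · simp [xe, dif_neg h]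

theorem xe_neg (i j : ι) (t : F) : xe i j (-t) = (xe i j t)⁻¹ := by
  refine (inv_eq_of_mul_eq_one_right ?_).symm
  rw [← xe_add, add_neg_cancel, xe_zero]

theorem xe_nsmul (i j : ι) (t : F) (k : ℕ) : xe i j (k • t) = (xe i j t) ^ k := by
  induction k with
  | zero => simp
  | succ k ih => rw [succ_nsmul, xe_add, ih, pow_succ]

theorem xe_inj {i j : ι} (h : i ≠ j) {s t : F} : xe i j s = xe i j t ↔ s = t := by
  refine ⟨fun e => ?_, fun e => by rw [e]⟩
  have := congrArg (fun g : Matrix.SpecialLinearGroup ι F => (g : Matrix ι ι F) i j) e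
  simpa [xe_coe h, Matrix.one_apply, h] using this

/-- Commutator formula: `[x_ij(s), x_jk(t)] = x_ik(s t)`. -/
theorem xe_comm_chain {i j k : ι} (hij : i ≠ j) (hjk : j ≠ k) (hik : i ≠ k) (s t : F) :
    xe i j s * xe j k t = xe i k (s * t) * xe j k t * xe i j s := by
  apply Subtype.ext
  simp only [Matrix.SpecialLinearGroup.coe_mul, xe_coe hij, xe_coe hjk, xe_coe hik]
  simp [mul_add, add_mul, hij, hij.symm, hjk, hjk.symm, hik, hik.symm]
  abel

open scoped commutatorElement in
theorem xe_commutator {i j k : ι} (hij : i ≠ j) (hjk : j ≠ k) (hik : i ≠ k) (s t : F) :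
    ⁅xe i j s, xe j k t⁆ = xe i k (s * t) := by
  rw [commutatorElement_def, xe_comm_chain hij hjk hik s t]
  group

theorem xe_commute {i j k l : ι} (hjk : j ≠ k) (hli : l ≠ i) (s t : F) :
    Commute (xe i j s) (xe k l t) := by
  by_cases hij : i ≠ j
  · by_cases hkl : k ≠ l
    · apply Subtype.ext
      simp only [Matrix.SpecialLinearGroup.coe_mul, xe_coe hij, xe_coe hkl]
      simp [mul_add, add_mul, hjk, hli]
      abel
    · simp [xe, dif_neg hkl]
  · simp [xe, dif_neg hij]

theorem not_commute_xe_opposite {i j : ι} (hij : i ≠ j) {s t : F} (hs : s ≠ 0) (ht : t ≠ 0) :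
    ¬ Commute (xe i j s) (xe j i t) := by
  intro h
  have := congrArg (fun g : Matrix.SpecialLinearGroup ι F => (g : Matrix ι ι F) i i) h.eq
  simp [xe_coe hij, xe_coe hij.symm, mul_add, add_mul, hij, hij.symm, hs, ht] at this

theorem not_commute_xe_chain {i j k : ι} (hij : i ≠ j) (hjk : j ≠ k) (hik : i ≠ k) {s t : F}
    (hs : s ≠ 0) (ht : t ≠ 0) : ¬ Commute (xe i j s) (xe j k t) := by
  intro h
  have := congrArg (fun g : Matrix.SpecialLinearGroup ι F => (g : Matrix ι ι F) i k) h.eq
  simp [xe_coe hij, xe_coe hjk, mul_add, add_mul, hij, hij.symm, hjk, hjk.symm, hik, hik.symm,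
    hs, ht] at this

/-- `diag(a, a⁻¹)` in the coordinates `i, j` is a product of transvections. -/
theorem diag2n_eq_prod {i j : ι} (h : i ≠ j) (a : F) (ha : a ≠ 0) :
    Matrix.SpecialLinearGroup.diag2n h a ha =
      xe i j a * xe j i (-a⁻¹) * xe i j a * xe i j (-1) * xe j i 1 * xe i j (-1) := by
  apply Subtype.ext
  simp only [Matrix.SpecialLinearGroup.coe_mul, xe_coe h, xe_coe h.symm, Matrix.SpecialLinearGroup.diag2n_coe]
  simp [mul_add, add_mul, h, h.symm, ha]
  ext r c
  by_cases hr : r = i <;> by_cases hr' : r = j <;> by_cases hc : c = i <;> by_cases hc' : c = j <;>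
    simp_all [Matrix.one_apply, Matrix.diagonal_apply, Matrix.single_apply, eq_comm] <;> ring

/-- A subgroup containing all elementary transvections is everything. -/
theorem eq_top_of_xe_mem [Nontrivial ι] (H : Subgroup (Matrix.SpecialLinearGroup ι F))
    (h : ∀ i j : ι, i ≠ j → ∀ t : F, xe i j t ∈ H) : H = ⊤ := by
  refine eq_top_iff.2 fun M _ => ?_
  refine Matrix.SpecialLinearGroup.diagonal_transvection_induction' (fun g => g ∈ H) M ?_ ?_
    (fun A B hA hB => H.mul_mem hA hB)
  · intro i j hij c hc
    rw [diag2n_eq_prod hij c hc]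
    exact H.mul_mem (H.mul_mem (H.mul_mem (H.mul_mem (H.mul_mem (h _ _ hij _) (h _ _ hij.symm _))
      (h _ _ hij _)) (h _ _ hij _)) (h _ _ hij.symm _)) (h _ _ hij _)
  · intro i j hij a
    rw [← xe_eq_transvection]
    exact h i j hij a

/-- Adjacent root elements already generate `SL(n)`. -/
theorem eq_top_of_simple_mem {m : ℕ} (hm : 1 ≤ m)
    (H : Subgroup (Matrix.SpecialLinearGroup (Fin (m + 1)) F))
    (hu : ∀ (k : Fin m) (t : F), xe k.castSucc k.succ t ∈ H)
    (hl : ∀ (k : Fin m) (t : F), xe k.succ k.castSucc t ∈ H) : H = ⊤ := by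
  have : Nontrivial (Fin (m + 1)) := by
    rw [Fin.nontrivial_iff_two_le]; omega
  apply eq_top_of_xe_mem
  suffices hh : ∀ d : ℕ, ∀ i j : Fin (m + 1), i ≠ j →
      (i.val + (d + 1) = j.val ∨ j.val + (d + 1) = i.val) → ∀ t : F, xe i j t ∈ H by
    intro i j hij t
    have := Fin.val_ne_of_ne hij
    exact hh ((max i.val j.val - min i.val j.val) - 1) i j hij (by omega) t
  intro d
  induction d with
  | zero =>
    intro i j _ hd t
    rcases hd with hd | hd
    · have hi : i.val < m := by omega
      convert hu ⟨i.val, hi⟩ t using 2 <;> ext <;> simp <;> omega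
    · have hj : j.val < m := by omega
      convert hl ⟨j.val, hj⟩ t using 2 <;> ext <;> simp <;> omega
  | succ d ih =>
    intro i j hij hd t
    obtain ⟨k, hik, hkj, h1, h2⟩ : ∃ k : Fin (m + 1), i ≠ k ∧ k ≠ j ∧
        (i.val + (d + 1) = k.val ∨ k.val + (d + 1) = i.val) ∧
        (k.val + 1 = j.val ∨ j.val + 1 = k.val) := by
      rcases hd with hd | hd
      · exact ⟨⟨j.val - 1, by omega⟩, by simp [Fin.ext_iff]; omega, by simp [Fin.ext_iff]; omega,
          Or.inl (by simp; omega), Or.inl (by simp; omega)⟩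
      · exact ⟨⟨j.val + 1, by omega⟩, by simp [Fin.ext_iff]; omega, by simp [Fin.ext_iff],
          Or.inr (by simp; omega), Or.inr (by simp)⟩
    have e : xe k j t ∈ H := by
      rcases h2 with h2 | h2
      · have hk : k.val < m := by omega
        convert hu ⟨k.val, hk⟩ t using 2 <;> ext <;> simp <;> omega
      · have hj : j.val < m := by omega
        convert hl ⟨j.val, hj⟩ t using 2 <;> ext <;> simp <;> omega
    have := xe_commutator hik hkj hij (1 : F) t
    rw [one_mul] at this
    rw [← this, commutatorElement_def]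
    exact H.mul_mem (H.mul_mem (H.mul_mem (ih i k hik h1 1) e) (H.inv_mem (ih i k hik h1 1)))
      (H.inv_mem e)

/-- A matrix commuting with all elementary transvections is scalar. -/
theorem exists_scalar_of_commute (M : Matrix ι ι F)
    (h : ∀ i j : ι, i ≠ j → Commute M (xe i j (1 : F) : Matrix ι ι F)) :
    ∃ c : F, M = Matrix.scalar ι c := by
  have : M ∈ Set.range (Matrix.scalar ι) := by
    apply Matrix.mem_range_scalar_of_commute_single
    intro i j hij
    have := (h i j hij).eq
    rw [xe_coe hij, mul_add, add_mul, mul_one, one_mul] at this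
    exact (add_left_cancel this).symm
  obtain ⟨c, hc⟩ := this
  exact ⟨c, hc.symm⟩

end CfsgLib.AutPSL
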