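import Cfsg.Agent.AutPSL.Realise

/-!
# Unitriangular subgroups of `SL_n`: Sylow property and opposite conjugates
-/

set_option autoImplicit false

namespace CfsgLib.AutPSL

open Matrix
open scoped MatrixGroups

variable {ι : Type*} [Fintype ι] [DecidableEq ι] {F : Type*} [Field F]

/-- Unit diagonal and zero outside the positions `b i < b j`. -/
def IsUni (b : ι → ℤ) (M : Matrix ι ι F) : Prop :=
  ∀ i j, b j ≤ b i → M i j = if i = j then 1 else 0

omit [Fintype ι] in
theorem isUni_one (b : ι → ℤ) : IsUni b (1 : Matrix ι ι F) := fun i j _ => Matrix.one_apply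

theorem IsUni.mul {b : ι → ℤ} {A B : Matrix ι ι F} (hA : IsUni b A) (hB : IsUni b B) :
    IsUni b (A * B) := by
  intro i j hij
  rw [Matrix.mul_apply]
  by_cases h : i = j
  · subst h
    rw [Finset.sum_eq_single i]
    · rw [hA i i le_rfl, hB i i le_rfl]; simp
    · intro k _ hk
      rcases le_or_gt (b k) (b i) with hki | hki
      · rw [hA i k hki, if_neg hk.symm, zero_mul]
      · rw [hB k i hki.le, if_neg hk, mul_zero]
    · simp
  · rw [if_neg h]
    refine Finset.sum_eq_zero fun k _ => ?_
    rcases le_or_gt (b k) (b i) with hki | hki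
    · rw [hA i k hki]
      by_cases hk : i = k
      · subst hk; rw [hB i j hij, if_neg h, mul_zero]
      · rw [if_neg hk, zero_mul]
    · have hjk : b j ≤ b k := hij.trans hki.le
      rw [hB k j hjk]
      by_cases hk : k = j
      · subst hk; omega
      · rw [if_neg hk, mul_zero]

variable [Fintype F]

/-- The unitriangular subgroup of `SL` for the level function `b`. -/
def uni (b : ι → ℤ) : Subgroup (Matrix.SpecialLinearGroup ι F) where
  carrier := {g | IsUni b (g : Matrix ι ι F)}
  mul_mem' ha hb := by simpa using ha.mul hb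
  one_mem' := by simpa using isUni_one b
  inv_mem' {g} hg := by
    have hpow : ∀ k : ℕ, IsUni b ((g ^ k : Matrix.SpecialLinearGroup ι F) : Matrix ι ι F) := by
      intro k
      induction k with
      | zero => simpa using isUni_one b
      | succ k ih => rw [pow_succ]; simpa using ih.mul hg
    have : g⁻¹ = g ^ (orderOf g - 1) := by
      rw [inv_eq_iff_mul_eq_one, ← pow_succ', Nat.sub_add_cancel (orderOf_pos g), pow_orderOf_eq_one]
    simp only [Set.mem_setOf_eq, this]
    exact hpow _

theorem mem_uni {b : ι → ℤ} {g : Matrix.SpecialLinearGroup ι F} :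
    g ∈ uni b ↔ IsUni b (g : Matrix ι ι F) := Iff.rfl

theorem xe_mem_uni {b : ι → ℤ} {i j : ι} (h : b i < b j) (t : F) : xe i j t ∈ uni b := by
  have hij : i ≠ j := by rintro rfl; exact lt_irrefl _ h
  rw [mem_uni, xe_coe hij]
  intro r c hrc
  by_cases hh : r = i ∧ c = j
  · obtain ⟨rfl, rfl⟩ := hh; omega
  · rw [Matrix.add_apply, Matrix.single_apply_of_ne (h := fun e => hh ⟨e.1.symm, e.2.symm⟩),
      add_zero, Matrix.one_apply]

omit [Fintype ι] [DecidableEq ι] [Field F] in
theorem eq_zero_of_blockTriangular [Zero F] {b : ι → ℤ} {A : Matrix ι ι F}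
    (hA : A.BlockTriangular b) {i j : ι} (h : b j < b i) : A i j = 0 := hA h

/-- A triangular invertible matrix normalises the unitriangular subgroup. -/
theorem conjSL_mem_uni {b : ι → ℤ} (hb : Function.Injective b) {A : GL ι F}
    (hA : (A : Matrix ι ι F).BlockTriangular b) {g : Matrix.SpecialLinearGroup ι F}
    (hg : g ∈ uni b) : conjSL A g ∈ uni b := by
  have hAi : ((A⁻¹ : GL ι F) : Matrix ι ι F).BlockTriangular b := by
    have : Invertible (A : Matrix ι ι F) := A.invertible
    rw [Matrix.coe_units_inv]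
    exact Matrix.blockTriangular_inv_of_blockTriangular hA
  have hN : ∀ i j, b j ≤ b i → ((g : Matrix ι ι F) - 1) i j = 0 := by
    intro i j hij
    rw [Matrix.sub_apply, mem_uni.1 hg i j hij, Matrix.one_apply, sub_self]
  have e : ((conjSL A g : Matrix.SpecialLinearGroup ι F) : Matrix ι ι F) =
      1 + (A : Matrix ι ι F) * ((g : Matrix ι ι F) - 1) * ((A⁻¹ : GL ι F) : Matrix ι ι F) := by
    rw [conjSL_coe, mul_sub, sub_mul, mul_one, ← Units.val_mul, mul_inv_cancel, Units.val_one]
    abel
  rw [mem_uni, e]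
  intro i j hij
  rw [Matrix.add_apply, Matrix.one_apply]
  suffices h : ((A : Matrix ι ι F) * ((g : Matrix ι ι F) - 1) * ((A⁻¹ : GL ι F) : Matrix ι ι F)) i j = 0 by
    rw [h, add_zero]
  rw [Matrix.mul_apply]
  refine Finset.sum_eq_zero fun l _ => ?_
  rw [Matrix.mul_apply, Finset.sum_mul]
  refine Finset.sum_eq_zero fun k _ => ?_
  rcases lt_or_ge (b j) (b l) with hjl | hjl
  · rw [hAi hjl, mul_zero]
  rcases lt_or_ge (b k) (b i) with hki | hki
  · rw [hA hki, zero_mul, zero_mul]
  · rw [hN k l (hjl.trans (hij.trans hki)), mul_zero, zero_mul]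

section Fin

variable {n : ℕ}

/-- Level function of the upper unitriangular group. -/
abbrev upB (i : Fin n) : ℤ := (i.val : ℤ)

/-- Level function of the lower unitriangular group. -/
abbrev loB (i : Fin n) : ℤ := -(i.val : ℤ)

/-- The upper unitriangular group. -/
abbrev upU (n : ℕ) (F : Type*) [Field F] [Fintype F] : Subgroup (Matrix.SpecialLinearGroup (Fin n) F) :=
  uni upB

/-- The lower unitriangular group. -/
abbrev loU (n : ℕ) (F : Type*) [Field F] [Fintype F] : Subgroup (Matrix.SpecialLinearGroup (Fin n) F) :=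
  uni loB

omit [Fintype F] in
theorem upB_injective : Function.Injective (upB (n := n)) := fun i j h => Fin.ext (by simpa using h)

omit [Fintype F] in
theorem loB_injective : Function.Injective (loB (n := n)) := fun i j h => Fin.ext (by simpa using h)

theorem mem_upU {g : Matrix.SpecialLinearGroup (Fin n) F} :
    g ∈ upU n F ↔ ∀ i j : Fin n, j ≤ i → (g : Matrix (Fin n) (Fin n) F) i j = if i = j then 1 else 0 := by
  simp [mem_uni, IsUni, upB]

theorem mem_loU {g : Matrix.SpecialLinearGroup (Fin n) F} :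
    g ∈ loU n F ↔ ∀ i j : Fin n, i ≤ j → (g : Matrix (Fin n) (Fin n) F) i j = if i = j then 1 else 0 := by
  simp [mem_uni, IsUni, loB]

theorem upU_inf_loU : upU n F ⊓ loU n F = ⊥ := by
  rw [eq_bot_iff]
  intro g hg
  rw [Subgroup.mem_bot]
  apply Subtype.ext
  ext i j
  rcases le_total j i with h | h
  · simp [mem_upU.1 hg.1 i j h, Matrix.one_apply]
  · simp [mem_loU.1 hg.2 i j h, Matrix.one_apply]

/-- An element of `upU` is determined by its strictly upper entries, which are arbitrary. -/
noncomputable def upUEquiv (n : ℕ) (F : Type*) [Field F] [Fintype F] :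
    upU n F ≃ ({p : Fin n × Fin n // p.1 < p.2} → F) where
  toFun g p := ((g : Matrix.SpecialLinearGroup (Fin n) F) : Matrix (Fin n) (Fin n) F) p.1.1 p.1.2
  invFun f :=
    ⟨⟨Matrix.of fun i j => if h : i < j then f ⟨(i, j), h⟩ else if i = j then 1 else 0, by
        rw [Matrix.det_of_isUpperTriangular]
        · refine Finset.prod_eq_one fun i _ => ?_
          simp
        · intro i j hij
          simp only [id] at hij
          simp [not_lt.2 hij.le, hij.ne']⟩, by
      refine mem_upU.2 fun i j hij => ?_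
      change Matrix.of _ i j = _
      simp [not_lt.2 hij]⟩
  left_inv g := by
    apply Subtype.ext
    apply Subtype.ext
    ext i j
    by_cases h : i < j
    · simp [h]
    · simp [h, mem_upU.1 g.2 i j (not_lt.1 h)]
  right_inv f := by
    funext ⟨p, hp⟩
    simp [hp]

theorem card_upU : Nat.card (upU n F) = Fintype.card F ^ (∑ j : Fin n, (j : ℕ)) := by
  rw [Nat.card_congr (upUEquiv n F), Nat.card_fun, Nat.card_eq_fintype_card, Nat.card_eq_fintype_card]
  congr 1
  let e : {p : Fin n × Fin n // p.1 < p.2} ≃ Σ j : Fin n, Fin j :=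
    { toFun := fun p => ⟨p.1.2, ⟨p.1.1, p.2⟩⟩
      invFun := fun s => ⟨(⟨s.2, s.2.2.trans s.1.2⟩, s.1), s.2.2⟩
      left_inv := fun p => rfl
      right_inv := fun s => rfl }
  rw [Fintype.card_congr e, Fintype.card_sigma]
  simp

variable (p : ℕ) [Fact p.Prime] [CharP F p]

theorem card_GL_eq : ∃ M : ℕ, ¬ p ∣ M ∧
    Nat.card (GL (Fin n) F) = Fintype.card F ^ (∑ j : Fin n, (j : ℕ)) * M := by
  refine ⟨∏ i : Fin n, (Fintype.card F ^ (n - i) - 1), ?_, ?_⟩
  · obtain ⟨f, -, hf⟩ := FiniteField.card F p
    intro h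
    obtain ⟨i, -, hi⟩ := (Prime.dvd_finsetProd_iff (Nat.Prime.prime Fact.out) _).1 h
    have h1 : 1 ≤ Fintype.card F ^ (n - i) := Nat.one_le_pow _ _ Fintype.card_pos
    have h2 : p ∣ Fintype.card F ^ (n - i) := by
      rw [hf]
      exact dvd_pow (dvd_pow_self p f.pos.ne') (by omega)
    have := (Nat.dvd_sub h2 hi)
    rw [show Fintype.card F ^ (n - (i : ℕ)) - (Fintype.card F ^ (n - (i : ℕ)) - 1) = 1 by omega] at this
    exact (Fact.out : p.Prime).not_dvd_one this
  · rw [Matrix.card_GL_field, ← Finset.prod_pow_eq_pow_sum, ← Finset.prod_mul_distrib]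
    refine Finset.prod_congr rfl fun i _ => ?_
    rw [Nat.mul_sub, ← pow_add, mul_one, Nat.add_sub_cancel' i.2.le]

theorem card_upU_eq_ppart :
    Nat.card (upU n F) = p ^ (Nat.card (Matrix.SpecialLinearGroup (Fin n) F)).factorization p := by
  obtain ⟨M, hM, hG⟩ := card_GL_eq (n := n) (F := F) p
  obtain ⟨f, hp, hf⟩ := FiniteField.card F p
  refine Nat.dvd_antisymm ?_ ?_
  · rw [card_upU, hf, ← pow_mul]
    refine pow_dvd_pow _ ((hp.pow_dvd_iff_le_factorization Nat.card_pos.ne').1 ?_)
    rw [pow_mul, ← hf, ← card_upU]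
    exact (upU n F).card_subgroup_dvd_card
  · have h1 : Nat.card (Matrix.SpecialLinearGroup (Fin n) F) ∣ Nat.card (GL (Fin n) F) :=
      Subgroup.card_dvd_of_injective Matrix.SpecialLinearGroup.toGL
        Matrix.SpecialLinearGroup.toGL_injective
    have h2 := (Nat.ordProj_dvd (Nat.card (Matrix.SpecialLinearGroup (Fin n) F)) p).trans h1
    rw [hG, ← card_upU] at h2
    exact ((hp.coprime_iff_not_dvd.2 hM).pow_left _).dvd_of_dvd_mul_right h2

theorem isPGroup_upU : IsPGroup p (upU n F) := IsPGroup.of_card (card_upU_eq_ppart p)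

/-- `upU` as a Sylow subgroup of `SL_n`. -/
noncomputable def upSylow : Sylow p (Matrix.SpecialLinearGroup (Fin n) F) :=
  Sylow.ofCard (upU n F) (card_upU_eq_ppart p)

/-- Some element of `SL_n` conjugates `upU` to `loU`. -/
theorem exists_conj_upU_eq_loU :
    ∃ w : Matrix.SpecialLinearGroup (Fin n) F, (upU n F).map (MulAut.conj w).toMonoidHom = loU n F := by
  rcases n.eq_zero_or_pos with rfl | hn
  · exact ⟨1, Subgroup.ext fun g => by simp [Subsingleton.elim g 1, one_mem]⟩
  let π : Equiv.Perm (Fin n) := Fin.revPerm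
  let J : Matrix (Fin n) (Fin n) F := π.permMatrix F
  have hJ : J.det ≠ 0 := by
    rw [Matrix.det_permutation]
    rcases Int.units_eq_one_or (Equiv.Perm.sign π) with h | h <;> simp [h]
  let d : Fin n → F := fun i => if i = ⟨0, hn⟩ then (J.det)⁻¹ else 1
  have hd : (Matrix.diagonal d * J).det = 1 := by
    rw [Matrix.det_mul, Matrix.det_diagonal]
    simp [d, hJ]
  refine ⟨⟨Matrix.diagonal d * J, hd⟩, ?_⟩
  set w : Matrix.SpecialLinearGroup (Fin n) F := ⟨Matrix.diagonal d * J, hd⟩
  have hd0 : ∀ i, d i ≠ 0 := by intro i; simp only [d]; split_ifs <;> simp [hJ]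
  -- entries of a conjugate
  have key : ∀ (g : Matrix.SpecialLinearGroup (Fin n) F) i j,
      ((w * g * w⁻¹ : Matrix.SpecialLinearGroup (Fin n) F) : Matrix (Fin n) (Fin n) F) i j =
        d i * (g : Matrix (Fin n) (Fin n) F) i.rev j.rev * (d j)⁻¹ := by
    intro g i j
    have e : ((w * g * w⁻¹ : Matrix.SpecialLinearGroup (Fin n) F) : Matrix (Fin n) (Fin n) F) *
        (Matrix.diagonal d * J) = Matrix.diagonal d * J * (g : Matrix (Fin n) (Fin n) F) := by
      change ((w * g * w⁻¹ * w : Matrix.SpecialLinearGroup (Fin n) F) : Matrix (Fin n) (Fin n) F) =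
        ((w * g : Matrix.SpecialLinearGroup (Fin n) F) : Matrix (Fin n) (Fin n) F)
      rw [inv_mul_cancel_right]
    have := congrArg (fun M : Matrix (Fin n) (Fin n) F => M i j.rev) e
    rw [← Matrix.mul_assoc] at this
    simp only [J, π, Matrix.mul_assoc, Equiv.Perm.permMatrix, PEquiv.toMatrix_toPEquiv_mul,
      PEquiv.mul_toMatrix_toPEquiv, Matrix.diagonal_mul, Matrix.submatrix_apply, id] at this
    simp only [Matrix.mul_apply, Matrix.diagonal, PEquiv.toMatrix_apply, Equiv.toPEquiv_apply,
      Option.mem_some_iff, Fin.revPerm_apply, Matrix.of_apply] at this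
    have h2 : ∑ x, ((w * g * w⁻¹ : Matrix.SpecialLinearGroup (Fin n) F) : Matrix (Fin n) (Fin n) F) i x *
        (if x = j then d x else 0) =
        ((w * g * w⁻¹ : Matrix.SpecialLinearGroup (Fin n) F) : Matrix (Fin n) (Fin n) F) i j * d j := by
      rw [Finset.sum_eq_single j (by intro x _ hx; simp [hx]) (by simp)]
      simp
    rw [eq_mul_inv_iff_mul_eq₀ (hd0 j), ← h2]
    have h3 := this
    simp [Fin.rev_inj] at h3
    rw [Finset.sum_eq_single i.rev (fun x _ hx => if_neg (fun e => hx (by rw [e, Fin.rev_rev])))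
      (by simp), if_pos (Fin.rev_rev i).symm] at h3
    simpa using h3
  have hmem : ∀ g, w * g * w⁻¹ ∈ loU n F ↔ g ∈ upU n F := by
    intro g
    rw [mem_loU, mem_upU]
    constructor
    · intro h i j hij
      have := h i.rev j.rev (Fin.rev_le_rev.2 hij)
      rw [key] at this
      by_cases hh : i = j
      · subst hh; simpa [mul_right_comm, hd0] using this
      · simpa [hh, hd0] using this
    · intro h i j hij
      rw [key, h i.rev j.rev (Fin.rev_le_rev.2 hij)]
      by_cases hh : i = j
      · subst hh; simp [hd0]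
      · simp [hh]
  ext g
  rw [Subgroup.mem_map]
  constructor
  · rintro ⟨x, hx, rfl⟩
    exact (hmem x).2 hx
  · intro hg
    refine ⟨w⁻¹ * g * w, (hmem _).1 (by simpa [mul_assoc] using hg), by simp [mul_assoc]⟩

omit [Fact p.Prime] [CharP F p] in
/-- If a conjugate of `loU` meets `upU` trivially, it is a conjugate under `upU`. -/
theorem exists_upU_conj_of_inf_eq_bot (h : Matrix.SpecialLinearGroup (Fin n) F)
    (htriv : ∀ x ∈ upU n F, h⁻¹ * x * h ∈ loU n F → x = 1) :
    ∃ u ∈ upU n F, (loU n F).map (MulAut.conj h).toMonoidHom =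
      (loU n F).map (MulAut.conj u).toMonoidHom := by
  set H : Matrix (Fin n) (Fin n) F := ↑h with hH
  set Hi : Matrix (Fin n) (Fin n) F := ↑(h⁻¹) with hHi
  have hHHi : H * Hi = 1 := by
    rw [hH, hHi, ← Matrix.SpecialLinearGroup.coe_mul, mul_inv_cancel, Matrix.SpecialLinearGroup.coe_one]
  have hHiH : Hi * H = 1 := by
    rw [hH, hHi, ← Matrix.SpecialLinearGroup.coe_mul, inv_mul_cancel, Matrix.SpecialLinearGroup.coe_one]
  let P : Fin n → Fin n → F := fun k i => if i < k then 1 else 0
  let M : Fin n → Matrix (Fin n) (Fin n) F := fun k =>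
    Matrix.diagonal (P k) + H * (1 - Matrix.diagonal (P k))
  have hMv : ∀ k v, M k *ᵥ v = (fun i => P k i * v i) + H *ᵥ (fun i => (1 - P k i) * v i) := by
    intro k v
    simp only [M, Matrix.add_mulVec, ← Matrix.mulVec_mulVec, Matrix.sub_mulVec, Matrix.one_mulVec]
    congr 1
    · funext i; simp [Matrix.mulVec_diagonal]
    · congr 1; funext i; simp [Matrix.mulVec_diagonal, sub_mul]
  have hdet : ∀ k, (M k).det ≠ 0 := by
    intro k hk
    obtain ⟨v, hv0, hv⟩ := Matrix.exists_mulVec_eq_zero_iff.2 hk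
    obtain ⟨r, hr0, hr⟩ := Matrix.exists_vecMul_eq_zero_iff.2 hk
    rw [hMv] at hv
    -- `w` lies in both subspaces, `r` kills both
    set w : Fin n → F := fun i => P k i * v i with hw
    have hw1 : ∀ i, k ≤ i → w i = 0 := fun i hi => by simp [hw, P, not_lt.2 hi]
    have hw2 : ∀ i, i < k → (Hi *ᵥ w) i = 0 := by
      intro i hi
      have e : w = - (H *ᵥ (fun i => (1 - P k i) * v i)) := eq_neg_of_add_eq_zero_left hv
      rw [e, Matrix.mulVec_neg, Matrix.mulVec_mulVec, hHiH, Matrix.one_mulVec]
      simp [P, hi]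
    have hw0 : w ≠ 0 := by
      intro hw0
      rw [hw0, zero_add] at hv
      have := congrArg (Hi *ᵥ ·) hv
      simp only [Matrix.mulVec_mulVec, hHiH, Matrix.one_mulVec, Matrix.mulVec_zero] at this
      apply hv0
      funext i
      by_cases hi : i < k
      · simpa [hw, P, hi] using congrFun hw0 i
      · simpa [P, hi] using congrFun this i
    have hr' : ∀ i, r i * P k i + (r ᵥ* H) i * (1 - P k i) = 0 := by
      intro i
      have := congrFun hr i
      simp only [M, Matrix.vecMul_add, ← Matrix.vecMul_vecMul, Matrix.vecMul_sub, Matrix.vecMul_one,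
        Matrix.vecMul_diagonal, Pi.add_apply, Pi.sub_apply, Pi.zero_apply] at this
      linear_combination this
    have hr1 : ∀ i, i < k → r i = 0 := fun i hi => by simpa [P, hi] using hr' i
    have hr2 : ∀ i, k ≤ i → (r ᵥ* H) i = 0 := fun i hi => by simpa [P, not_lt.2 hi] using hr' i
    have hrw : r ⬝ᵥ w = 0 := Finset.sum_eq_zero fun i _ => by
      rcases lt_or_ge i k with hi | hi
      · rw [hr1 i hi, zero_mul]
      · rw [hw1 i hi, mul_zero]
    let t : Matrix.SpecialLinearGroup (Fin n) F := ⟨1 + Matrix.vecMulVec w r, by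
      rw [Matrix.vecMulVec_eq Unit, Matrix.det_one_add_replicateCol_mul_replicateRow, hrw, add_zero]⟩
    have ht : t ∈ upU n F := by
      rw [mem_upU]
      intro i j hij
      change (1 + Matrix.vecMulVec w r) i j = _
      rw [Matrix.add_apply, Matrix.one_apply, Matrix.vecMulVec_apply]
      rcases lt_or_ge j k with hj | hj
      · rw [hr1 j hj, mul_zero, add_zero]
      · rw [hw1 i (hj.trans hij), zero_mul, add_zero]
    have ht' : h⁻¹ * t * h ∈ loU n F := by
      rw [mem_loU]
      intro i j hij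
      change (Hi * (1 + Matrix.vecMulVec w r) * H) i j = _
      rw [Matrix.mul_add, Matrix.add_mul, Matrix.mul_one, hHiH, Matrix.mul_vecMulVec,
        Matrix.vecMulVec_mul, Matrix.add_apply, Matrix.one_apply, Matrix.vecMulVec_apply]
      rcases lt_or_ge i k with hi | hi
      · rw [hw2 i hi, zero_mul, add_zero]
      · rw [hr2 j (hi.trans hij), mul_zero, add_zero]
    have := congrArg (fun g : Matrix.SpecialLinearGroup (Fin n) F =>
      (g : Matrix (Fin n) (Fin n) F)) (htriv t ht ht')
    simp only [t, Matrix.SpecialLinearGroup.coe_one, add_eq_left] at this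
    obtain ⟨a, ha⟩ := Function.ne_iff.1 hw0
    obtain ⟨c, hc⟩ := Function.ne_iff.1 hr0
    have := congrArg (fun X : Matrix (Fin n) (Fin n) F => X a c) this
    simp [Matrix.vecMulVec_apply] at this
    rcases this with h' | h'
    · exact ha h'
    · exact hc h'
  -- the columns of the upper factor
  have hex : ∀ k, ∃ w : Fin n → F, (∀ i, k ≤ i → w i = if i = k then 1 else 0) ∧
      ∀ i, i < k → (Hi *ᵥ w) i = 0 := by
    intro k
    have hu : IsUnit (M k) := (Matrix.isUnit_iff_isUnit_det _).2 (isUnit_iff_ne_zero.2 (hdet k))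
    obtain ⟨v, hv⟩ := (Matrix.mulVec_surjective_iff_isUnit.2 hu) (Pi.single k 1)
    rw [hMv] at hv
    refine ⟨H *ᵥ (fun i => (1 - P k i) * v i), fun i hi => ?_, fun i hi => ?_⟩
    · have := congrFun hv i
      simpa [P, not_lt.2 hi, Pi.single_apply] using this
    · rw [Matrix.mulVec_mulVec, hHiH, Matrix.one_mulVec]
      simp [P, hi]
  choose c hc1 hc2 using hex
  let u : Matrix.SpecialLinearGroup (Fin n) F := ⟨Matrix.of fun i k => c k i, by
    rw [Matrix.det_of_isUpperTriangular]
    · refine Finset.prod_eq_one fun i _ => ?_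
      simpa using hc1 i i le_rfl
    · intro i j hij
      simp only [id] at hij
      simpa [hij.ne'] using hc1 j i hij.le⟩
  have hu : u ∈ upU n F := by
    rw [mem_upU]
    intro i j hij
    exact hc1 j i hij
  refine ⟨u, hu, ?_⟩
  have htri : ((h⁻¹ * u : Matrix.SpecialLinearGroup (Fin n) F) : Matrix (Fin n) (Fin n) F).BlockTriangular
      (loB (n := n)) := by
    intro i j hij
    have hlt : i < j := by simpa [loB] using hij
    exact hc2 j i hlt
  have hfix : (loU n F).map (MulAut.conj (h⁻¹ * u)).toMonoidHom = loU n F := by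
    have : ∀ x ∈ loU n F, MulAut.conj (h⁻¹ * u) x ∈ loU n F := by
      intro x hx
      rw [← conjSL_toGL]
      exact conjSL_mem_uni loB_injective htri hx
    refine Subgroup.eq_of_le_of_card_ge ?_ (le_of_eq ?_)
    · rintro y ⟨x, hx, rfl⟩
      exact this x hx
    · rw [Subgroup.card_map_of_injective (MulAut.conj (h⁻¹ * u)).injective]
  conv_lhs => rw [← hfix, Subgroup.map_map]
  congr 1
  ext1 x
  simp [mul_assoc]

end Fin

end CfsgLib.AutPSL
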